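import Mathlib
import Cfsg.Agent.Lib.Basic.PCore
import Cfsg.Agent.Lib.Solvable.PSeries3
import Cfsg.Agent.Lib.Components.Fitting
import Cfsg.Agent.Lib.PGroup.FrattiniBasis
import Cfsg.Agent.Lib.Ward.Weights

/-!
# Elements acting trivially on the Fitting sections

In a finite solvable group, a `2`-element that centralises each `O_t(Y)`, `t` an odd prime, and acts
trivially on `O_2(Y)` modulo squares lies in `O_2(Y)`.
-/

set_option autoImplicit false
set_option linter.unusedSectionVars false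
set_option linter.style.haveILetI false

namespace Cfsg.Agent.Lib.Gross.CoreAct

open Cfsg Cfsg.Agent.Lib.Basic.PCore
open scoped commutatorElement

variable {Y : Type*} [Group Y] [Finite Y]

/-- A group whose elements of odd order are central is nilpotent. -/
theorem isNilpotent_of_odd_central {T : Type*} [Group T] [Finite T]
    (h : ∀ g : T, Odd (orderOf g) → g ∈ Subgroup.center T) : Group.IsNilpotent T := by
  haveI : Fact (Nat.Prime 2) := ⟨Nat.prime_two⟩
  have hp : IsPGroup 2 (T ⧸ Subgroup.center T) := by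
    intro x
    obtain ⟨t, rfl⟩ := QuotientGroup.mk_surjective x
    obtain ⟨k, m, hm, hord⟩ := Nat.exists_eq_two_pow_mul_odd (orderOf_pos t).ne'
    refine ⟨k, ?_⟩
    rw [← QuotientGroup.mk_pow, QuotientGroup.eq_one_iff]
    apply h
    have e : orderOf (t ^ 2 ^ k) = m := by
      rw [orderOf_pow' t (by positivity), hord, Nat.gcd_eq_right (Dvd.intro _ rfl)]
      exact Nat.mul_div_cancel_left _ (by positivity)
    rw [e]
    exact hm
  haveI := hp.isNilpotent
  exact Group.of_quotient_center_nilpotent ‹_›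

/-- The subgroup of elements acting trivially on the Fitting sections. -/
def actT (Y : Type*) [Group Y] [Finite Y] [Fact (Nat.Prime 2)] : Subgroup Y where
  carrier := {g | (∀ t : ℕ, t.Prime → t ≠ 2 → ∀ h ∈ pCore t Y, g * h * g⁻¹ = h) ∧
    ∀ p ∈ pCore 2 Y, g * p * g⁻¹ * p⁻¹ ∈ (frattini (pCore 2 Y)).map (pCore 2 Y).subtype}
  mul_mem' := by
    rintro g g' ⟨h1, h2⟩ ⟨h1', h2'⟩
    haveI : ((frattini (pCore 2 Y)).map (pCore 2 Y).subtype).Normal :=
      map_subtype_normal_of_characteristic _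
    refine ⟨fun t ht ht2 h hh => ?_, fun p hp => ?_⟩
    · have e1 := h1' t ht ht2 h hh
      have e2 := h1 t ht ht2 h hh
      calc g * g' * h * (g * g')⁻¹ = g * (g' * h * g'⁻¹) * g⁻¹ := by group
        _ = h := by rw [e1, e2]
    · have e : g * g' * p * (g * g')⁻¹ * p⁻¹ = g * (g' * p * g'⁻¹ * p⁻¹) * g⁻¹ * (g * p * g⁻¹ * p⁻¹) := by
        group
      rw [e]
      exact mul_mem (Subgroup.Normal.conj_mem ‹_› _ (h2' p hp) g) (h2 p hp)
  one_mem' := by
    haveI : ((frattini (pCore 2 Y)).map (pCore 2 Y).subtype).Normal :=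
      map_subtype_normal_of_characteristic _
    refine ⟨fun t _ _ h _ => by simp, fun p _ => ?_⟩
    simp
  inv_mem' := by
    rintro g ⟨h1, h2⟩
    haveI : ((frattini (pCore 2 Y)).map (pCore 2 Y).subtype).Normal :=
      map_subtype_normal_of_characteristic _
    refine ⟨fun t ht ht2 h hh => ?_, fun p hp => ?_⟩
    · have e2 := h1 t ht ht2 h hh
      calc g⁻¹ * h * g⁻¹⁻¹ = g⁻¹ * (g * h * g⁻¹) * g := by simp [e2]
        _ = h := by group
    · have hp' : g⁻¹ * p * g ∈ pCore 2 Y := by
        have := (pCore_normal 2 Y).conj_mem p hp g⁻¹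
        simpa using this
      have h3 := h2 _ hp'
      have e : g⁻¹ * p * g⁻¹⁻¹ * p⁻¹ = (g * (g⁻¹ * p * g) * g⁻¹ * (g⁻¹ * p * g)⁻¹)⁻¹ := by
        group
      rw [e]
      exact inv_mem h3

theorem actT_normal [Fact (Nat.Prime 2)] : (actT Y).Normal := by
  haveI hΦ : ((frattini (pCore 2 Y)).map (pCore 2 Y).subtype).Normal :=
    map_subtype_normal_of_characteristic _
  refine ⟨?_⟩
  rintro g ⟨h1, h2⟩ x
  refine ⟨fun t ht ht2 h hh => ?_, fun p hp => ?_⟩
  · have hh' : x⁻¹ * h * x ∈ pCore t Y := by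
      have := (pCore_normal t Y).conj_mem h hh x⁻¹
      simpa using this
    have e2 := h1 t ht ht2 _ hh'
    calc x * g * x⁻¹ * h * (x * g * x⁻¹)⁻¹ = x * (g * (x⁻¹ * h * x) * g⁻¹) * x⁻¹ := by group
      _ = h := by rw [e2]; group
  · have hp' : x⁻¹ * p * x ∈ pCore 2 Y := by
      have := (pCore_normal 2 Y).conj_mem p hp x⁻¹
      simpa using this
    have h3 := h2 _ hp'
    have e : x * g * x⁻¹ * p * (x * g * x⁻¹)⁻¹ * p⁻¹ =
        x * (g * (x⁻¹ * p * x) * g⁻¹ * (x⁻¹ * p * x)⁻¹) * x⁻¹ := by group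
    rw [e]
    exact hΦ.conj_mem _ h3 x

/-- The elements of odd order in `actT` are central in it. -/
theorem odd_central [Fact (Nat.Prime 2)] (hsol : Group.IsSolvable Y) (g : Y) (hg : g ∈ actT Y) (hodd : Odd (orderOf g)) :
    ∀ t ∈ actT Y, t * g * t⁻¹ = g := by
  classical
  set P := pCore 2 Y with hP
  have hPp : IsPGroup 2 P := pCore_isPGroup 2
  -- `g` centralises `P`
  have hgP : ∀ x ∈ P, g * x = x * g := by
    have hcop : (Nat.card (Subgroup.zpowers g)).Coprime 2 := by
      rw [Nat.card_zpowers]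
      exact Nat.coprime_two_right.mpr hodd
    have hnorm : Subgroup.zpowers g ≤ Subgroup.normalizer (P : Set Y) := by
      rw [Subgroup.zpowers_le]
      rw [Subgroup.normalizer_eq_top_iff.mpr (pCore_normal 2 Y)]
      exact Subgroup.mem_top g
    have hcomm : ⁅P, Subgroup.zpowers g⁆ ≤ (frattini P).map P.subtype := by
      rw [Subgroup.commutator_le]
      intro p hp z hz
      have hzT : z ∈ actT Y := by
        obtain ⟨k, rfl⟩ := hz
        exact zpow_mem hg k
      have h1 := hzT.2 p hp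
      have e : ⁅p, z⁆ = (z * p * z⁻¹ * p⁻¹)⁻¹ := by
        rw [commutatorElement_def]
        group
      rw [e]
      exact inv_mem h1
    have h1 := Cfsg.Agent.Lib.Solvable.PSeries3.le_centralizer_of_commutator_le_frattini hPp hnorm hcop hcomm
    intro x hx
    exact Subgroup.mem_centralizer_iff.mp (h1 hx) g (Subgroup.mem_zpowers g)
  -- the odd part of the Fitting subgroup
  set H : Subgroup Y := ⨆ (t : ℕ) (_ : t.Prime ∧ t ≠ 2), pCore t Y with hH
  have hHc : ∀ u ∈ actT Y, ∀ x ∈ H, u * x = x * u := by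
    intro u hu x hx
    have hle : H ≤ Subgroup.centralizer ({u} : Set Y) := by
      refine iSup₂_le ?_
      rintro t ⟨ht, ht2⟩ h hh
      rw [Subgroup.mem_centralizer_iff]
      intro z hz
      rw [Set.mem_singleton_iff.mp hz]
      have h1 := hu.1 t ht ht2 h hh
      calc u * h = (u * h * u⁻¹) * u := by group
        _ = h * u := by rw [h1]
    exact Subgroup.mem_centralizer_iff.mp (hle hx) u rfl
  have hFle : fittingSubgroup Y ≤ P ⊔ H := by
    rw [fittingSubgroup_eq_iSup_pCore]
    refine iSup_le ?_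
    rintro ⟨t, ht⟩
    by_cases ht2 : t = 2
    · subst ht2
      exact le_sup_left
    · exact le_trans (le_iSup₂ (f := fun (t : ℕ) (_ : t.Prime ∧ t ≠ 2) => pCore t Y) t
        ⟨Nat.prime_of_mem_primeFactors ht, ht2⟩) le_sup_right
  have hFg : ∀ x ∈ fittingSubgroup Y, g * x = x * g := by
    intro x hx
    have hle : P ⊔ H ≤ Subgroup.centralizer ({g} : Set Y) := by
      refine sup_le ?_ ?_
      · intro p hp
        rw [Subgroup.mem_centralizer_iff]
        intro z hz
        rw [Set.mem_singleton_iff.mp hz]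
        exact hgP p hp
      · intro h hh
        rw [Subgroup.mem_centralizer_iff]
        intro z hz
        rw [Set.mem_singleton_iff.mp hz]
        exact hHc g hg h hh
    exact Subgroup.mem_centralizer_iff.mp (hle (hFle hx)) g rfl
  have hgF : g ∈ fittingSubgroup Y := by
    set C := Subgroup.centralizer (fittingSubgroup Y : Set Y) with hC
    haveI : C.Normal := inferInstance
    have hsolC : Group.IsSolvable C := inferInstance
    have h1 : C ≤ fittingSubgroup Y :=
      Cfsg.Agent.Lib.Components.Fitting.le_fitting_of_solvable_of_le_centralizer C le_rfl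
        (by
          rw [Subgroup.normalizer_eq_top_iff.mpr ‹C.Normal›]
          exact le_top) hsolC
    apply h1
    rw [Subgroup.mem_centralizer_iff]
    intro x hx
    exact (hFg x hx).symm
  obtain ⟨p, hp, h, hh, rfl⟩ : ∃ p ∈ P, ∃ h ∈ H, p * h = g := by
    have := hFle hgF
    rwa [Subgroup.mem_sup_of_normal_left] at this
  have hcomm : Commute p h := by
    have hle : H ≤ Subgroup.centralizer ({p} : Set Y) := by
      refine iSup₂_le ?_
      rintro t ⟨ht, ht2⟩ x hx
      rw [Subgroup.mem_centralizer_iff]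
      intro z hz
      rw [Set.mem_singleton_iff.mp hz]
      haveI : Fact t.Prime := ⟨ht⟩
      have := Subgroup.commute_of_normal_of_disjoint _ _ (pCore_normal 2 Y) (pCore_normal t Y)
        (IsPGroup.disjoint_of_ne 2 t (Ne.symm ht2) _ _ (pCore_isPGroup 2) (pCore_isPGroup t)) p x hp hx
      exact this
    exact (Subgroup.mem_centralizer_iff.mp (hle hh) p rfl)
  -- `p` lies in `H`
  set k := orderOf (p * h) with hk
  have hkp : (p * h) ^ k = 1 := pow_orderOf_eq_one _
  have hpk : p ^ k ∈ H := by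
    rw [hcomm.mul_pow] at hkp
    have : p ^ k = (h ^ k)⁻¹ := eq_inv_of_mul_eq_one_left hkp
    rw [this]
    exact inv_mem (pow_mem hh k)
  have hpH : p ∈ H := by
    obtain ⟨e, he⟩ := hPp ⟨p, hp⟩
    have he' : p ^ 2 ^ e = 1 := by
      have := congrArg Subtype.val he
      simpa using this
    exact Cfsg.Agent.Lib.Ward.mem_of_pow_mem he' hpk (Nat.Coprime.pow_right _ (Nat.coprime_two_right.mpr hodd))
  intro t ht
  have e1 := hHc t ht p hpH
  have e2 := hHc t ht h hh
  calc t * (p * h) * t⁻¹ = (t * p) * h * t⁻¹ := by group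
    _ = p * (t * h) * t⁻¹ := by rw [e1]; group
    _ = p * h * (t * t⁻¹) := by rw [e2]; group
    _ = p * h := by simp

/-- **A `2`-element acting trivially on the Fitting sections lies in `O_2`.** -/
theorem mem_pCore_two (hsol : Group.IsSolvable Y) {y : Y} {k : ℕ} (hy : y ^ 2 ^ k = 1)
    [Fact (Nat.Prime 2)] (hyT : y ∈ actT Y) : y ∈ pCore 2 Y := by
  have hnil : Group.IsNilpotent (actT Y) := by
    apply isNilpotent_of_odd_central
    intro g hg
    rw [Subgroup.mem_center_iff]
    intro t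
    have hg' : Odd (orderOf (g : Y)) := by rwa [Subgroup.orderOf_coe]
    have := odd_central hsol g.1 g.2 hg' t.1 t.2
    apply Subtype.ext
    show t.1 * g.1 = g.1 * t.1
    calc t.1 * g.1 = (t.1 * g.1 * t.1⁻¹) * t.1 := by group
      _ = g.1 * t.1 := by rw [this]
  have hord : ∃ m, orderOf y = 2 ^ m := by
    have := (Nat.dvd_prime_pow Nat.prime_two).mp (orderOf_dvd_of_pow_eq_one hy)
    obtain ⟨m, -, hm⟩ := this
    exact ⟨m, hm⟩
  obtain ⟨m, hm⟩ := hord
  exact mem_pCore_of_normal_nilpotent actT_normal hnil hyT Nat.prime_two hm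

/-- **The final form.** A `2`-element centralising the odd cores and acting trivially modulo squares
on `O_2` lies in `O_2`. -/
theorem mem_pCore_two_of_squares (hsol : Group.IsSolvable Y) {y : Y} {k : ℕ} (hy : y ^ 2 ^ k = 1)
    (hodd : ∀ t : ℕ, t.Prime → t ≠ 2 → ∀ h ∈ pCore t Y, y * h * y⁻¹ = h)
    (htwo : ∀ p ∈ pCore 2 Y, ∃ u ∈ pCore 2 Y, y * p * y⁻¹ = p * u ^ 2) : y ∈ pCore 2 Y := by
  haveI : Fact (Nat.Prime 2) := ⟨Nat.prime_two⟩
  refine mem_pCore_two hsol hy ⟨hodd, ?_⟩
  intro p hp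
  obtain ⟨u, hu, e⟩ := htwo p hp
  have hPp : IsPGroup 2 (pCore 2 Y) := pCore_isPGroup 2
  have e1 : y * p * y⁻¹ * p⁻¹ = p * u ^ 2 * p⁻¹ := by rw [e]
  rw [e1]
  haveI hΦ : ((frattini (pCore 2 Y)).map (pCore 2 Y).subtype).Normal :=
    map_subtype_normal_of_characteristic _
  apply hΦ.conj_mem
  exact ⟨⟨u, hu⟩ ^ 2, Cfsg.Agent.Lib.PGroup.FrattiniBasis.pow_mem_frattini hPp _, by simp⟩

end Cfsg.Agent.Lib.Gross.CoreAct
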