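import Mathlib
import Cfsg.Agent.Lib.HallHigman.Core

/-!
# Counting the commutant of an operator normalising a Heisenberg type representation

No simplicity is assumed: `End W` is free of rank `|Y / C|` over the commutant of `ρ(Y)`, and an operator
`T` inducing `σ` on `ρ(Y)` has commutant at most (number of `σ`-orbits on `Y / C`) times that.
-/

set_option autoImplicit false
set_option linter.unusedSectionVars false

namespace Cfsg.Agent.Lib.Gross.Count

open Module Cfsg.Agent.Lib.OddOrder.HHCore Cfsg.Agent.Lib.HallHigman.Commutant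

section orbit

/-- Representatives of the cycles of a permutation which is free outside an invariant set `F`. -/
theorem exists_orbit_reps_F {Ω : Type*} [Fintype Ω] (π : Equiv.Perm Ω) (F : Set Ω)
    (hF : ∀ c, π c ∈ F ↔ c ∈ F) {A : ℕ} (hA : 0 < A)
    (hfree : ∀ c, c ∉ F → ∀ i, 0 < i → i < A → (π ^ i) c ≠ c) :
    ∃ (n : ℕ) (r : Fin n → Ω), (∀ c, ∃ q i, c = (π ^ i) (r q)) ∧ ∃ n₁ n₂ : ℕ, n = n₁ + n₂ ∧
      n₁ * A + Nat.card F ≤ Fintype.card Ω ∧ n₂ ≤ Nat.card F ∧
      ((∃ f ∈ F, π f ≠ f) → n₂ + 1 ≤ Nat.card F) := by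
  classical
  let S : Setoid Ω := Equiv.Perm.SameCycle.setoid π
  let Q := Quotient S
  haveI : Fintype Q := Fintype.ofFinite _
  let r₀ : Q → Ω := Quotient.out
  have hr₀ : ∀ q : Q, (Quotient.mk S (r₀ q) : Q) = q := fun q => Quotient.out_eq q
  have hFpow : ∀ (i : ℕ) (c : Ω), (π ^ i) c ∈ F ↔ c ∈ F := by
    intro i c
    induction i with
    | zero => rfl
    | succ i ih => rw [pow_succ', Equiv.Perm.mul_apply, hF, ih]
  -- the free part
  let f : {q : Q // r₀ q ∉ F} × Fin A → {c : Ω // c ∉ F} := fun t =>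
    ⟨(π ^ (t.2 : ℕ)) (r₀ t.1.1), fun h => t.1.2 ((hFpow _ _).mp h)⟩
  have hf : Function.Injective f := by
    rintro ⟨⟨q, hq⟩, i⟩ ⟨⟨q', hq'⟩, j⟩ h
    have h1 : (π ^ (i : ℕ)) (r₀ q) = (π ^ (j : ℕ)) (r₀ q') := congrArg Subtype.val h
    have hsame : Equiv.Perm.SameCycle π (r₀ q) (r₀ q') := by
      refine ⟨((j : ℕ) : ℤ) * (-1) + (i : ℕ), ?_⟩
      rw [zpow_add, Equiv.Perm.mul_apply]
      rw [mul_neg, mul_one, zpow_neg, zpow_natCast, zpow_natCast, h1]
      simp
    have hqq : q = q' := by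
      rw [← hr₀ q, ← hr₀ q']
      exact Quotient.sound hsame
    subst hqq
    have hij : (i : ℕ) = j := by
      by_contra hij
      rcases lt_or_gt_of_ne hij with hlt | hgt
      · have e : (π ^ ((j : ℕ) - i)) ((π ^ (i : ℕ)) (r₀ q)) = (π ^ (i : ℕ)) (r₀ q) := by
          rw [← Equiv.Perm.mul_apply, ← pow_add]
          have : (j : ℕ) - i + i = j := by omega
          rw [this, h1]
        have e2 : (π ^ (i : ℕ)) ((π ^ ((j : ℕ) - i)) (r₀ q)) = (π ^ (i : ℕ)) (r₀ q) := by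
          rw [← Equiv.Perm.mul_apply, ← pow_add, add_comm, pow_add, Equiv.Perm.mul_apply, e]
        exact hfree (r₀ q) hq ((j : ℕ) - i) (by omega) (by have := j.2; omega)
          ((π ^ (i : ℕ)).injective e2)
      · have e : (π ^ ((i : ℕ) - j)) ((π ^ (j : ℕ)) (r₀ q)) = (π ^ (j : ℕ)) (r₀ q) := by
          rw [← Equiv.Perm.mul_apply, ← pow_add]
          have : (i : ℕ) - j + j = i := by omega
          rw [this, h1]
        have e2 : (π ^ (j : ℕ)) ((π ^ ((i : ℕ) - j)) (r₀ q)) = (π ^ (j : ℕ)) (r₀ q) := by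
          rw [← Equiv.Perm.mul_apply, ← pow_add, add_comm, pow_add, Equiv.Perm.mul_apply, e]
        exact hfree (r₀ q) hq ((i : ℕ) - j) (by omega) (by have := i.2; omega)
          ((π ^ (j : ℕ)).injective e2)
    have hi : i = j := Fin.ext hij
    subst hi
    rfl
  have hcard := Fintype.card_le_of_injective f hf
  rw [Fintype.card_prod, Fintype.card_fin] at hcard
  -- the part in `F`
  let g : {q : Q // r₀ q ∈ F} → F := fun q => ⟨r₀ q.1, q.2⟩
  have hg : Function.Injective g := by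
    rintro ⟨q, hq⟩ ⟨q', hq'⟩ h
    have h1 : r₀ q = r₀ q' := congrArg Subtype.val h
    apply Subtype.ext
    show q = q'
    rw [← hr₀ q, ← hr₀ q', h1]
  have hFcard : Nat.card F = Fintype.card {c : Ω // c ∈ F} := Nat.card_eq_fintype_card
  have hcard2 : Fintype.card {q : Q // r₀ q ∈ F} ≤ Nat.card F := by
    rw [hFcard]
    exact Fintype.card_le_of_injective g hg
  have hQsplit : Fintype.card {q : Q // r₀ q ∈ F} + Fintype.card {q : Q // r₀ q ∉ F} = Fintype.card Q := by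
    rw [Fintype.card_subtype_compl]
    have := Fintype.card_subtype_le (fun q : Q => r₀ q ∈ F)
    omega
  have hΩsplit : Fintype.card {c : Ω // c ∈ F} + Fintype.card {c : Ω // c ∉ F} = Fintype.card Ω := by
    rw [Fintype.card_subtype_compl]
    have := Fintype.card_subtype_le (fun c : Ω => c ∈ F)
    omega
  let e := Fintype.equivFin Q
  refine ⟨Fintype.card Q, fun q => r₀ (e.symm q), ?_, Fintype.card {q : Q // r₀ q ∉ F},
    Fintype.card {q : Q // r₀ q ∈ F}, ?_, ?_, hcard2, ?_⟩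
  · intro c
    have hc : Equiv.Perm.SameCycle π (r₀ (Quotient.mk S c)) c := by
      have : S.r (r₀ (Quotient.mk S c)) c := Quotient.exact (hr₀ _)
      exact this
    obtain ⟨i, hi⟩ := hc.exists_nat_pow_eq
    refine ⟨e (Quotient.mk S c), i, ?_⟩
    simp only [Equiv.symm_apply_apply]
    exact hi.symm
  · omega
  · rw [hFcard]
    omega
  · rintro ⟨f₀, hf₀, hne⟩
    by_contra hcon
    have hlt : Fintype.card {q : Q // r₀ q ∈ F} = Fintype.card {c : Ω // c ∈ F} := by
      rw [← hFcard]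
      omega
    have hsurj : Function.Surjective g :=
      ((Fintype.bijective_iff_injective_and_card g).mpr ⟨hg, hlt⟩).2
    have hf₁ : π f₀ ∈ F := (hF _).mpr hf₀
    obtain ⟨⟨q₀, hq₀⟩, h0⟩ := hsurj ⟨f₀, hf₀⟩
    obtain ⟨⟨q₁, hq₁⟩, h1⟩ := hsurj ⟨π f₀, hf₁⟩
    have h0' : r₀ q₀ = f₀ := congrArg Subtype.val h0
    have h1' : r₀ q₁ = π f₀ := congrArg Subtype.val h1
    have hqq : q₀ = q₁ := by
      rw [← hr₀ q₀, ← hr₀ q₁, h0', h1']
      apply Quotient.sound
      show Equiv.Perm.SameCycle π f₀ (π f₀)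
      exact ⟨1, by simp⟩
    subst hqq
    apply hne
    exact h1'.symm.trans h0'

end orbit

section heis

variable {k : Type*} [Field k] {W : Type*} [AddCommGroup W] [Module k W]
variable {Y : Type*} [Group Y] [Fintype Y]

/-- The commutant of `ρ(Y)`. -/
def centr (ρ : Y →* End k W) : Submodule k (End k W) where
  carrier := {E | ∀ y, E * ρ y = ρ y * E}
  add_mem' := by
    intro a b ha hb y
    rw [add_mul, mul_add, ha y, hb y]
  zero_mem' := by intro y; simp
  smul_mem' := by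
    intro c a ha y
    rw [smul_mul_assoc, mul_smul_comm, ha y]

theorem mem_centr {ρ : Y →* End k W} {E : End k W} : E ∈ centr ρ ↔ ∀ y, E * ρ y = ρ y * E := Iff.rfl

/-- Averaging. -/
noncomputable def avg (ρ : Y →* End k W) : End k W →ₗ[k] End k W :=
  ∑ y : Y, (LinearMap.mulLeft k (ρ y)) ∘ₗ (LinearMap.mulRight k (ρ y⁻¹))

theorem avg_apply (ρ : Y →* End k W) (A : End k W) : avg ρ A = ∑ y : Y, ρ y * A * ρ y⁻¹ := by
  simp [avg, LinearMap.sum_apply, mul_assoc]

theorem rho_inv_mul' (ρ : Y →* End k W) (u : Y) : ρ u⁻¹ * ρ u = 1 := by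
  rw [← map_mul, inv_mul_cancel, map_one]

theorem rho_mul_inv' (ρ : Y →* End k W) (u : Y) : ρ u * ρ u⁻¹ = 1 := by
  rw [← map_mul, mul_inv_cancel, map_one]

theorem avg_mem_centr (ρ : Y →* End k W) (A : End k W) : avg ρ A ∈ centr ρ := by
  intro u
  rw [avg_apply, Finset.sum_mul, Finset.mul_sum]
  refine (Fintype.sum_equiv (Equiv.mulLeft u⁻¹) _ _ (fun y => ?_))
  simp only [Equiv.coe_mulLeft]
  have e1 : ρ (u⁻¹ * y) = ρ u⁻¹ * ρ y := map_mul ρ _ _
  have e2 : ρ ((u⁻¹ * y)⁻¹) = ρ y⁻¹ * ρ u := by rw [mul_inv_rev, inv_inv, map_mul]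
  rw [e1, e2]
  calc ρ y * A * ρ y⁻¹ * ρ u = (ρ u * ρ u⁻¹) * (ρ y * A * ρ y⁻¹ * ρ u) := by rw [rho_mul_inv', one_mul]
    _ = ρ u * (ρ u⁻¹ * ρ y * A * (ρ y⁻¹ * ρ u)) := by simp only [mul_assoc]

/-- For `E` in the commutant, averaging is linear over `E`. -/
theorem avg_mul_centr (ρ : Y →* End k W) (A : End k W) {E : End k W} (hE : E ∈ centr ρ) :
    avg ρ (A * E) = avg ρ A * E := by
  rw [avg_apply, avg_apply, Finset.sum_mul]
  refine Finset.sum_congr rfl fun y _ => ?_
  rw [mul_assoc (ρ y), mul_assoc (ρ y), mul_assoc A, hE y⁻¹]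
  simp only [mul_assoc]

theorem scal_conj {ρ : Y →* End k W} {C : Subgroup Y} (h : IsHeis ρ C) {c : Y} (hc : c ∈ C) (A : End k W) :
    ρ c * A * ρ c⁻¹ = A := by
  obtain ⟨s, hs⟩ := h.scal c hc
  have h1 : ρ c * A = A * ρ c := by
    rw [hs, smul_mul_assoc, one_mul, mul_smul_comm, mul_one]
  rw [h1, mul_assoc, rho_mul_inv', mul_one]

theorem conj_of_mem {ρ : Y →* End k W} {C : Subgroup Y} (h : IsHeis ρ C) {c : Y} (hc : c ∈ C) (v : Y) :
    ρ (v * c * v⁻¹) = ρ c := by
  rw [map_mul, map_mul]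
  have := scal_conj h (inv_mem hc) (ρ v)
  obtain ⟨s, hs⟩ := h.scal c hc
  rw [hs, mul_smul_comm, mul_one, smul_mul_assoc, rho_mul_inv']

theorem scal_conj' {ρ : Y →* End k W} {C : Subgroup Y} (h : IsHeis ρ C) {c : Y} (hc : c ∈ C) (A : End k W) :
    ρ c * A * ρ c⁻¹ = A := scal_conj h hc A

/-- Fourier inversion, for a not necessarily simple module. -/
theorem inversion {ρ : Y →* End k W} {C : Subgroup Y} (h : IsHeis ρ C) (A : End k W) :
    ∑ v : Y, ρ v * avg ρ (ρ v⁻¹ * A) = ((Fintype.card Y * Nat.card C : ℕ) : k) • A := by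
  classical
  have h1 : ∀ v : Y, ρ v * avg ρ (ρ v⁻¹ * A) = ∑ y : Y, ρ (v * y * v⁻¹) * (A * ρ y⁻¹) := by
    intro v
    rw [avg_apply, Finset.mul_sum]
    refine Finset.sum_congr rfl fun y _ => ?_
    rw [map_mul, map_mul]
    simp only [mul_assoc]
  simp only [h1]
  rw [Finset.sum_comm]
  have h2 : ∀ y : Y, ∑ v : Y, ρ (v * y * v⁻¹) * (A * ρ y⁻¹) =
      if y ∈ C then ((Fintype.card Y : ℕ) : k) • A else 0 := by
    intro y
    rw [← Finset.sum_mul]
    split_ifs with hy
    · have e : ∀ v : Y, ρ (v * y * v⁻¹) = ρ y := fun v => conj_of_mem h hy v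
      simp only [e, Finset.sum_const, Finset.card_univ]
      rw [Nat.cast_smul_eq_nsmul, smul_mul_assoc, ← mul_assoc, scal_conj' h hy]
    · rw [sum_conj_eq_zero h hy, zero_mul]
  simp only [h2]
  rw [Finset.sum_ite, Finset.sum_const_zero, add_zero, Finset.sum_const]
  have : (Finset.univ.filter (· ∈ C)).card = Nat.card C := by
    rw [Nat.card_eq_fintype_card, Fintype.card_subtype]
  rw [this, ← Nat.cast_smul_eq_nsmul k, smul_smul, mul_comm, Nat.cast_mul]

/-- `avg` is compatible with an operator inducing `σ`. -/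
theorem avg_conj {ρ : Y →* End k W} (T T' : End k W) (hTT' : T * T' = 1) (hT'T : T' * T = 1)
    (σ : MulAut Y) (hTσ : ∀ u, T * ρ u = ρ (σ u) * T) (B : End k W) :
    avg ρ (T * B * T') = T * avg ρ B * T' := by
  rw [avg_apply, avg_apply, Finset.mul_sum, Finset.sum_mul]
  refine (Fintype.sum_equiv (σ : Y ≃ Y) _ _ (fun u => ?_)).symm
  have e1 : ρ ((σ : Y ≃ Y) u) * T = T * ρ u := (hTσ u).symm
  have e2 : T' * ρ ((σ : Y ≃ Y) u)⁻¹ = ρ u⁻¹ * T' := by
    have h1 : T * ρ u⁻¹ = ρ (σ u)⁻¹ * T := by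
      have := hTσ u⁻¹
      rwa [show σ u⁻¹ = (σ u)⁻¹ from map_inv σ u] at this
    calc T' * ρ (σ u)⁻¹ = T' * (ρ (σ u)⁻¹ * (T * T')) := by rw [hTT', mul_one]
      _ = T' * (T * ρ u⁻¹) * T' := by rw [h1]; simp only [mul_assoc]
      _ = ρ u⁻¹ * T' := by rw [← mul_assoc T', hT'T, one_mul]
  calc T * (ρ u * B * ρ u⁻¹) * T' = (T * ρ u) * B * (ρ u⁻¹ * T') := by simp only [mul_assoc]
    _ = (ρ ((σ : Y ≃ Y) u) * T) * B * (T' * ρ ((σ : Y ≃ Y) u)⁻¹) := by rw [e1, e2]
    _ = _ := by simp only [mul_assoc]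

/-- **The commutant of `T`** has dimension at most the number of orbits times that of the commutant of
`ρ(Y)`. -/
theorem comm_le [FiniteDimensional k W] {ρ : Y →* End k W} {C : Subgroup Y} (h : IsHeis ρ C)
    (hY : (Fintype.card Y : k) ≠ 0) (T T' : End k W) (hTT' : T * T' = 1) (hT'T : T' * T = 1)
    (σ : MulAut Y) (hTσ : ∀ u, T * ρ u = ρ (σ u) * T) {n : ℕ} (r : Fin n → Y)
    (hr : ∀ v : Y, ∃ q, ∃ i : ℕ, ∃ c ∈ C, v = (σ ^ i) (r q) * c) :
    finrank k (comm T) ≤ n * finrank k (centr ρ) := by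
  classical
  have hCpos : ((Nat.card C : ℕ) : k) ≠ 0 := by
    intro h0
    apply hY
    have h1 : Nat.card C ∣ Fintype.card Y := by
      have := Subgroup.card_subgroup_dvd_card C
      simpa [Nat.card_eq_fintype_card] using this
    obtain ⟨m, hm⟩ := h1
    rw [hm, Nat.cast_mul, h0, zero_mul]
  let Ψ : comm T →ₗ[k] (Fin n → centr ρ) :=
    LinearMap.pi fun q => LinearMap.codRestrict (centr ρ)
      ((avg ρ) ∘ₗ (LinearMap.mulLeft k (ρ (r q)⁻¹)) ∘ₗ (comm T).subtype)
      (fun A => avg_mem_centr ρ _)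
  have hΨ : Function.Injective Ψ := by
    rw [injective_iff_map_eq_zero]
    rintro ⟨A, hA⟩ h0
    have h1 : ∀ q, avg ρ (ρ (r q)⁻¹ * A) = 0 := by
      intro q
      have := congrArg (fun f : Fin n → centr ρ => ((f q : centr ρ) : End k W)) h0
      simpa [Ψ] using this
    have hAT : A * T = T * A := mem_comm.mp hA
    have hσ : ∀ v, avg ρ (ρ v⁻¹ * A) = 0 → avg ρ (ρ (σ v)⁻¹ * A) = 0 := by
      intro v hv
      have e : ρ (σ v)⁻¹ * A = T * (ρ v⁻¹ * A) * T' := by
        have h2 : T * ρ v⁻¹ = ρ (σ v)⁻¹ * T := by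
          have := hTσ v⁻¹
          rwa [show σ v⁻¹ = (σ v)⁻¹ from map_inv σ v] at this
        rw [mul_assoc T, mul_assoc (ρ v⁻¹), ← mul_assoc T, h2, mul_assoc, ← mul_assoc T A, ← hAT,
          mul_assoc A, hTT', mul_one]
      rw [e, avg_conj T T' hTT' hT'T σ hTσ, hv, mul_zero, zero_mul]
    have hσi : ∀ (i : ℕ) v, avg ρ (ρ v⁻¹ * A) = 0 → avg ρ (ρ ((σ ^ i) v)⁻¹ * A) = 0 := by
      intro i
      induction i with
      | zero => intro v hv; simpa using hv
      | succ i ih =>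
        intro v hv
        rw [pow_succ', MulAut.mul_apply]
        exact hσ _ (ih v hv)
    have hc : ∀ v, avg ρ (ρ v⁻¹ * A) = 0 → ∀ c ∈ C, avg ρ (ρ (v * c)⁻¹ * A) = 0 := by
      intro v hv c hc
      obtain ⟨s, hs⟩ := h.scal _ (inv_mem hc)
      rw [mul_inv_rev, map_mul ρ, hs, smul_mul_assoc, one_mul, smul_mul_assoc, map_smul, hv, smul_zero]
    have hall : ∀ v, avg ρ (ρ v⁻¹ * A) = 0 := by
      intro v
      obtain ⟨q, i, c, hcC, rfl⟩ := hr v
      exact hc _ (hσi i _ (h1 q)) c hcC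
    have hinv := inversion h A
    simp only [hall, mul_zero, Finset.sum_const_zero] at hinv
    have hN : ((Fintype.card Y * Nat.card C : ℕ) : k) ≠ 0 := by
      rw [Nat.cast_mul]
      exact mul_ne_zero hY hCpos
    have hA0 : A = 0 := (smul_eq_zero.mp hinv.symm).resolve_left hN
    exact Subtype.ext hA0
  have h1 := LinearMap.finrank_le_finrank_of_injective hΨ
  rwa [Module.finrank_pi_fintype, Finset.sum_const, Finset.card_univ, Fintype.card_fin, smul_eq_mul] at h1

/-- `End W` contains `|Y / C|` independent copies of the commutant of `ρ(Y)`. -/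
theorem card_mul_centr_le [FiniteDimensional k W] {ρ : Y →* End k W} {C : Subgroup Y} (h : IsHeis ρ C)
    (hY : (Fintype.card Y : k) ≠ 0) :
    Nat.card (Y ⧸ C) * finrank k (centr ρ) ≤ finrank k W * finrank k W := by
  classical
  haveI hn : C.Normal := ⟨fun c hc g => by
    have := mul_mem (h.comm g c) hc
    simpa using this⟩
  haveI : Fintype (Y ⧸ C) := Fintype.ofFinite _
  let e : Y ⧸ C → Y := Quotient.out
  have he : ∀ c, ((e c : Y) : Y ⧸ C) = c := fun c => QuotientGroup.out_eq' c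
  let Θ : ((Y ⧸ C) → centr ρ) →ₗ[k] End k W :=
    ∑ c : Y ⧸ C, (LinearMap.mulLeft k (ρ (e c))) ∘ₗ (centr ρ).subtype ∘ₗ (LinearMap.proj c)
  have hΘ : ∀ f, Θ f = ∑ c, ρ (e c) * (f c : End k W) := by
    intro f
    simp [Θ, LinearMap.sum_apply]
  have hinj : Function.Injective Θ := by
    rw [injective_iff_map_eq_zero]
    intro f hf
    funext c₀
    apply Subtype.ext
    have h1 := congrArg (fun A => avg ρ (ρ (e c₀)⁻¹ * A)) hf
    simp only [hΘ, Finset.mul_sum, map_sum, mul_zero, map_zero] at h1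
    rw [Finset.sum_eq_single c₀] at h1
    · have e1 : ρ (e c₀)⁻¹ * (ρ (e c₀) * (f c₀ : End k W)) = 1 * (f c₀ : End k W) := by
        rw [← mul_assoc, rho_inv_mul']
      rw [e1, avg_mul_centr ρ _ (f c₀).2, avg_apply] at h1
      simp only [mul_one, rho_mul_inv', Finset.sum_const, Finset.card_univ] at h1
      rw [← Nat.cast_smul_eq_nsmul k, smul_mul_assoc, one_mul] at h1
      exact (smul_eq_zero.mp h1).resolve_left hY
    · intro c _ hc
      have e1 : ρ (e c₀)⁻¹ * (ρ (e c) * (f c : End k W)) = ρ ((e c₀)⁻¹ * e c) * (f c : End k W) := by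
        rw [← mul_assoc, map_mul]
      rw [e1, avg_mul_centr ρ _ (f c).2]
      have hnC : (e c₀)⁻¹ * e c ∉ C := by
        intro hmem
        apply hc
        rw [← he c, ← he c₀]
        exact ((QuotientGroup.eq (s := C)).mpr hmem).symm
      have e2 : avg ρ (ρ ((e c₀)⁻¹ * e c)) = 0 := by
        rw [avg_apply]
        have := sum_conj_eq_zero h hnC
        rw [← this]
        refine Finset.sum_congr rfl fun y _ => ?_
        rw [map_mul ρ (y * _), map_mul ρ y]
      rw [e2, zero_mul]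
    · intro h'
      exact absurd (Finset.mem_univ _) h'
  have h1 := LinearMap.finrank_le_finrank_of_injective hinj
  rw [Module.finrank_pi_fintype, Finset.sum_const, Finset.card_univ, smul_eq_mul,
    Module.finrank_linearMap] at h1
  rw [Nat.card_eq_fintype_card]
  exact h1

/-- The combination. -/
theorem card_le_of_comm_bound [FiniteDimensional k W] [Nontrivial W] {ρ : Y →* End k W} {C : Subgroup Y}
    (h : IsHeis ρ C) (hY : (Fintype.card Y : k) ≠ 0) (T T' : End k W) (hTT' : T * T' = 1)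
    (hT'T : T' * T = 1) (σ : MulAut Y) (hTσ : ∀ u, T * ρ u = ρ (σ u) * T) {n : ℕ} (r : Fin n → Y)
    (hr : ∀ v : Y, ∃ q, ∃ i : ℕ, ∃ c ∈ C, v = (σ ^ i) (r q) * c) {s : ℕ}
    (hs : finrank k W * finrank k W ≤ s * finrank k (comm T)) :
    Nat.card (Y ⧸ C) ≤ s * n := by
  have h1 := comm_le h hY T T' hTT' hT'T σ hTσ r hr
  have h2 := card_mul_centr_le h hY
  have hE : 0 < finrank k (centr ρ) := by
    haveI : Nontrivial (centr ρ) := by
      refine ⟨⟨⟨1, fun y => by rw [one_mul, mul_one]⟩, 0, ?_⟩⟩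
      intro h0
      have : (1 : End k W) = 0 := congrArg Subtype.val h0
      exact one_ne_zero this
    exact Module.finrank_pos
  have h3 : Nat.card (Y ⧸ C) * finrank k (centr ρ) ≤ (s * n) * finrank k (centr ρ) := by
    calc _ ≤ _ := h2
      _ ≤ s * finrank k (comm T) := hs
      _ ≤ s * (n * finrank k (centr ρ)) := Nat.mul_le_mul_left _ h1
      _ = _ := by ring
  exact Nat.le_of_mul_le_mul_right h3 hE

end heis

end Cfsg.Agent.Lib.Gross.Count
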