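import Mathlib
import Cfsg.Agent.Lib.HallHigman.Block
import Cfsg.Agent.Lib.HallHigman.Commutant

/-!
# Commutants of operators with `∑ T ^ i = 0`

If `∑_{i < 2 ^ n} T ^ i = 0` then `(dim V) ^ 2 ≤ (2 ^ n - 1) * dim (commutant T)` and
`dim V ≤ dim (commutant T)`, in any characteristic.  In characteristic two this is the nilpotent bound;
otherwise `T` is diagonalisable with at most `2 ^ n - 1` eigenvalues.
-/

set_option autoImplicit false
set_option linter.unusedSectionVars false

namespace Cfsg.Agent.Lib.Gross.Eigen

open Module Polynomial Cfsg.Agent.Lib.HallHigman.Commutant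

variable {K : Type*} [Field K] {V : Type*} [AddCommGroup V] [Module K V]

/-- A basis of eigenvectors of an operator with `T ^ M = 1`, `M` invertible. -/
theorem exists_eigenbasis [IsAlgClosed K] [FiniteDimensional K V] (T : End K V) {M : ℕ}
    (hM : (M : K) ≠ 0) (hT : T ^ M = 1) :
    ∃ (I : Set V) (_ : Fintype I) (b : Basis I K V) (c : I → K), ∀ i, T (b i) = c i • b i := by
  classical
  have hsq : Squarefree (X ^ M - 1 : K[X]) := (X_pow_sub_one_separable_iff.mpr hM).squarefree
  have hae : aeval T (X ^ M - 1 : K[X]) = 0 := by
    simp [hT]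
  have hss : T.IsSemisimple := Module.End.isSemisimple_of_squarefree_aeval_eq_zero hsq hae
  have htop : (⨆ μ : K, T.eigenspace μ) = ⊤ :=
    hss.iSup_maxGenEigenspace_eq_top_iff.mp (Module.End.iSup_maxGenEigenspace_eq_top T)
  let S : Set V := {v | ∃ c : K, T v = c • v}
  have hspan : Submodule.span K S = ⊤ := by
    rw [eq_top_iff, ← htop]
    apply iSup_le
    intro μ v hv
    apply Submodule.subset_span
    exact ⟨μ, Module.End.mem_eigenspace_iff.mp hv⟩
  obtain ⟨B, hBS, hBspan, hBli⟩ := exists_linearIndependent K S
  have hB2 : ⊤ ≤ Submodule.span K (Set.range ((↑) : B → V)) := by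
    rw [Subtype.range_coe, hBspan, hspan]
  let b : Basis B K V := Basis.mk hBli hB2
  letI : Fintype B := by
    have : Finite B := Module.Finite.finite_basis b
    exact Fintype.ofFinite B
  have hbi : ∀ i : B, b i = i := fun i => by simp [b]
  have hc : ∀ i : B, ∃ c : K, T (b i) = c • b i := by
    intro i
    rw [hbi]
    exact hBS i.2
  choose c hc using hc
  exact ⟨B, inferInstance, b, c, hc⟩

section count

variable {I : Type*} [Fintype I] (b : Basis I K V) (c : I → K) (T : End K V)

/-- The pairs with equal eigenvalue give independent elements of the commutant. -/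
theorem card_pairs_le [FiniteDimensional K V] (hb : ∀ i, T (b i) = c i • b i) [DecidableEq K] :
    Fintype.card {p : I × I // c p.1 = c p.2} ≤ finrank K (comm T) := by
  classical
  let E : {p : I × I // c p.1 = c p.2} → comm T := fun p =>
    ⟨(b.coord p.1.2).smulRight (b p.1.1), by
      rw [mem_comm]
      apply b.ext
      intro k
      simp only [Module.End.mul_apply, LinearMap.smulRight_apply, hb, map_smul, Basis.coord_apply,
        Basis.repr_self]
      by_cases hk : k = p.1.2
      · subst hk
        simp only [Finsupp.single_eq_same, smul_smul, mul_one, one_mul]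
        rw [p.2]
      · rw [Finsupp.single_eq_of_ne (Ne.symm hk)]
        simp⟩
  have hE : LinearIndependent K E := by
    rw [Fintype.linearIndependent_iff]
    intro g hg p
    have h1 := congrArg (fun f : comm T => (f : End K V) (b p.1.2)) hg
    simp only [E, Submodule.coe_sum, Submodule.coe_smul, LinearMap.sum_apply, LinearMap.smul_apply,
      LinearMap.smulRight_apply, Submodule.coe_zero, LinearMap.zero_apply] at h1
    have h2 := congrArg (fun v => b.repr v p.1.1) h1
    simp only [map_sum, map_smul, Basis.repr_self, Finsupp.coe_finsetSum, Finset.sum_apply,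
      Finsupp.coe_smul, Pi.smul_apply, smul_eq_mul, map_zero, Finsupp.coe_zero, Pi.zero_apply,
      Basis.coord_apply, Finsupp.single_apply] at h2
    rw [Finset.sum_eq_single p] at h2
    · simpa using h2
    · intro r _ hr
      by_cases h3 : r.1.2 = p.1.2
      · by_cases h4 : r.1.1 = p.1.1
        · exact absurd (Subtype.ext (Prod.ext h4 h3)) hr
        · simp [h4]
      · have h5 : ¬ (p : I × I).2 = (r : I × I).2 := fun h => h3 h.symm
        simp [h5]
    · intro h
      exact absurd (Finset.mem_univ p) h
  exact hE.fintype_card_le_finrank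

omit [Field K] [AddCommGroup V] [Module K V] in
/-- Cauchy–Schwarz for fibres. -/
theorem card_sq_le {J : Type*} [DecidableEq J] (f : I → J) (R : Finset J)
    (hf : ∀ i, f i ∈ R) :
    Fintype.card I * Fintype.card I ≤ R.card * Fintype.card {p : I × I // f p.1 = f p.2} := by
  classical
  have h1 : (Finset.univ : Finset I).card = ∑ r ∈ R, (Finset.univ.filter fun i => f i = r).card :=
    Finset.card_eq_sum_card_fiberwise (fun i _ => hf i)
  have h2 : Fintype.card {p : I × I // f p.1 = f p.2} =
      ∑ r ∈ R, (Finset.univ.filter fun i => f i = r).card ^ 2 := by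
    rw [Fintype.card_subtype]
    have h3 : (Finset.univ.filter fun p : I × I => f p.1 = f p.2).card =
        ∑ r ∈ R, ((Finset.univ.filter fun p : I × I => f p.1 = f p.2).filter fun p => f p.1 = r).card :=
      Finset.card_eq_sum_card_fiberwise (fun p _ => hf p.1)
    rw [h3]
    refine Finset.sum_congr rfl fun r _ => ?_
    rw [pow_two, ← Finset.card_product]
    apply Finset.card_bij' (fun p _ => p) (fun p _ => p)
    · intro p hp
      simp only [Finset.mem_filter, Finset.mem_univ, true_and] at hp
      simp only [Finset.mem_product, Finset.mem_filter, Finset.mem_univ, true_and]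
      exact ⟨hp.2, hp.1 ▸ hp.2⟩
    · intro p hp
      simp only [Finset.mem_product, Finset.mem_filter, Finset.mem_univ, true_and] at hp
      simp only [Finset.mem_filter, Finset.mem_univ, true_and]
      exact ⟨hp.1.trans hp.2.symm, hp.1⟩
    · intros; rfl
    · intros; rfl
  rw [h2]
  have h4 := sq_sum_le_card_mul_sum_sq (s := R) (f := fun r => (Finset.univ.filter fun i => f i = r).card)
  rw [← h1, Finset.card_univ, pow_two] at h4
  exact h4

end count

/-- The bound in odd characteristic. -/
theorem good_semisimple [IsAlgClosed K] [FiniteDimensional K V] (T : End K V) (n : ℕ) (h2 : (2 : K) ≠ 0)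
    (hT : ∑ i ∈ Finset.range (2 ^ n), T ^ i = 0) :
    finrank K V * finrank K V ≤ (2 ^ n - 1) * finrank K (comm T) ∧ finrank K V ≤ finrank K (comm T) := by
  classical
  have hM : ((2 ^ n : ℕ) : K) ≠ 0 := by
    rw [Nat.cast_pow]
    exact pow_ne_zero _ (by exact_mod_cast h2)
  have hT1 : T ^ (2 ^ n) = 1 := by
    have := mul_geom_sum T (2 ^ n)
    rw [hT, mul_zero] at this
    exact (sub_eq_zero.mp this.symm)
  obtain ⟨I, _, b, c, hb⟩ := exists_eigenbasis T hM hT1
  have hpow : ∀ (j : ℕ) (i : I), (T ^ j) (b i) = c i ^ j • b i := by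
    intro j i
    induction j with
    | zero => simp
    | succ j ih =>
      rw [pow_succ', Module.End.mul_apply, ih, map_smul, hb, smul_smul, pow_succ]
  have hb0 : ∀ i, b i ≠ 0 := fun i => b.ne_zero i
  have hc1 : ∀ i, c i ^ (2 ^ n) = 1 := by
    intro i
    have h3 := hpow (2 ^ n) i
    rw [hT1, Module.End.one_apply] at h3
    have h4 : (c i ^ (2 ^ n) - 1) • b i = 0 := by
      rw [sub_smul, one_smul, ← h3, sub_self]
    exact sub_eq_zero.mp ((smul_eq_zero.mp h4).resolve_right (hb0 i))
  have hcne : ∀ i, c i ≠ 1 := by
    intro i hi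
    have h3 := congrArg (fun f : End K V => f (b i)) hT
    simp only [LinearMap.sum_apply, hpow, hi, one_pow, one_smul, Finset.sum_const, Finset.card_range,
      LinearMap.zero_apply] at h3
    rw [← Nat.cast_smul_eq_nsmul K] at h3
    exact hb0 i ((smul_eq_zero.mp h3).resolve_left hM)
  have hMpos : 0 < 2 ^ n := by positivity
  let R : Finset K := (nthRootsFinset (2 ^ n) (1 : K)).erase 1
  have hR : ∀ i, c i ∈ R := by
    intro i
    rw [Finset.mem_erase]
    exact ⟨hcne i, (mem_nthRootsFinset hMpos _).mpr (hc1 i)⟩
  have hRcard : R.card ≤ 2 ^ n - 1 := by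
    have h3 : (nthRootsFinset (2 ^ n) (1 : K)).card ≤ 2 ^ n := by
      rw [nthRootsFinset_def]
      exact (Multiset.toFinset_card_le _).trans (card_nthRoots _ _)
    have h4 := Finset.card_erase_of_mem ((mem_nthRootsFinset hMpos (1 : K)).mpr (one_pow _))
    show ((nthRootsFinset (2 ^ n) (1 : K)).erase 1).card ≤ _
    omega
  have hd : finrank K V = Fintype.card I := Module.finrank_eq_card_basis b
  have h5 := card_pairs_le b c T hb
  have h6 := card_sq_le c R hR
  constructor
  · rw [hd]
    calc Fintype.card I * Fintype.card I ≤ R.card * Fintype.card {p : I × I // c p.1 = c p.2} := h6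
      _ ≤ (2 ^ n - 1) * finrank K (comm T) := Nat.mul_le_mul hRcard h5
  · rw [hd]
    refine le_trans ?_ h5
    apply Fintype.card_le_of_injective (fun i : I => (⟨(i, i), rfl⟩ : {p : I × I // c p.1 = c p.2}))
    intro i j hij
    have := congrArg (fun p : {p : I × I // c p.1 = c p.2} => p.1.1) hij
    exact this

/-- **The bound, in any characteristic.** -/
theorem good_of_sum [IsAlgClosed K] [FiniteDimensional K V] (T : End K V) (n : ℕ)
    (hT : ∑ i ∈ Finset.range (2 ^ n), T ^ i = 0) :
    finrank K V * finrank K V ≤ (2 ^ n - 1) * finrank K (comm T) ∧ finrank K V ≤ finrank K (comm T) := by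
  by_cases h2 : (2 : K) = 0
  · have : CharP K 2 := CharTwo.of_one_ne_zero_of_two_eq_zero one_ne_zero h2
    have : Fact (Nat.Prime 2) := ⟨Nat.prime_two⟩
    have h3 : (T - 1) ^ (2 ^ n - 1) = 0 := by
      rw [Cfsg.Agent.Lib.HallHigman.Block.sub_one_pow_eq_sum (p := 2) T n, hT]
    rw [← comm_sub_one]
    exact ⟨sq_le h3, finrank_le h3⟩
  · exact good_semisimple T n h2 hT

/-- The bound from the rank of `T - 1`, in odd characteristic. -/
theorem good_rank [IsAlgClosed K] [FiniteDimensional K V] (T : End K V) {M : ℕ} (hM : (M : K) ≠ 0)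
    (hT : T ^ M = 1) (hrank : finrank K (LinearMap.range (T - 1)) ≤ 2) :
    (finrank K V - 2) * (finrank K V - 2) ≤ finrank K (comm T) ∧ finrank K V ≤ finrank K (comm T) := by
  classical
  obtain ⟨I, _, b, c, hb⟩ := exists_eigenbasis T hM hT
  have hd : finrank K V = Fintype.card I := Module.finrank_eq_card_basis b
  have h5 := card_pairs_le b c T hb
  constructor
  · rw [hd]
    refine le_trans ?_ h5
    -- the eigenvectors with eigenvalue different from one
    let J := {i : I // c i ≠ 1}
    let J' := {i : I // c i = 1}
    have hJ : Fintype.card J ≤ 2 := by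
      have hli : LinearIndependent K (fun i : J => (⟨(T - 1) (b i), LinearMap.mem_range_self _ _⟩ :
          LinearMap.range (T - 1))) := by
        rw [Fintype.linearIndependent_iff]
        intro g hg i
        have h1 := congrArg (fun v : LinearMap.range (T - 1) => (v : V)) hg
        simp only [Submodule.coe_sum, Submodule.coe_smul, Submodule.coe_zero, LinearMap.sub_apply, hb,
          Module.End.one_apply] at h1
        have h2 := congrArg (fun v => b.repr v i) h1
        have e : ∀ j : J, c j • b j - b j = (c j - 1) • b j := fun j => by rw [sub_smul, one_smul]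
        simp only [e, map_sum, map_smul, Basis.repr_self, Finsupp.coe_finsetSum, Finset.sum_apply,
          Finsupp.coe_smul, Pi.smul_apply, smul_eq_mul, map_zero, Finsupp.coe_zero, Pi.zero_apply,
          Finsupp.single_apply] at h2
        rw [Finset.sum_eq_single i] at h2
        · simp only [if_true, mul_one] at h2
          exact (mul_eq_zero.mp h2).resolve_right (sub_ne_zero.mpr i.2)
        · intro j _ hj
          have : (j : I) ≠ i := fun h => hj (Subtype.ext h)
          simp [this]
        · intro h
          exact absurd (Finset.mem_univ i) h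
      exact hli.fintype_card_le_finrank.trans hrank
    have hJ' : Fintype.card I - 2 ≤ Fintype.card J' := by
      have : Fintype.card J' + Fintype.card J = Fintype.card I := by
        simp only [J, J', Fintype.card_subtype_compl]
        have := Fintype.card_subtype_le (fun i : I => c i = 1)
        omega
      omega
    calc (Fintype.card I - 2) * (Fintype.card I - 2) ≤ Fintype.card J' * Fintype.card J' :=
          Nat.mul_le_mul hJ' hJ'
      _ = Fintype.card (J' × J') := by rw [Fintype.card_prod]
      _ ≤ _ := by
          apply Fintype.card_le_of_injective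
            (fun p : J' × J' => (⟨((p.1 : I), (p.2 : I)), by rw [p.1.2, p.2.2]⟩ :
              {p : I × I // c p.1 = c p.2}))
          intro p r h
          have h1 := congrArg (fun t : {p : I × I // c p.1 = c p.2} => t.1) h
          simp only [Prod.mk.injEq] at h1
          exact Prod.ext (Subtype.ext h1.1) (Subtype.ext h1.2)
  · rw [hd]
    refine le_trans ?_ h5
    apply Fintype.card_le_of_injective (fun i : I => (⟨(i, i), rfl⟩ : {p : I × I // c p.1 = c p.2}))
    intro i j hij
    have := congrArg (fun p : {p : I × I // c p.1 = c p.2} => p.1.1) hij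
    exact this

end Cfsg.Agent.Lib.Gross.Eigen
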