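import Mathlib
import Cfsg.Agent.Lib.HallHigman.Level
import Cfsg.Agent.Lib.HallHigman.Reduce
import Cfsg.Agent.Lib.Gross.Eigen
import Cfsg.Agent.Lib.Gross.Count

/-!
# The weight step and the critical case, characteristic free

We replace the hypothesis `(T - 1) ^ s = 0` of Hall–Higman by `∑_{i < p ^ n} T ^ i = 0`, which makes sense
in all characteristics.
-/

set_option autoImplicit false
set_option linter.unusedSectionVars false
set_option linter.style.haveILetI false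

namespace Cfsg.Agent.Lib.Gross.Level

open Module Cfsg.Agent.Lib.OddOrder.HHCore Cfsg.Agent.Lib.OddOrder.HHGroup
open Cfsg.Agent.Lib.HallHigman.Core Cfsg.Agent.Lib.HallHigman.Block Cfsg.Agent.Lib.HallHigman.Level
open Cfsg.Agent.Lib.HallHigman.Commutant Cfsg.Agent.Lib.HallHigman.Reduce
open Cfsg.Agent.Lib.Ward Cfsg.Agent.Lib.Gross.Eigen

section weight

variable {K : Type*} [Field K] {p : ℕ} [hp : Fact p.Prime]
variable {V : Type*} [AddCommGroup V] [Module K V]
variable {X : Type*} [Group X]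

theorem sum_range_mul' {M : Type*} [AddCommMonoid M] (f : ℕ → M) (a b : ℕ) :
    ∑ k ∈ Finset.range (a * b), f k = ∑ i ∈ Finset.range a, ∑ j ∈ Finset.range b, f (i + a * j) := by
  induction b with
  | zero => simp
  | succ b ih =>
    rw [Nat.mul_succ, Finset.sum_range_add, ih]
    simp only [Finset.sum_range_succ]
    rw [Finset.sum_add_distrib]
    congr 1
    refine Finset.sum_congr rfl fun i _ => ?_
    rw [add_comm]

/-- The weight step: restrict to a weight space and the stabiliser of the weight. -/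
theorem weight_step_sum [Finite X] (ρ : X →* End K V) (x : X) {n : ℕ} (hx : x ^ p ^ n = 1) (N : Subgroup X)
    (hxN : x ∈ Subgroup.normalizer (N : Set X)) (lam : X → K) (U : Submodule K V)
    (hUx : ∀ v ∈ U, ρ x v ∈ U) (hs : ∀ v ∈ U, ∑ i ∈ Finset.range (p ^ n), ρ (x ^ i) v = 0) :
    ∃ c ≤ n, x ^ (p ^ c) ∈ wtStab N lam ∧ (∀ a < c, x ^ (p ^ a) ∉ wtStab N lam) ∧
      ∀ v ∈ U ⊓ wtSpace ρ N lam, ∑ j ∈ Finset.range (p ^ (n - c)), ρ ((x ^ (p ^ c)) ^ j) v = 0 := by
  classical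
  have hex : ∃ c, x ^ (p ^ c) ∈ wtStab N lam := ⟨n, by rw [hx]; exact one_mem _⟩
  let c := Nat.find hex
  have hc : x ^ (p ^ c) ∈ wtStab N lam := Nat.find_spec hex
  have hcn : c ≤ n := Nat.find_min' hex (by rw [hx]; exact one_mem _)
  have hcmin : ∀ a < c, x ^ (p ^ a) ∉ wtStab N lam := fun a ha => Nat.find_min hex ha
  refine ⟨c, hcn, hc, hcmin, ?_⟩
  have hUpow : ∀ (j : ℕ), ∀ v ∈ U, ρ (x ^ j) v ∈ U := rho_pow_mem ρ hUx
  have hcK : ∀ i : ℕ, ∀ y ∈ N, (x ^ i)⁻¹ * y * x ^ i ∈ N := fun i y hy =>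
    conj_inv_mem_of_norm le_rfl (pow_mem hxN i) hy
  have hdist : ∀ i ∈ Finset.range (p ^ c), ∀ j ∈ Finset.range (p ^ c), i ≠ j →
      ∃ y ∈ N, wtConj (x ^ i) lam y ≠ wtConj (x ^ j) lam y := by
    have key : ∀ i j : ℕ, i < j → j < p ^ c →
        ∃ y ∈ N, wtConj (x ^ i) lam y ≠ wtConj (x ^ j) lam y := by
      intro i j hij hjc
      by_contra hcon
      push Not at hcon
      obtain ⟨m, rfl⟩ : ∃ m, j = i + m := ⟨j - i, by omega⟩
      have hstab : x ^ m ∈ wtStab N lam := by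
        refine ⟨pow_mem hxN m, fun y hy => ?_⟩
        have hy' : x ^ i * y * (x ^ i)⁻¹ ∈ N := conj_mem_of_norm le_rfl (pow_mem hxN i) hy
        have := hcon _ hy'
        simp only [wtConj] at this
        have e1 : (x ^ i)⁻¹ * (x ^ i * y * (x ^ i)⁻¹) * x ^ i = y := by group
        have e2 : (x ^ (i + m))⁻¹ * (x ^ i * y * (x ^ i)⁻¹) * x ^ (i + m) = (x ^ m)⁻¹ * y * x ^ m := by
          rw [pow_add]; group
        rw [e1, e2] at this
        exact this.symm
      have hxc : x ^ p ^ (max c n) = 1 := by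
        obtain ⟨t, ht⟩ := Nat.exists_eq_add_of_le (le_max_right c n)
        rw [ht, pow_add, pow_mul, hx, one_pow]
      have hlt : p ^ c ≤ p ^ (max c n) := Nat.pow_le_pow_right hp.out.pos (le_max_left c n)
      obtain ⟨a, ha1, ha2, ha3⟩ := exists_pow_mem_of_pow_mem hxc (by omega) (by omega) hstab
      have hac : a < c := by
        have h3 : p ^ a < p ^ c := by omega
        exact (Nat.pow_lt_pow_iff_right hp.out.one_lt).mp h3
      exact hcmin a hac ha3
    intro i hi j hj hij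
    rw [Finset.mem_range] at hi hj
    rcases lt_or_gt_of_ne hij with h | h
    · exact key i j h hj
    · obtain ⟨y, hy, hne⟩ := key j i h hi
      exact ⟨y, hy, hne.symm⟩
  intro v hv
  obtain ⟨hv1, hv2⟩ := Submodule.mem_inf.mp hv
  rw [mem_wtSpace] at hv2
  set m := p ^ c with hm
  set b := p ^ (n - c) with hb
  have hmb : m * b = p ^ n := by
    rw [hm, hb, ← pow_add]
    congr 1
    omega
  set w := ∑ j ∈ Finset.range b, ρ ((x ^ m) ^ j) v with hw
  have hwwt : IsWt ρ N lam w := by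
    rw [hw]
    have hsum : ∀ (s : Finset ℕ), IsWt ρ N lam (∑ j ∈ s, ρ ((x ^ m) ^ j) v) := by
      intro s
      induction s using Finset.induction_on with
      | empty => simpa using IsWt.zero
      | insert a s ha ih =>
        rw [Finset.sum_insert ha]
        refine IsWt.add ?_ ih
        have h1 := hv2.conj (hcK (m * a))
        rw [← pow_mul]
        refine h1.congr fun y hy => ?_
        have h2 : x ^ (m * a) ∈ wtStab N lam := by
          rw [pow_mul]
          exact pow_mem hc a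
        exact h2.2 y hy
    exact hsum _
  have h0 : ∑ i ∈ Finset.range m, ρ (x ^ i) w = 0 := by
    have h1 := hs v hv1
    rw [← hmb, sum_range_mul'] at h1
    rw [← h1]
    refine Finset.sum_congr rfl fun i _ => ?_
    rw [hw, map_sum]
    refine Finset.sum_congr rfl fun j _ => ?_
    rw [← rho_mul, ← pow_mul, ← pow_add]
  have h2 := eq_zero_of_sum_eq_zero (ρ := ρ) (K := N) (Finset.range m)
    (fun i => wtConj (x ^ i) lam) hdist (fun i => ρ (x ^ i) w)
    (fun i _ => hwwt.conj (hcK i)) h0 0 (Finset.mem_range.mpr (pow_pos hp.out.pos c))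
  simpa using h2

end weight

section bound

variable {k : Type*} [Field k] {W : Type*} [AddCommGroup W] [Module k W]
variable {Y : Type*} [Group Y] [Fintype Y]

/-- The critical count: an invariant simple subspace. -/
theorem exists_simple_count [IsAlgClosed k] [FiniteDimensional k W] [Nontrivial W]
    {ρ : Y →* End k W} {C : Subgroup Y} (h : IsHeis ρ C)
    (hY : (Fintype.card Y : k) ≠ 0) (hCtop : C ≠ ⊤) (T : End k W) {A : ℕ} (hA1 : 1 < A) (hT : T ^ A = 1)
    (σ : MulAut Y) (hTσ : ∀ u, T * ρ u = ρ (σ u) * T) (hσC : ∀ c, σ c ∈ C ↔ c ∈ C)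
    (hσρ : ∀ c ∈ C, ρ (σ c) = ρ c)
    (hfree : ∀ g, g ∉ C → ∀ i, 0 < i → i < A → (σ ^ i) g * g⁻¹ ∉ C) :
    ∃ (U : Submodule k W) (hU : ∀ v ∈ U, T v ∈ U), U ≠ ⊥ ∧ finrank k U * finrank k U = Nat.card (Y ⧸ C) ∧
      2 ≤ finrank k U ∧ finrank k (comm (T.restrict hU)) * A + 1 ≤ A + finrank k U * finrank k U := by
  classical
  have hfpf : ∀ y, (σ : Y ≃* Y) y * y⁻¹ ∈ C → y ∈ C := by
    intro y hy
    by_contra hyC
    apply hfree y hyC 1 one_pos hA1
    simpa using hy
  obtain ⟨U, hU0, hUinv, hUT, hUmin⟩ := exists_invariant_simple h hY T σ hTσ hσρ hfpf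
  haveI : Nontrivial U := Submodule.nontrivial_iff_ne_bot.mpr hU0
  set ρU := resRep ρ U hUinv with hρU
  set TU : End k U := T.restrict hUT with hTU
  have hTUpow : ∀ i (v : U), (((TU ^ i) v : U) : W) = (T ^ i) v := by
    intro i v
    induction i with
    | zero => simp
    | succ i ih =>
      rw [pow_succ', pow_succ', Module.End.mul_apply, Module.End.mul_apply, hTU,
        LinearMap.coe_restrict_apply, ih]
  have hHeis : IsHeis ρU C := by
    refine ⟨?_, h.comm, ?_⟩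
    · intro c hc
      obtain ⟨t, ht⟩ := h.scal c hc
      refine ⟨t, ?_⟩
      ext v
      simp [hρU, ht]
    · intro y hy
      obtain ⟨u, hu⟩ := h.nd y hy
      refine ⟨u, ?_⟩
      obtain ⟨t, ht⟩ := h.scal _ (h.comm u y)
      intro h1
      apply hu
      obtain ⟨v, hv⟩ := exists_ne (0 : U)
      have h2 := congrArg (fun f : End k U => ((f v : U) : W)) h1
      simp only [hρU, resRep_apply, Module.End.one_apply, ht, LinearMap.smul_apply] at h2
      have h3 : (t - 1) • (v : W) = 0 := by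
        rw [sub_smul, one_smul, h2, sub_self]
      have h4 : t - 1 = 0 := by
        apply (smul_eq_zero.mp h3).resolve_right
        intro h5
        exact hv (Subtype.ext h5)
      have h5 : t = 1 := sub_eq_zero.mp h4
      rw [ht, h5, one_smul]
  have hSimple : IsSimpleRep ρU := by
    intro U₀ hinv hne
    have h1 : U₀.map U.subtype ≤ U := by
      rintro _ ⟨v, _, rfl⟩
      exact v.2
    have h2 : U₀.map U.subtype ≠ ⊥ := by
      intro h3
      apply hne
      rw [eq_bot_iff]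
      intro v hv
      have h4 : (v : W) ∈ U₀.map U.subtype := ⟨v, hv, rfl⟩
      rw [h3, Submodule.mem_bot] at h4
      rw [Submodule.mem_bot]
      exact Subtype.ext h4
    have h3 := hUmin _ h1 h2 (by
      rintro y _ ⟨v, hv, rfl⟩
      exact ⟨ρU y v, hinv y v hv, rfl⟩)
    rw [eq_top_iff]
    intro v _
    have h4 : (v : W) ∈ U₀.map U.subtype := by
      rw [h3]
      exact v.2
    obtain ⟨v', hv', hvv⟩ := h4
    have : v' = v := Subtype.ext hvv
    rwa [← this]
  have hT' : TU ^ A = 1 := by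
    ext v
    rw [hTUpow, hT]
    simp
  have hTσ' : ∀ u, TU * ρU u = ρU (σ u) * TU := by
    intro u
    ext v
    have := congrArg (fun f : End k W => f (v : W)) (hTσ u)
    simpa [hρU, hTU] using this
  haveI : Fintype (Y ⧸ C) := Fintype.ofFinite _
  haveI := hHeis.normal
  have hcard := finrank_mul_self hHeis hSimple hY Quotient.out (fun c => QuotientGroup.out_eq' c)
  have hcard2 : 2 ≤ Fintype.card (Y ⧸ C) := by
    have : Nontrivial (Y ⧸ C) := QuotientGroup.nontrivial_iff.mpr hCtop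
    exact Fintype.one_lt_card
  have hD : 2 ≤ finrank k U := by
    by_contra hcon
    have h1 : finrank k U * finrank k U < 2 := by
      have : finrank k U ≤ 1 := by omega
      nlinarith
    omega
  have hA0 : 0 < A := by omega
  have hTT' : TU * TU ^ (A - 1) = 1 := by
    rw [← pow_succ', Nat.sub_add_cancel hA0, hT']
  have hb := comm_bound hHeis hSimple hY TU _ hTT' σ hTσ' hσC hA0 hfree
  refine ⟨U, hUT, hU0, ?_, hD, hb⟩
  rw [hcard, Nat.card_eq_fintype_card]

/-- The critical theorem with `∑ T ^ i = 0`. -/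
theorem core_sum [IsAlgClosed k] [FiniteDimensional k W] [Nontrivial W]
    {ρ : Y →* End k W} {C : Subgroup Y} (h : IsHeis ρ C)
    (hY : (Fintype.card Y : k) ≠ 0) (hCtop : C ≠ ⊤) (T : End k W) {n : ℕ}
    (hsum : ∑ i ∈ Finset.range (2 ^ n), T ^ i = 0)
    (hn : 1 ≤ n) (hT : T ^ (2 ^ n) = 1)
    (σ : MulAut Y) (hTσ : ∀ u, T * ρ u = ρ (σ u) * T) (hσC : ∀ c, σ c ∈ C ↔ c ∈ C)
    (hσρ : ∀ c ∈ C, ρ (σ c) = ρ c)
    (hfree : ∀ g, g ∉ C → ∀ i, 0 < i → i < 2 ^ n → (σ ^ i) g * g⁻¹ ∉ C) :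
    ∃ D : ℕ, D = 2 ^ n - 1 ∧ D * D = Nat.card (Y ⧸ C) ∧ 2 ≤ D := by
  have hA1 : 1 < 2 ^ n := Nat.one_lt_pow (by omega) (by norm_num)
  obtain ⟨U, hU, hU0, hcard, hD, hb⟩ := exists_simple_count h hY hCtop T hA1 hT σ hTσ hσC hσρ hfree
  have hTUpow : ∀ i (v : U), (((T.restrict hU ^ i) v : U) : W) = (T ^ i) v := by
    intro i v
    induction i with
    | zero => simp
    | succ i ih =>
      rw [pow_succ', pow_succ', Module.End.mul_apply, Module.End.mul_apply,
        LinearMap.coe_restrict_apply, ih]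
  have hsumU : ∑ i ∈ Finset.range (2 ^ n), (T.restrict hU) ^ i = 0 := by
    ext v
    have h1 := congrArg (fun f : End k W => f (v : W)) hsum
    simp only [LinearMap.sum_apply, LinearMap.zero_apply] at h1
    simpa [hTUpow] using h1
  obtain ⟨h1, h2⟩ := good_of_sum (T.restrict hU) n hsumU
  obtain ⟨a, ha⟩ : ∃ a, 2 ^ n = a + 1 := ⟨2 ^ n - 1, by omega⟩
  rw [ha] at hb h1
  simp only [Nat.add_sub_cancel] at h1
  obtain ⟨_, h5⟩ := arith hD h2 h1 hb le_rfl
  refine ⟨finrank k U, by rw [ha, h5]; simp, hcard, hD⟩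

end bound

section main

variable {G : Type*} [Group G] [Finite G] {K : Type*} [Field K] {p : ℕ} [hp : Fact p.Prime]
variable {V : Type*} [AddCommGroup V] [Module K V]

/-- The free action of `x` on the cosets of `C`: all fixed points of the last power lie in `C`. -/
theorem hfree_of_hCy (x : G) {n : ℕ} (hn : 1 ≤ n)
    (hx : orderOf x = p ^ n) (Q : Subgroup G) (hcopQ : p.Coprime (Nat.card Q))
    (hQx : ∀ g ∈ Q, x * g * x⁻¹ ∈ Q) (C : Subgroup Q) [hCn : C.Normal]
    (hinvC : ∀ c : Q, conjAutOf Q x hQx c ∈ C ↔ c ∈ C)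
    (hCy : ∀ c : Q, (x ^ p ^ (n - 1)) * (c : G) * (x ^ p ^ (n - 1))⁻¹ = c → c ∈ C) :
    ∀ g : Q, g ∉ C → ∀ i, 0 < i → i < p ^ n → (conjAutOf Q x hQx ^ i) g * g⁻¹ ∉ C := by
  classical
  set σ := conjAutOf Q x hQx with hσ
  have hxpow : x ^ p ^ n = 1 := by
    rw [← hx]; exact pow_orderOf_eq_one x
  set y := x ^ p ^ (n - 1) with hy
  intro g hg i hi hin hmem
  apply hg
  have hσinv : ∀ (j : ℕ) (c : Q), (σ ^ j) c ∈ C ↔ c ∈ C := by
    intro j c
    induction j with
    | zero => simp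
    | succ j ih =>
      rw [pow_succ', MulAut.mul_apply]
      rw [hσ, hinvC, ← hσ, ih]
  have h1 : σ ^ i ∈ Cfsg.Agent.Lib.HallHigman.Level.cosetStab C g := ⟨hσinv i, hmem⟩
  have hσp : σ ^ p ^ n = 1 := conjAutOf_pow_eq_one Q x hQx hxpow
  obtain ⟨a, _, ha2, ha3⟩ := exists_pow_mem_of_pow_mem hσp hi hin h1
  have h2 : σ ^ p ^ (n - 1) ∈ Cfsg.Agent.Lib.HallHigman.Level.cosetStab C g := by
    have e : p ^ (n - 1) = p ^ a * p ^ (n - 1 - a) := by
      rw [← pow_add]; congr 1; omega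
    rw [e, pow_mul]
    exact pow_mem ha3 _
  have hcop : (Nat.card (Subgroup.zpowers y)).Coprime (Nat.card Q) := by
    rw [Nat.card_zpowers]
    have h3 : orderOf y ∣ p ^ n := by
      apply orderOf_dvd_of_pow_eq_one
      rw [hy, ← pow_mul, mul_comm, pow_mul, hxpow, one_pow]
    have h4 : (p ^ n).Coprime (Nat.card Q) := Nat.Coprime.pow_left _ hcopQ
    exact Nat.Coprime.coprime_dvd_left h3 h4
  have hyQ : ∀ g ∈ Q, y * g * y⁻¹ ∈ Q := by
    intro g hg
    have e1 : ∀ j : ℕ, x ^ j * g * (x ^ j)⁻¹ ∈ Q := by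
      intro j
      induction j with
      | zero => simpa using hg
      | succ j ih =>
        have e2 : x ^ (j + 1) * g * (x ^ (j + 1))⁻¹ = x * (x ^ j * g * (x ^ j)⁻¹) * x⁻¹ := by
          rw [pow_succ']; group
        rw [e2]
        exact hQx _ ih
    exact e1 _
  have hcardfin : Nat.card Q ≠ 0 := Nat.card_pos.ne'
  have hAQ : Subgroup.zpowers y ≤ Subgroup.normalizer (Q : Set G) := by
    apply Cfsg.Agent.Lib.Coprime.InvSylow.le_normalizer_of_forall_conj_mem
    intro a ha t ht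
    obtain ⟨k, rfl⟩ : ∃ k : ℕ, y ^ k = a := by
      have := (mem_powers_iff_mem_zpowers (x := y) (y := a)).mpr ha
      exact Submonoid.mem_powers_iff _ _ |>.mp this
    induction k with
    | zero => simpa using ht
    | succ k ih =>
      have e2 : y ^ (k + 1) * t * (y ^ (k + 1))⁻¹ = y * (y ^ k * t * (y ^ k)⁻¹) * y⁻¹ := by
        rw [pow_succ']; group
      rw [e2]
      exact hyQ _ (ih (pow_mem (Subgroup.mem_zpowers y) k))
  have hconj : ∀ (k : ℕ) (t : Q), (((σ ^ (p ^ (n - 1) * k)) t : Q) : G) = y ^ k * t * (y ^ k)⁻¹ := by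
    intro k t
    rw [hσ, conjAutOf_pow_coe, pow_mul]
  have hNA : Subgroup.zpowers y ≤ Subgroup.normalizer ((C.map Q.subtype : Subgroup G) : Set G) := by
    apply Cfsg.Agent.Lib.Coprime.InvSylow.le_normalizer_of_forall_conj_mem
    intro a ha t ht
    obtain ⟨k, rfl⟩ : ∃ k : ℕ, y ^ k = a := by
      have := (mem_powers_iff_mem_zpowers (x := y) (y := a)).mpr ha
      exact Submonoid.mem_powers_iff _ _ |>.mp this
    obtain ⟨c, hc, rfl⟩ := ht
    refine ⟨(σ ^ (p ^ (n - 1) * k)) c, (hσinv _ c).mpr hc, ?_⟩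
    exact hconj k c
  have hNQ : C.map Q.subtype ≤ Q := by
    rintro _ ⟨c, _, rfl⟩
    exact c.2
  have hsolv : Group.IsSolvable (Subgroup.zpowers y) ∨ Group.IsSolvable Q := by
    left
    infer_instance
  obtain ⟨c, hc, hcmem⟩ := Cfsg.Agent.Lib.Coprime.Coset.exists_centralizer_mem_coset hAQ hcop hsolv hNQ
    hNA (g : G) g.2 (by
      intro a ha
      obtain ⟨k, rfl⟩ : ∃ k : ℕ, y ^ k = a := by
        have := (mem_powers_iff_mem_zpowers (x := y) (y := a)).mpr ha
        exact Submonoid.mem_powers_iff _ _ |>.mp this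
      have h5 : (σ ^ (p ^ (n - 1) * k)) g * g⁻¹ ∈ C := by
        rw [pow_mul]
        exact (pow_mem h2 k).2
      have h6 : g⁻¹ * (σ ^ (p ^ (n - 1) * k)) g ∈ C := by
        have := hCn.conj_mem _ h5 g⁻¹
        have e : g⁻¹ * ((σ ^ (p ^ (n - 1) * k)) g * g⁻¹) * g⁻¹⁻¹ =
            g⁻¹ * (σ ^ (p ^ (n - 1) * k)) g := by group
        rwa [e] at this
      refine ⟨_, h6, ?_⟩
      simp only [Subgroup.coe_subtype, Subgroup.coe_mul, Subgroup.coe_inv]
      rw [hconj])
  obtain ⟨hcQ, hcC⟩ := Subgroup.mem_inf.mp hc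
  have hcy : y * c * y⁻¹ = c := by
    have := Subgroup.mem_centralizer_iff.mp hcC y (Subgroup.mem_zpowers y)
    rw [this]
    group
  have hcmemC : (⟨c, hcQ⟩ : Q) ∈ C := hCy ⟨c, hcQ⟩ hcy
  obtain ⟨d, hd, hde⟩ := hcmem
  have h7 : g = (⟨c, hcQ⟩ : Q) * d⁻¹ := by
    apply Subtype.ext
    have h8 : (d : G) = (g : G)⁻¹ * c := hde
    simp only [Subgroup.coe_mul, Subgroup.coe_inv, h8]
    group
  rw [h7]
  exact mul_mem hcmemC (inv_mem hd)

/-- The critical count inside an ambient group. -/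
theorem level_count [IsAlgClosed K] [FiniteDimensional K V] (ρ : G →* End K V) (x : G) {n : ℕ} (hn : 1 ≤ n)
    (hx : orderOf x = 2 ^ n) (Q : Subgroup G) (hcopQ : Nat.Coprime 2 (Nat.card Q))
    (hQK : (Nat.card Q : K) ≠ 0)
    (hQx : ∀ g ∈ Q, x * g * x⁻¹ ∈ Q) (U : Submodule K V) (hU0 : U ≠ ⊥) (hUx : ∀ v ∈ U, ρ x v ∈ U)
    (hUQ : ∀ g ∈ Q, ∀ v ∈ U, ρ g v ∈ U) (C : Subgroup Q) (hH : IsHeis (qRep ρ Q U hUQ) C)
    (hCtop : C ≠ ⊤) (hinvC : ∀ c : Q, conjAutOf Q x hQx c ∈ C ↔ c ∈ C)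
    (hCy : ∀ c : Q, (x ^ 2 ^ (n - 1)) * (c : G) * (x ^ 2 ^ (n - 1))⁻¹ = c → c ∈ C) :
    ∃ (S : Submodule K U) (hS : ∀ v ∈ S, ((ρ x).restrict hUx) v ∈ S), S ≠ ⊥ ∧
      finrank K S * finrank K S = Nat.card (Q ⧸ C) ∧ 2 ≤ finrank K S ∧
      finrank K (comm (((ρ x).restrict hUx).restrict hS)) * 2 ^ n + 1 ≤ 2 ^ n + finrank K S * finrank K S := by
  classical
  haveI : Fact (Nat.Prime 2) := ⟨Nat.prime_two⟩
  haveI : Fintype Q := Fintype.ofFinite _
  haveI : Nontrivial U := Submodule.nontrivial_iff_ne_bot.mpr hU0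
  haveI hCn : C.Normal := hH.normal
  set ρQ := qRep ρ Q U hUQ with hρQ
  set σ := conjAutOf Q x hQx with hσ
  set T : End K U := (ρ x).restrict hUx with hT
  have hY : (Fintype.card Q : K) ≠ 0 := by
    rwa [← Nat.card_eq_fintype_card]
  have hxpow : x ^ 2 ^ n = 1 := by
    rw [← hx]; exact pow_orderOf_eq_one x
  have hTpow : ∀ i (v : U), (((T ^ i) v : U) : V) = ((ρ x) ^ i) v := by
    intro i v
    induction i with
    | zero => simp
    | succ i ih =>
      rw [pow_succ', pow_succ', Module.End.mul_apply, Module.End.mul_apply, hT,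
        LinearMap.coe_restrict_apply, ← hT, ih]
  have hT1 : T ^ (2 ^ n) = 1 := by
    ext v
    rw [hTpow, ← map_pow, hxpow, map_one]
    simp
  have hTσ : ∀ u, T * ρQ u = ρQ (σ u) * T := by
    intro u
    ext v
    simp only [Module.End.mul_apply, hρQ, qRep_apply, hT, LinearMap.coe_restrict_apply, hσ,
      conjAutOf_coe]
    rw [map_mul, map_mul, Module.End.mul_apply, Module.End.mul_apply]
    have : ρ x⁻¹ (ρ x v) = v := by
      rw [← Module.End.mul_apply, ← map_mul, inv_mul_cancel, map_one]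
      rfl
    rw [this]
  have hA : 0 < 2 ^ n := by positivity
  have hTT' : T * T ^ (2 ^ n - 1) = 1 := by
    rw [← pow_succ', Nat.sub_add_cancel hA, hT1]
  have hσρ : ∀ c ∈ C, ρQ (σ c) = ρQ c := by
    intro c hc
    obtain ⟨t, ht⟩ := hH.scal c hc
    have h1 := hTσ c
    have h2 : ρQ (σ c) = T * ρQ c * T ^ (2 ^ n - 1) := by
      rw [h1, mul_assoc, hTT', mul_one]
    rw [h2, ht, mul_smul_comm, smul_mul_assoc, mul_one, hTT']
  have hfree := hfree_of_hCy (p := 2) x hn hx Q hcopQ hQx C hinvC hCy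
  have hA1 : 1 < 2 ^ n := Nat.one_lt_pow (by omega) (by norm_num)
  exact exists_simple_count hH hY hCtop T hA1 hT1 σ hTσ hinvC hσρ hfree

/-- The critical case inside an ambient group, with `∑ ρ(x) ^ i = 0` on `U`. -/
theorem level_sum [IsAlgClosed K] [FiniteDimensional K V] (ρ : G →* End K V) (x : G) {n : ℕ} (hn : 1 ≤ n)
    (hx : orderOf x = 2 ^ n) (Q : Subgroup G) (hcopQ : Nat.Coprime 2 (Nat.card Q))
    (hQK : (Nat.card Q : K) ≠ 0)
    (hQx : ∀ g ∈ Q, x * g * x⁻¹ ∈ Q) (U : Submodule K V) (hU0 : U ≠ ⊥) (hUx : ∀ v ∈ U, ρ x v ∈ U)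
    (hUQ : ∀ g ∈ Q, ∀ v ∈ U, ρ g v ∈ U) (C : Subgroup Q) (hH : IsHeis (qRep ρ Q U hUQ) C)
    (hCtop : C ≠ ⊤) (hinvC : ∀ c : Q, conjAutOf Q x hQx c ∈ C ↔ c ∈ C)
    (hCy : ∀ c : Q, (x ^ 2 ^ (n - 1)) * (c : G) * (x ^ 2 ^ (n - 1))⁻¹ = c → c ∈ C)
    (hs : ∀ v ∈ U, ∑ i ∈ Finset.range (2 ^ n), ρ (x ^ i) v = 0) :
    ∃ D : ℕ, D = 2 ^ n - 1 ∧ D * D = Nat.card (Q ⧸ C) ∧ 2 ≤ D := by
  classical
  haveI : Fact (Nat.Prime 2) := ⟨Nat.prime_two⟩
  haveI : Fintype Q := Fintype.ofFinite _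
  haveI : Nontrivial U := Submodule.nontrivial_iff_ne_bot.mpr hU0
  haveI hCn : C.Normal := hH.normal
  set ρQ := qRep ρ Q U hUQ with hρQ
  set σ := conjAutOf Q x hQx with hσ
  set T : End K U := (ρ x).restrict hUx with hT
  have hY : (Fintype.card Q : K) ≠ 0 := by
    rwa [← Nat.card_eq_fintype_card]
  have hxpow : x ^ 2 ^ n = 1 := by
    rw [← hx]; exact pow_orderOf_eq_one x
  have hTpow : ∀ i (v : U), (((T ^ i) v : U) : V) = ((ρ x) ^ i) v := by
    intro i v
    induction i with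
    | zero => simp
    | succ i ih =>
      rw [pow_succ', pow_succ', Module.End.mul_apply, Module.End.mul_apply, hT,
        LinearMap.coe_restrict_apply, ← hT, ih]
  have hT1 : T ^ (2 ^ n) = 1 := by
    ext v
    rw [hTpow, ← map_pow, hxpow, map_one]
    simp
  have hsum : ∑ i ∈ Finset.range (2 ^ n), T ^ i = 0 := by
    ext v
    have h1 := hs v v.2
    simp only [LinearMap.sum_apply, LinearMap.zero_apply, Submodule.coe_sum, hTpow, ZeroMemClass.coe_zero]
    rw [← h1]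
    refine Finset.sum_congr rfl fun i _ => ?_
    rw [map_pow]
  have hTσ : ∀ u, T * ρQ u = ρQ (σ u) * T := by
    intro u
    ext v
    simp only [Module.End.mul_apply, hρQ, qRep_apply, hT, LinearMap.coe_restrict_apply, hσ,
      conjAutOf_coe]
    rw [map_mul, map_mul, Module.End.mul_apply, Module.End.mul_apply]
    have : ρ x⁻¹ (ρ x v) = v := by
      rw [← Module.End.mul_apply, ← map_mul, inv_mul_cancel, map_one]
      rfl
    rw [this]
  have hA : 0 < 2 ^ n := by positivity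
  have hTT' : T * T ^ (2 ^ n - 1) = 1 := by
    rw [← pow_succ', Nat.sub_add_cancel hA, hT1]
  have hσρ : ∀ c ∈ C, ρQ (σ c) = ρQ c := by
    intro c hc
    obtain ⟨t, ht⟩ := hH.scal c hc
    have h1 := hTσ c
    have h2 : ρQ (σ c) = T * ρQ c * T ^ (2 ^ n - 1) := by
      rw [h1, mul_assoc, hTT', mul_one]
    rw [h2, ht, mul_smul_comm, smul_mul_assoc, mul_one, hTT']
  have hfree := hfree_of_hCy (p := 2) x hn hx Q hcopQ hQx C hinvC hCy
  exact core_sum hH hY hCtop T hsum hn hT1 σ hTσ hinvC hσρ hfree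

end main

end Cfsg.Agent.Lib.Gross.Level
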