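import Mathlib
import Cfsg.Agent.Lib.Gross.Level

/-!
# The type of an element with `∑ ρ(a) ^ i = 0` on a Heisenberg section

Let `a` have order `2 ^ n`, act on a `q`-group `Q` (`q` odd), `U` a subspace where `Q / R` is of Heisenberg
type and `∑ ρ(a) ^ i = 0`.  If the involution `y = a ^ 2 ^ (n - 1)` acts nontrivially on `Q / R` then
`2 ^ n = q + 1`, `|[Q/R, y]| = q ^ 2` and `a` is trivial on `C_{Q/R}(y)`.
-/

set_option autoImplicit false
set_option linter.unusedSectionVars false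
set_option linter.style.haveILetI false

namespace Cfsg.Agent.Lib.Gross.Type

open Module Cfsg.Agent.Lib.OddOrder.HHCore Cfsg.Agent.Lib.OddOrder.HHGroup
open Cfsg.Agent.Lib.HallHigman.Core Cfsg.Agent.Lib.HallHigman.Block Cfsg.Agent.Lib.HallHigman.Level
open Cfsg.Agent.Lib.HallHigman.Commutant Cfsg.Agent.Lib.HallHigman.Reduce
open Cfsg.Agent.Lib.HallHigman.MinGroup
open Cfsg.Agent.Lib.Ward Cfsg.Agent.Lib.Gross.Eigen Cfsg.Agent.Lib.Gross.Level Cfsg.Agent.Lib.Gross.Count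

/-- An odd prime power `2 ^ n - 1`, `n ≥ 2`, is a prime. -/
theorem mersenne_pow {q b n : ℕ} (hq : q.Prime) (hq2 : q ≠ 2) (hn : 2 ≤ n) (hb : 1 ≤ b)
    (h : 2 ^ n = q ^ b + 1) : b = 1 := by
  have hodd : Odd q := hq.odd_of_ne_two hq2
  have hq1 : 3 ≤ q := by
    have := hq.two_le
    omega
  -- `b` is odd
  have hbodd : Odd b := by
    by_contra hcon
    rw [Nat.not_odd_iff_even] at hcon
    obtain ⟨c, hc⟩ := hcon
    have h4 : 4 ∣ 2 ^ n := by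
      obtain ⟨m, rfl⟩ : ∃ m, n = 2 + m := ⟨n - 2, by omega⟩
      rw [pow_add]
      exact Dvd.intro _ rfl
    have hsq : (q ^ c) * (q ^ c) % 4 = 1 := by
      have hoddc : Odd (q ^ c) := hodd.pow
      obtain ⟨t, ht⟩ := hoddc
      rw [ht]
      have : (2 * t + 1) * (2 * t + 1) = 4 * (t * t + t) + 1 := by ring
      rw [this]
      omega
    have e : q ^ b = (q ^ c) * (q ^ c) := by
      rw [hc, pow_add]
    rw [h, e] at h4
    omega
  obtain ⟨c, hc⟩ := hbodd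
  have hq2' : 1 ≤ q * q := by nlinarith
  obtain ⟨w, hw⟩ : q * q - 1 ∣ (q * q) ^ c - 1 := by
    have := Nat.sub_dvd_pow_sub_pow (q * q) 1 c
    simpa using this
  have hpow1 : 1 ≤ (q * q) ^ c := Nat.one_le_pow _ _ (by nlinarith)
  have e1 : (q * q) ^ c = (q * q - 1) * w + 1 := by omega
  obtain ⟨d, hd⟩ : ∃ d, q = d + 1 := ⟨q - 1, by omega⟩
  have e2 : q * q - 1 = (q + 1) * d := by
    rw [hd]
    have : (d + 1) * (d + 1) = (d + 1 + 1) * d + 1 := by ring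
    rw [this]
    simp
  have e3 : q ^ b + 1 = (q + 1) * (q * d * w + 1) := by
    have : q ^ b = q * (q * q) ^ c := by
      rw [hc, pow_succ, pow_mul, pow_two, mul_comm]
    rw [this, e1, e2]
    ring
  -- the second factor is odd
  have hdeven : Even d := by
    have : Odd (d + 1) := hd ▸ hodd
    exact (Nat.odd_add_one.mp this) |> Nat.not_odd_iff_even.mp
  have hm : Odd (q * d * w + 1) := by
    apply Even.add_one
    have : Even (q * d) := hdeven.mul_left q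
    exact this.mul_right w
  have hdvd : q * d * w + 1 ∣ 2 ^ n := by
    rw [h, e3]
    exact Dvd.intro_left _ rfl
  have hm1 : q * d * w + 1 = 1 := by
    have hcop : Nat.Coprime (q * d * w + 1) (2 ^ n) :=
      Nat.Coprime.pow_right n (Nat.coprime_two_right.mpr hm)
    exact Nat.Coprime.eq_one_of_dvd hcop hdvd
  have hw0 : q * d * w = 0 := by omega
  have hd0 : d ≠ 0 := by omega
  have hq0 : q ≠ 0 := by omega
  have hw00 : w = 0 := by
    rcases Nat.mul_eq_zero.mp hw0 with h5 | h5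
    · rcases Nat.mul_eq_zero.mp h5 with h6 | h6
      · exact absurd h6 hq0
      · exact absurd h6 hd0
    · exact h5
  rw [hw00, mul_zero, zero_add] at e1
  have hc0 : c = 0 := by
    by_contra hc0
    have : 1 < (q * q) ^ c := Nat.one_lt_pow hc0 (by nlinarith)
    omega
  omega

variable {G : Type*} [Group G] [Finite G] {K : Type*} [Field K]
variable {V : Type*} [AddCommGroup V] [Module K V]

/-- The data of a section of Heisenberg type on a subspace. -/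
structure Data (ρ : G →* End K V) (Q R : Subgroup G) (U : Submodule K V) : Prop where
  hRQ : R ≤ Q
  hUQ : ∀ g ∈ Q, ∀ v ∈ U, ρ g v ∈ U
  scal : ∀ r ∈ R, ∃ t : K, ∀ v ∈ U, ρ r v = t • v
  comm : ∀ u ∈ Q, ∀ g ∈ Q, u * g * u⁻¹ * g⁻¹ ∈ R
  nd : ∀ g ∈ Q, g ∉ R → ∃ u ∈ Q, ∃ v ∈ U, ρ (u * g * u⁻¹ * g⁻¹) v ≠ v

section pairing

variable {ρ : G →* End K V} {U : Submodule K V}

/-- `ρ(u) ρ(g) = t ρ(g) ρ(u)` on `U`. -/
def PW (ρ : G →* End K V) (U : Submodule K V) (t : K) (u g : G) : Prop :=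
  ∀ v ∈ U, ρ u (ρ g v) = t • ρ g (ρ u v)

theorem pw_of_scal {t : K} {u g : G} (hug : ∀ v ∈ U, ρ (g * u) v ∈ U)
    (ht : ∀ v ∈ U, ρ (u * g * u⁻¹ * g⁻¹) v = t • v) : PW ρ U t u g := by
  intro v hv
  have h1 := ht _ (hug v hv)
  have e : u * g * u⁻¹ * g⁻¹ * (g * u) = u * g := by group
  rw [← rho_mul, e, rho_mul, rho_mul] at h1
  exact h1

theorem pw_mul_left {t₁ t₂ : K} {u₁ u₂ g : G} (h₁ : PW ρ U t₁ u₁ g) (h₂ : PW ρ U t₂ u₂ g)
    (hu₂ : ∀ v ∈ U, ρ u₂ v ∈ U) : PW ρ U (t₁ * t₂) (u₁ * u₂) g := by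
  intro v hv
  rw [rho_mul, h₂ v hv, map_smul, h₁ _ (hu₂ v hv), smul_smul, mul_comm t₂, rho_mul]

theorem pw_inv_left {t : K} {u g : G} (h : PW ρ U t u g) (ht : t ≠ 0)
    (hu : ∀ v ∈ U, ρ u⁻¹ v ∈ U) : PW ρ U t⁻¹ u⁻¹ g := by
  intro v hv
  have h1 := h _ (hu v hv)
  rw [rho_mul_inv] at h1
  have h2 : ρ g v = t⁻¹ • ρ u (ρ g (ρ u⁻¹ v)) := by
    rw [h1, smul_smul, inv_mul_cancel₀ ht, one_smul]
  rw [h2, map_smul, rho_inv_mul]

theorem pw_inv_right {t : K} {u g : G} (h : PW ρ U t u g) (ht : t ≠ 0)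
    (hg : ∀ v ∈ U, ρ g⁻¹ v ∈ U) : PW ρ U t⁻¹ u g⁻¹ := by
  intro v hv
  have h1 := h _ (hg v hv)
  rw [rho_mul_inv] at h1
  have h2 : ρ g⁻¹ (ρ u v) = t • ρ u (ρ g⁻¹ v) := by
    have : ρ g⁻¹ (ρ u v) = ρ g⁻¹ (t • ρ g (ρ u (ρ g⁻¹ v))) := by rw [h1]
    rw [this, map_smul, rho_inv_mul]
  rw [h2, smul_smul, inv_mul_cancel₀ ht, one_smul]

theorem pw_conj {t : K} {u g y : G} (h : PW ρ U t u g) (hy : ∀ v ∈ U, ρ y⁻¹ v ∈ U) :
    PW ρ U t (y * u * y⁻¹) (y * g * y⁻¹) := by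
  intro v hv
  have h1 := h _ (hy v hv)
  simp only [rho_mul, rho_inv_mul]
  rw [h1, map_smul]

theorem pw_scal_right {t c : K} {u g r : G} (h : PW ρ U t u g) (hg : ∀ v ∈ U, ρ g v ∈ U)
    (hu : ∀ v ∈ U, ρ u v ∈ U) (hr : ∀ v ∈ U, ρ r v = c • v) : PW ρ U t u (r * g) := by
  intro v hv
  simp only [rho_mul]
  rw [hr _ (hg v hv), hr _ (hg _ (hu v hv)), map_smul, h v hv, smul_comm]

end pairing

section heis

variable {ρ : G →* End K V} {Q R : Subgroup G} {U : Submodule K V}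

theorem Data.conj_mem (h : Data ρ Q R U) {g r : G} (hg : g ∈ Q) (hr : r ∈ R) : g * r * g⁻¹ ∈ R := by
  have h1 := h.comm g hg r (h.hRQ hr)
  have e : g * r * g⁻¹ = (g * r * g⁻¹ * r⁻¹) * r := by group
  rw [e]
  exact mul_mem h1 hr

theorem Data.isHeis (h : Data ρ Q R U) : IsHeis (letI := Fintype.ofFinite Q; qRep ρ Q U h.hUQ) (R.subgroupOf Q) := by
  letI := Fintype.ofFinite Q
  refine ⟨?_, ?_, ?_⟩
  · intro c hc
    obtain ⟨t, ht⟩ := h.scal c hc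
    refine ⟨t, ?_⟩
    ext v
    simp only [qRep_apply, LinearMap.smul_apply, Module.End.one_apply]
    rw [ht v v.2]
    rfl
  · intro u g
    exact h.comm u u.2 g g.2
  · intro g hg
    obtain ⟨u, hu, v, hv, hne⟩ := h.nd g g.2 hg
    refine ⟨⟨u, hu⟩, ?_⟩
    intro hone
    apply hne
    have := congrArg (fun f : End K U => ((f ⟨v, hv⟩ : U) : V)) hone
    simpa using this

end heis

/-- The subgroup `[Q, y]`, generated by the `g y(g)⁻¹`. -/
def commY (Q : Subgroup G) (y : G) : Subgroup G :=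
  Subgroup.closure {z | ∃ g ∈ Q, z = g * (y * g⁻¹ * y⁻¹)}

theorem commY_le {Q : Subgroup G} {y : G} (hy : ∀ g ∈ Q, y * g * y⁻¹ ∈ Q) : commY Q y ≤ Q := by
  rw [commY, Subgroup.closure_le]
  rintro _ ⟨g, hg, rfl⟩
  exact mul_mem hg (hy _ (inv_mem hg))

theorem mem_commY {Q : Subgroup G} {y : G} {g : G} (hg : g ∈ Q) : g * (y * g⁻¹ * y⁻¹) ∈ commY Q y :=
  Subgroup.subset_closure ⟨g, hg, rfl⟩

/-- An involution inverts `[Q, y]` modulo `R`. -/
theorem commY_inverted {ρ : G →* End K V} {Q R : Subgroup G} {U : Submodule K V} (h : Data ρ Q R U) {y : G}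
    (hy2 : y * y = 1) (hy : ∀ g ∈ Q, y * g * y⁻¹ ∈ Q) {c : G} (hc : c ∈ commY Q y) :
    y * c * y⁻¹ * c ∈ R := by
  have hyinv : y⁻¹ = y := (eq_inv_of_mul_eq_one_left hy2).symm
  induction hc using Subgroup.closure_induction with
  | mem x hx =>
    obtain ⟨g, hg, rfl⟩ := hx
    have e : y * (g * (y * g⁻¹ * y⁻¹)) * y⁻¹ * (g * (y * g⁻¹ * y⁻¹)) = 1 := by
      rw [hyinv]
      have hyy : ∀ a, y * (y * a) = a := fun a => by rw [← mul_assoc, hy2, one_mul]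
      simp only [mul_assoc, hy2, one_mul, inv_mul_cancel_left, mul_inv_cancel_left, hyy]
    rw [e]
    exact one_mem _
  | one => simp [one_mem]
  | mul a b ha hb iha ihb =>
    have haQ := commY_le hy ha
    have hbQ := commY_le hy hb
    set a' := y * a * y⁻¹ with ha'
    set b' := y * b * y⁻¹ with hb'
    have ha'Q : a' ∈ Q := hy a haQ
    have hb'Q : b' ∈ Q := hy b hbQ
    have e : y * (a * b) * y⁻¹ * (a * b) =
        a' * (b' * a * b'⁻¹ * a⁻¹) * a'⁻¹ * (a' * a) * (b' * b) := by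
      rw [ha', hb']
      group
    rw [e]
    refine mul_mem (mul_mem (h.conj_mem ha'Q (h.comm _ hb'Q _ haQ)) iha) ihb
  | inv a ha iha =>
    have haQ := commY_le hy ha
    set a' := y * a * y⁻¹ with ha'
    have e : y * a⁻¹ * y⁻¹ * a⁻¹ = a' ⁻¹ * a⁻¹ := by
      rw [ha']; group
    rw [e]
    have e2 : a'⁻¹ * a⁻¹ = (a * a')⁻¹ := by group
    rw [e2]
    apply inv_mem
    have e3 : a * a' = a * (a' * a) * a⁻¹ := by group
    rw [e3]
    exact h.conj_mem haQ iha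

section count

variable {Y : Type*} [Group Y] [Fintype Y] {k : Type*} [Field k] {W : Type*} [AddCommGroup W] [Module k W]

/-- The automorphism of a quotient induced by an automorphism. -/
noncomputable def permOf (C : Subgroup Y) [C.Normal] (σ : MulAut Y) (hσC : ∀ c, σ c ∈ C ↔ c ∈ C) :
    MulAut (Y ⧸ C) :=
  QuotientGroup.congr C C (σ : Y ≃* Y) (by
    ext c
    constructor
    · rintro ⟨d, hd, rfl⟩
      exact (hσC d).mpr hd
    · intro hc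
      refine ⟨σ.symm c, (hσC _).mp ?_, by simp⟩
      simpa using hc)

theorem permOf_mk (C : Subgroup Y) [C.Normal] (σ : MulAut Y) (hσC : ∀ c, σ c ∈ C ↔ c ∈ C) (g : Y) :
    permOf C σ hσC (g : Y ⧸ C) = ((σ g : Y) : Y ⧸ C) :=
  QuotientGroup.congr_mk _ _ _ _ _

theorem permOf_pow_mk (C : Subgroup Y) [C.Normal] (σ : MulAut Y) (hσC : ∀ c, σ c ∈ C ↔ c ∈ C) (i : ℕ)
    (g : Y) : ((permOf C σ hσC) ^ i) (g : Y ⧸ C) = (((σ ^ i) g : Y) : Y ⧸ C) := by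
  induction i with
  | zero => rfl
  | succ i ih =>
    rw [pow_succ', MulAut.mul_apply, ih, permOf_mk, pow_succ']
    rfl

/-- An involutory count. -/
theorem card_mul_fix_le {Ω : Type*} [Group Ω] [Finite Ω] (hcomm : ∀ x y : Ω, x * y = y * x)
    (hodd : Odd (Nat.card Ω)) (τ : MulAut Ω) (S : Subgroup Ω) (hS : ∀ x ∈ S, τ x = x⁻¹) :
    Nat.card S * Nat.card {ω : Ω // τ ω = ω} ≤ Nat.card Ω := by
  classical
  rw [← Nat.card_prod]
  apply Nat.card_le_card_of_injective (fun p : S × {ω : Ω // τ ω = ω} => (p.1 : Ω) * p.2)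
  rintro ⟨⟨x₁, hx₁⟩, ⟨f₁, hf₁⟩⟩ ⟨⟨x₂, hx₂⟩, ⟨f₂, hf₂⟩⟩ h
  simp only at h
  set w := x₂⁻¹ * x₁ with hw
  have hwS : w ∈ S := mul_mem (inv_mem hx₂) hx₁
  have hw2 : w = f₂ * f₁⁻¹ := by
    rw [hw]
    calc x₂⁻¹ * x₁ = x₂⁻¹ * (x₁ * f₁) * f₁⁻¹ := by group
      _ = x₂⁻¹ * (x₂ * f₂) * f₁⁻¹ := by rw [h]
      _ = f₂ * f₁⁻¹ := by group
  have hτw : τ w = w := by
    rw [hw2, map_mul, map_inv, hf₁, hf₂]
  have hτw2 : τ w = w⁻¹ := hS w hwS
  have hww : w * w = 1 := by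
    calc w * w = w * τ w := by rw [hτw]
      _ = 1 := by rw [hτw2, mul_inv_cancel]
  have hw1 : w = 1 := by
    obtain ⟨m, hm⟩ := hodd
    have h1 : w ^ Nat.card Ω = 1 := pow_card_eq_one'
    rw [hm, pow_succ, pow_mul, pow_two, hww, one_pow, one_mul] at h1
    exact h1
  have hxx : x₁ = x₂ := by
    have := hw1
    rw [hw, inv_mul_eq_one] at this
    exact this.symm
  subst hxx
  have hff : f₁ = f₂ := mul_left_cancel h
  subst hff
  rfl

/-- Arithmetic of the count. -/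
theorem count_arith {x f s n₁ n₂ : ℕ} (h1 : x ≤ s * (n₁ + n₂)) (h2 : n₁ * (s + 1) + f ≤ x) (h3 : n₂ + 1 ≤ f)
    (h4 : s * s * f ≤ x) (hs : 1 ≤ s) : False := by
  obtain ⟨g, rfl⟩ : ∃ g, f = n₂ + 1 + g := ⟨f - (n₂ + 1), by omega⟩
  have h5 : (s + 1) * x ≤ s * (n₁ * (s + 1)) + s * ((s + 1) * n₂) := by
    calc (s + 1) * x ≤ (s + 1) * (s * (n₁ + n₂)) := Nat.mul_le_mul_left _ h1
      _ = _ := by ring
  have h6 : n₁ * (s + 1) ≤ x - (n₂ + 1 + g) := by omega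
  have h7 : s * (n₁ * (s + 1)) + s * (n₂ + 1 + g) ≤ s * x := by
    have : n₁ * (s + 1) + (n₂ + 1 + g) ≤ x := h2
    calc s * (n₁ * (s + 1)) + s * (n₂ + 1 + g) = s * (n₁ * (s + 1) + (n₂ + 1 + g)) := by ring
      _ ≤ s * x := Nat.mul_le_mul_left _ this
  have h8 : x + s * (n₂ + 1 + g) ≤ s * ((s + 1) * n₂) := by nlinarith
  have h9 : s * s * (n₂ + 1 + g) + s * (n₂ + 1 + g) ≤ s * ((s + 1) * n₂) := le_trans (Nat.add_le_add_right h4 _) h8
  nlinarith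

/-- An element whose last power acts trivially on a coset acts trivially on it, when the commutant bound
holds and the fixed points of the last power are few. -/
theorem fixed_trivial [IsAlgClosed k] [FiniteDimensional k W] [Nontrivial W] {ρ : Y →* End k W}
    {C : Subgroup Y} [C.Normal] (h : IsHeis ρ C) (hY : (Fintype.card Y : k) ≠ 0) (T : End k W) {n : ℕ}
    (hn : 1 ≤ n) (hT : T ^ (2 ^ n) = 1) (hsum : ∑ i ∈ Finset.range (2 ^ n), T ^ i = 0)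
    (σ : MulAut Y) (hσ : σ ^ (2 ^ n) = 1) (hTσ : ∀ u, T * ρ u = ρ (σ u) * T) (hσC : ∀ c, σ c ∈ C ↔ c ∈ C)
    (hlow : (2 ^ n - 1) * (2 ^ n - 1) *
      Nat.card {ω : Y ⧸ C // ((permOf C σ hσC) ^ 2 ^ (n - 1)) ω = ω} ≤ Nat.card (Y ⧸ C))
    (g : Y) (hg : ((permOf C σ hσC) ^ 2 ^ (n - 1)) (g : Y ⧸ C) = g) :
    permOf C σ hσC (g : Y ⧸ C) = g := by
  classical
  haveI : Fact (Nat.Prime 2) := ⟨Nat.prime_two⟩
  haveI : Fintype (Y ⧸ C) := Fintype.ofFinite _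
  by_contra hcon
  set π := permOf C σ hσC with hπ
  set π' : Equiv.Perm (Y ⧸ C) := MulAut.toPerm (Y ⧸ C) π with hπ'
  have hπ'pow : ∀ (i : ℕ) (c : Y ⧸ C), (π' ^ i) c = (π ^ i) c := by
    intro i c
    rw [hπ', ← map_pow]
    rfl
  let F : Set (Y ⧸ C) := {ω | (π ^ 2 ^ (n - 1)) ω = ω}
  have hFcomm : ∀ c, π' c ∈ F ↔ c ∈ F := by
    intro c
    show (π ^ 2 ^ (n - 1)) (π c) = π c ↔ (π ^ 2 ^ (n - 1)) c = c
    have e : (π ^ 2 ^ (n - 1)) (π c) = π ((π ^ 2 ^ (n - 1)) c) := by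
      rw [← MulAut.mul_apply, ← pow_succ, pow_succ', MulAut.mul_apply]
    rw [e]
    exact π.injective.eq_iff
  have hA : 0 < 2 ^ n := by positivity
  have hπpow1 : π' ^ 2 ^ n = 1 := by
    ext c
    obtain ⟨t, rfl⟩ := QuotientGroup.mk_surjective c
    rw [hπ'pow, hπ, permOf_pow_mk, hσ]
    rfl
  have hfree : ∀ c, c ∉ F → ∀ i, 0 < i → i < 2 ^ n → (π' ^ i) c ≠ c := by
    intro c hc i hi hin hfix
    apply hc
    have hS : π' ^ i ∈ MulAction.stabilizer (Equiv.Perm (Y ⧸ C)) c := hfix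
    obtain ⟨a, _, ha2, ha3⟩ := exists_pow_mem_of_pow_mem (p := 2) hπpow1 hi hin hS
    have e : 2 ^ (n - 1) = 2 ^ a * 2 ^ (n - 1 - a) := by
      rw [← pow_add]; congr 1; omega
    have h5 : π' ^ 2 ^ (n - 1) ∈ MulAction.stabilizer (Equiv.Perm (Y ⧸ C)) c := by
      rw [e, pow_mul]
      exact pow_mem ha3 _
    have h6 : (π' ^ 2 ^ (n - 1)) c = c := h5
    rw [hπ'pow] at h6
    exact h6
  obtain ⟨n', r', hrep, n₁, n₂, hnn, h1, h2, h3⟩ := exists_orbit_reps_F π' F hFcomm hA hfree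
  have hg₀ : (g : Y ⧸ C) ∈ F := hg
  have h3' := h3 ⟨(g : Y ⧸ C), hg₀, hcon⟩
  -- the lifts of the representatives
  let r : Fin n' → Y := fun q => Quotient.out (r' q)
  have hr' : ∀ q, ((r q : Y) : Y ⧸ C) = r' q := fun q => QuotientGroup.out_eq' _
  have hr : ∀ v : Y, ∃ q, ∃ i : ℕ, ∃ c ∈ C, v = (σ ^ i) (r q) * c := by
    intro v
    obtain ⟨q, i, hqi⟩ := hrep (v : Y ⧸ C)
    refine ⟨q, i, ((σ ^ i) (r q))⁻¹ * v, ?_, by group⟩
    rw [← hr', hπ'pow, hπ, permOf_pow_mk] at hqi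
    exact QuotientGroup.eq.mp hqi.symm
  have hTT' : T * T ^ (2 ^ n - 1) = 1 := by
    rw [← pow_succ', Nat.sub_add_cancel hA, hT]
  have hT'T : T ^ (2 ^ n - 1) * T = 1 := by
    rw [← pow_succ, Nat.sub_add_cancel hA, hT]
  obtain ⟨hb1, _⟩ := good_of_sum T n hsum
  have hbound := card_le_of_comm_bound h hY T _ hTT' hT'T σ hTσ r hr hb1
  have hs1 : 1 ≤ 2 ^ n - 1 := by
    have : 2 ≤ 2 ^ n := by
      calc 2 = 2 ^ 1 := rfl
        _ ≤ 2 ^ n := Nat.pow_le_pow_right (by norm_num) hn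
    omega
  obtain ⟨s, hs⟩ : ∃ s, 2 ^ n = s + 1 := ⟨2 ^ n - 1, by omega⟩
  rw [hs] at hbound hlow h1
  simp only [Nat.add_sub_cancel] at hbound hlow
  have hFc : Nat.card {ω : Y ⧸ C // (permOf C σ hσC ^ 2 ^ (n - 1)) ω = ω} = Nat.card F := rfl
  rw [hFc] at hlow
  rw [hnn, ← Nat.card_eq_fintype_card] at *
  have hs1' : 1 ≤ s := by omega
  exact count_arith hbound h1 h3' hlow hs1'

end count

section main

/-- The Heisenberg structure on `[Q, y]`. -/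
theorem commY_data {ρ : G →* End K V} {Q R : Subgroup G} {U : Submodule K V} (h : Data ρ Q R U)
    {q : ℕ} [Fact q.Prime] (hq2 : q ≠ 2) (hQ : IsPGroup q Q) {y : G} (hy2 : y * y = 1)
    (hy : ∀ g ∈ Q, y * g * y⁻¹ ∈ Q) (hUy : ∀ v ∈ U, ρ y v ∈ U) :
    Data ρ (commY Q y) (R ⊓ commY Q y) U := by
  classical
  have hyinv : y⁻¹ = y := (eq_inv_of_mul_eq_one_left hy2).symm
  have hle := commY_le hy
  refine ⟨inf_le_right, fun g hg v hv => h.hUQ g (hle hg) v hv,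
    fun r hr => h.scal r (Subgroup.mem_inf.mp hr).1, ?_, ?_⟩
  · intro u hu g hg
    exact Subgroup.mem_inf.mpr ⟨h.comm u (hle hu) g (hle hg),
      mul_mem (mul_mem (mul_mem hu hg) (inv_mem hu)) (inv_mem hg)⟩
  · intro g hg hgR
    have hgR' : g ∉ R := fun h' => hgR (Subgroup.mem_inf.mpr ⟨h', hg⟩)
    obtain ⟨u, hu, v, hv, hne⟩ := h.nd g (hle hg) hgR'
    have hgQ := hle hg
    have hv0 : v ≠ 0 := by
      rintro rfl
      simp at hne
    -- the scalar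
    have hcomm := h.comm u hu g hgQ
    obtain ⟨t, ht⟩ := h.scal _ hcomm
    have ht1 : t ≠ 1 := by
      rintro rfl
      apply hne
      rw [ht v hv, one_smul]
    have hinvQ : ∀ w ∈ Q, ∀ v ∈ U, ρ w⁻¹ v ∈ U := fun w hw => h.hUQ _ (inv_mem hw)
    have hguU : ∀ v ∈ U, ρ (g * u) v ∈ U := fun v hv => h.hUQ _ (mul_mem hgQ hu) v hv
    have hpw : PW ρ U t u g := pw_of_scal hguU ht
    have ht0 : t ≠ 0 := by
      rintro rfl
      have h1 := ht v hv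
      rw [zero_smul] at h1
      have h2 := rho_inv_mul ρ (u * g * u⁻¹ * g⁻¹) v
      rw [h1, map_zero] at h2
      exact hv0 h2.symm
    -- `t` has odd order
    have htodd : t * t = 1 → t = 1 := by
      intro htt
      have hmem : u * g * u⁻¹ * g⁻¹ ∈ Q :=
        mul_mem (mul_mem (mul_mem hu hgQ) (inv_mem hu)) (inv_mem hgQ)
      obtain ⟨k, hk⟩ := hQ ⟨_, hmem⟩
      have hk' : (u * g * u⁻¹ * g⁻¹) ^ q ^ k = 1 := by
        have := congrArg Subtype.val hk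
        simpa using this
      have hpow : ∀ j : ℕ, ρ ((u * g * u⁻¹ * g⁻¹) ^ j) v = t ^ j • v := by
        intro j
        induction j with
        | zero => simp
        | succ j ih =>
          rw [pow_succ, rho_mul, ht v hv, map_smul, ih, smul_smul, pow_succ, mul_comm]
      have h1 := hpow (q ^ k)
      rw [hk', map_one, Module.End.one_apply] at h1
      have h2 : (t ^ q ^ k - 1) • v = 0 := by
        rw [sub_smul, one_smul, ← h1, sub_self]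
      have h3 : t ^ q ^ k = 1 := sub_eq_zero.mp ((smul_eq_zero.mp h2).resolve_right hv0)
      have hodd : Odd (q ^ k) := (Nat.Prime.odd_of_ne_two (Fact.out) hq2).pow
      obtain ⟨m, hm⟩ := hodd
      rw [hm, pow_succ, pow_mul, pow_two, htt, one_pow, one_mul] at h3
      exact h3
    -- the inversion of `g`
    have hginv : y * g * y⁻¹ * g ∈ R := commY_inverted h hy2 hy hg
    obtain ⟨c, hc⟩ := h.scal _ hginv
    -- transport
    have hUyinv : ∀ v ∈ U, ρ y⁻¹ v ∈ U := by rw [hyinv]; exact hUy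
    have h1 : PW ρ U t (y * u * y⁻¹) (y * g * y⁻¹) := pw_conj hpw hUyinv
    have hyuQ : y * u * y⁻¹ ∈ Q := hy u hu
    have hgiU : ∀ v ∈ U, ρ g⁻¹ v ∈ U := hinvQ g hgQ
    -- remove the scalar `y g y⁻¹ g`
    have hcinv : ∃ c' : K, ∀ v ∈ U, ρ (y * g * y⁻¹ * g)⁻¹ v = c' • v := h.scal _ (inv_mem hginv)
    obtain ⟨c', hc'⟩ := hcinv
    have e1 : g⁻¹ = (y * g * y⁻¹ * g)⁻¹ * (y * g * y⁻¹) := by group
    have h2 : PW ρ U t (y * u * y⁻¹) g⁻¹ := by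
      rw [e1]
      exact pw_scal_right h1 (h.hUQ _ (hy g hgQ)) (h.hUQ _ hyuQ) hc'
    have h3 : PW ρ U t⁻¹ (y * u * y⁻¹) g := by
      have := pw_inv_right h2 ht0 (by rw [inv_inv]; exact h.hUQ g hgQ)
      rwa [inv_inv] at this
    have h4 : PW ρ U t (y * u * y⁻¹)⁻¹ g := by
      have := pw_inv_left h3 (inv_ne_zero ht0) (hinvQ _ hyuQ)
      rwa [inv_inv] at this
    have e2 : (y * u * y⁻¹)⁻¹ = y * u⁻¹ * y⁻¹ := by group
    rw [e2] at h4
    have h5 : PW ρ U (t * t) (u * (y * u⁻¹ * y⁻¹)) g :=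
      pw_mul_left hpw h4 (h.hUQ _ (hy _ (inv_mem hu)))
    have hu' : u * (y * u⁻¹ * y⁻¹) ∈ commY Q y := mem_commY hu
    have hu'Q := hle hu'
    refine ⟨_, hu', ?_⟩
    -- a vector on which the commutator is not trivial
    set u' := u * (y * u⁻¹ * y⁻¹) with hu'def
    have hguv : ρ (g * u') v ∈ U := h.hUQ _ (mul_mem hgQ hu'Q) v hv
    refine ⟨ρ (g * u') v, hguv, ?_⟩
    intro hfix
    have e3 : u' * g * u'⁻¹ * g⁻¹ * (g * u') = u' * g := by group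
    rw [← rho_mul, e3] at hfix
    have h6 := h5 v hv
    rw [← rho_mul, ← rho_mul, hfix] at h6
    have h7 : (t * t - 1) • ρ (g * u') v = 0 := by
      rw [sub_smul, one_smul, ← h6, sub_self]
    have h8 : ρ (g * u') v ≠ 0 := by
      intro h9
      have h10 := rho_inv_mul ρ (g * u') v
      rw [h9, map_zero] at h10
      exact hv0 h10.symm
    have h9 : t * t = 1 := sub_eq_zero.mp ((smul_eq_zero.mp h7).resolve_right h8)
    exact ht1 (htodd h9)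

/-- **The type theorem.** -/
theorem type_theorem [IsAlgClosed K] [FiniteDimensional K V] (ρ : G →* End K V) (a : G) {n : ℕ}
    (hn : 1 ≤ n) (ha : orderOf a = 2 ^ n) {Q R : Subgroup G} {q : ℕ} [Fact q.Prime] (hq2 : q ≠ 2)
    (hQ : IsPGroup q Q) (hQK : (Nat.card Q : K) ≠ 0) (hQa : ∀ g ∈ Q, a * g * a⁻¹ ∈ Q) {U : Submodule K V}
    (hU0 : U ≠ ⊥) (hUa : ∀ v ∈ U, ρ a v ∈ U) (hD : Data ρ Q R U)
    (hRa : ∀ g ∈ Q, a * g * a⁻¹ ∈ R ↔ g ∈ R)
    (hs : ∀ v ∈ U, ∑ i ∈ Finset.range (2 ^ n), ρ (a ^ i) v = 0) {y : G} (hy : y = a ^ 2 ^ (n - 1))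
    (hne : ∃ g ∈ Q, y * g * y⁻¹ * g⁻¹ ∉ R) :
    2 ≤ n ∧ 2 ^ n = q + 1 ∧ Nat.card (↥(commY Q y) ⧸ R.subgroupOf (commY Q y)) = q * q ∧
      ∀ g ∈ Q, y * g * y⁻¹ * g⁻¹ ∈ R → a * g * a⁻¹ * g⁻¹ ∈ R := by
  classical
  haveI : Fact (Nat.Prime 2) := ⟨Nat.prime_two⟩
  have hqodd : Odd q := Nat.Prime.odd_of_ne_two Fact.out hq2
  have hqcop : Nat.Coprime 2 q := Nat.coprime_two_left.mpr hqodd
  obtain ⟨mQ, hmQ⟩ := IsPGroup.iff_card.mp hQ
  have hcopQ : Nat.Coprime 2 (Nat.card Q) := by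
    rw [hmQ]
    exact Nat.Coprime.pow_right _ hqcop
  have hapow : a ^ 2 ^ n = 1 := by
    rw [← ha]; exact pow_orderOf_eq_one a
  have hn' : n - 1 + 1 = n := by omega
  have hy2 : y * y = 1 := by
    rw [hy, ← pow_add, ← two_mul]
    have e : 2 * 2 ^ (n - 1) = 2 ^ n := by
      rw [← pow_succ', hn']
    rw [e, hapow]
  have hyinv : y⁻¹ = y := (eq_inv_of_mul_eq_one_left hy2).symm
  have hay : a * y = y * a := by
    rw [hy]
    exact ((Commute.refl a).pow_right _).eq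
  have hyQ : ∀ g ∈ Q, y * g * y⁻¹ ∈ Q := by
    rw [hy]
    exact conj_pow_mem hQa _
  have hUy : ∀ v ∈ U, ρ y v ∈ U := by
    rw [hy]
    exact rho_pow_mem ρ hUa _
  -- `[Q, y]`
  set Q₁ := commY Q y with hQ₁
  have hQ₁Q : Q₁ ≤ Q := commY_le hyQ
  have hD₁ : Data ρ Q₁ (R ⊓ Q₁) U := commY_data hD hq2 hQ hy2 hyQ hUy
  have hQ₁p : IsPGroup q Q₁ := hQ.to_le hQ₁Q
  have hQ₁K : (Nat.card Q₁ : K) ≠ 0 := card_ne_zero_of_le hQ₁Q hQK
  have hQ₁a : ∀ g ∈ Q₁, a * g * a⁻¹ ∈ Q₁ := by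
    intro g hg
    have h1 : Q₁ ≤ Q₁.comap (MulAut.conj a).toMonoidHom := by
      rw [hQ₁, commY, Subgroup.closure_le]
      rintro _ ⟨t, ht, rfl⟩
      refine Subgroup.subset_closure ⟨a * t * a⁻¹, hQa t ht, ?_⟩
      simp only [MulAut.conj_apply, MulEquiv.toMonoidHom_eq_coe, MonoidHom.coe_coe]
      have hy' : y = a * y * a⁻¹ := by rw [hay]; group
      calc a * (t * (y * t⁻¹ * y⁻¹)) * a⁻¹
          = (a * t * a⁻¹) * ((a * y * a⁻¹) * (a * t * a⁻¹)⁻¹ * (a * y * a⁻¹)⁻¹) := by group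
        _ = _ := by rw [← hy']
    exact h1 hg
  have hcopQ₁ : Nat.Coprime 2 (Nat.card Q₁) := by
    obtain ⟨m, hm⟩ := IsPGroup.iff_card.mp hQ₁p
    rw [hm]
    exact Nat.Coprime.pow_right _ hqcop
  have hHQ₁ := hD₁.isHeis
  have hHQ₁' : IsHeis (qRep ρ Q₁ U hD₁.hUQ) (R.subgroupOf Q₁) := by
    have e : (R ⊓ Q₁).subgroupOf Q₁ = R.subgroupOf Q₁ := by
      ext g
      simp [Subgroup.mem_subgroupOf]
    rwa [e] at hHQ₁
  obtain ⟨g₀, hg₀, hg₀ne⟩ := hne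
  have hCtop : R.subgroupOf Q₁ ≠ ⊤ := by
    intro htop
    apply hg₀ne
    have h1 : g₀ * (y * g₀⁻¹ * y⁻¹) ∈ Q₁ := mem_commY hg₀
    have h2 : (⟨_, h1⟩ : Q₁) ∈ R.subgroupOf Q₁ := by rw [htop]; trivial
    have h3 := inv_mem (Subgroup.mem_subgroupOf.mp h2)
    have e : y * g₀ * y⁻¹ * g₀⁻¹ = (g₀ * (y * g₀⁻¹ * y⁻¹))⁻¹ := by group
    rw [e]
    exact h3
  have hinvC : ∀ c : Q₁, conjAutOf Q₁ a hQ₁a c ∈ R.subgroupOf Q₁ ↔ c ∈ R.subgroupOf Q₁ := by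
    intro c
    rw [Subgroup.mem_subgroupOf, Subgroup.mem_subgroupOf, conjAutOf_coe]
    exact hRa c (hQ₁Q c.2)
  have hCy : ∀ c : Q₁, (a ^ 2 ^ (n - 1)) * (c : G) * (a ^ 2 ^ (n - 1))⁻¹ = c → c ∈ R.subgroupOf Q₁ := by
    intro c hc
    rw [← hy] at hc
    rw [Subgroup.mem_subgroupOf]
    have h1 := commY_inverted hD hy2 hyQ c.2
    rw [hc] at h1
    have hcQ := hQ₁Q c.2
    obtain ⟨k, hk⟩ := hQ ⟨_, hcQ⟩
    have hk' : (c : G) ^ q ^ k = 1 := by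
      have := congrArg Subtype.val hk
      simpa using this
    have h2 : (c : G) ^ 2 ∈ R := by rw [pow_two]; exact h1
    exact mem_of_pow_mem hk' h2 (Nat.Coprime.pow_right _ hqcop)
  obtain ⟨D, hD1, hD2, hD3⟩ := level_sum ρ a hn ha Q₁ hcopQ₁ hQ₁K hQ₁a U hU0 hUa hD₁.hUQ (R.subgroupOf Q₁)
    hHQ₁' hCtop hinvC hCy (fun v hv => hs v hv)
  -- the arithmetic
  have hn2 : 2 ≤ n := by
    by_contra hcon
    have : n = 1 := by omega
    subst this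
    simp at hD1
    omega
  have hcardQ₁ : Nat.card (↥Q₁ ⧸ R.subgroupOf Q₁) ∣ q ^ mQ := by
    have h1 : Nat.card (↥Q₁ ⧸ R.subgroupOf Q₁) ∣ Nat.card Q₁ := Subgroup.card_quotient_dvd_card _
    have h2 : Nat.card Q₁ ∣ Nat.card Q := Subgroup.card_dvd_of_le hQ₁Q
    rw [hmQ] at h2
    exact h1.trans h2
  have hDd : D ∣ q ^ mQ := by
    rw [← hD2] at hcardQ₁
    exact (Dvd.intro _ rfl).trans hcardQ₁
  obtain ⟨b, _, hb⟩ := (Nat.dvd_prime_pow Fact.out).mp hDd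
  have hb1 : 1 ≤ b := by
    by_contra hcon
    have : b = 0 := by omega
    rw [this, pow_zero] at hb
    omega
  have h2n : 2 ^ n = q ^ b + 1 := by
    rw [← hb, hD1]
    have : 1 ≤ 2 ^ n := Nat.one_le_two_pow
    omega
  have hb2 : b = 1 := mersenne_pow Fact.out hq2 hn2 hb1 h2n
  rw [hb2, pow_one] at h2n hb
  refine ⟨hn2, h2n, by rw [← hD2, hb], ?_⟩
  -- `a` is trivial on the fixed points of `y`
  intro g hg hgy
  by_contra hcon
  letI : Fintype Q := Fintype.ofFinite _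
  haveI hnontriv : Nontrivial U := Submodule.nontrivial_iff_ne_bot.mpr hU0
  have hH := hD.isHeis
  haveI hCn : (R.subgroupOf Q).Normal := hH.normal
  set C := R.subgroupOf Q with hC
  set ρQ := qRep ρ Q U hD.hUQ with hρQ
  set σ := conjAutOf Q a hQa with hσ
  set T : End K U := (ρ a).restrict hUa with hT
  have hY : (Fintype.card Q : K) ≠ 0 := by
    rwa [← Nat.card_eq_fintype_card]
  have hTpow : ∀ i (v : U), (((T ^ i) v : U) : V) = ((ρ a) ^ i) v := by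
    intro i v
    induction i with
    | zero => simp
    | succ i ih =>
      rw [pow_succ', pow_succ', Module.End.mul_apply, Module.End.mul_apply, hT,
        LinearMap.coe_restrict_apply, ← hT, ih]
  have hT1 : T ^ (2 ^ n) = 1 := by
    ext v
    rw [hTpow, ← map_pow, hapow, map_one]
    simp
  have hsum : ∑ i ∈ Finset.range (2 ^ n), T ^ i = 0 := by
    ext v
    have h1 := hs v v.2
    simp only [LinearMap.sum_apply, LinearMap.zero_apply, Submodule.coe_sum, hTpow, ZeroMemClass.coe_zero]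
    rw [← h1]
    refine Finset.sum_congr rfl fun i _ => ?_
    rw [map_pow]
  have hTσ : ∀ u, T * ρQ u = ρQ (σ u) * T := by
    intro u
    ext v
    simp only [Module.End.mul_apply, hρQ, qRep_apply, hT, LinearMap.coe_restrict_apply, hσ,
      conjAutOf_coe]
    rw [map_mul, map_mul, Module.End.mul_apply, Module.End.mul_apply]
    have : ρ a⁻¹ (ρ a v) = v := by
      rw [← Module.End.mul_apply, ← map_mul, inv_mul_cancel, map_one]
      rfl
    rw [this]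
  have hσC : ∀ c, σ c ∈ C ↔ c ∈ C := by
    intro c
    rw [hC, Subgroup.mem_subgroupOf, Subgroup.mem_subgroupOf, hσ, conjAutOf_coe]
    exact hRa c c.2
  have hσpow : σ ^ 2 ^ n = 1 := conjAutOf_pow_eq_one Q a hQa hapow
  have hσy : ∀ c : Q, (((σ ^ 2 ^ (n - 1)) c : Q) : G) = y * c * y⁻¹ := by
    intro c
    rw [hσ, conjAutOf_pow_coe, hy]
  have hΩcomm : ∀ x t : Q ⧸ C, x * t = t * x := by
    intro x t
    obtain ⟨x, rfl⟩ := QuotientGroup.mk_surjective x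
    obtain ⟨t, rfl⟩ := QuotientGroup.mk_surjective t
    rw [← QuotientGroup.mk_mul, ← QuotientGroup.mk_mul, QuotientGroup.eq]
    have := hH.comm t⁻¹ x⁻¹
    simpa [mul_assoc] using this
  have hΩodd : Odd (Nat.card (Q ⧸ C)) := by
    have h1 : Nat.card (Q ⧸ C) ∣ q ^ mQ := by
      rw [← hmQ]
      exact Subgroup.card_quotient_dvd_card _
    obtain ⟨j, _, hj⟩ := (Nat.dvd_prime_pow Fact.out).mp h1
    rw [hj]
    exact hqodd.pow
  -- the image of `[Q, y]`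
  let φ : ↥Q₁ →* Q ⧸ C := (QuotientGroup.mk' C).comp (Subgroup.inclusion hQ₁Q)
  have hφker : φ.ker = R.subgroupOf Q₁ := by
    ext c
    rw [MonoidHom.mem_ker, Subgroup.mem_subgroupOf]
    show ((⟨c, hQ₁Q c.2⟩ : Q) : Q ⧸ C) = 1 ↔ _
    rw [QuotientGroup.eq_one_iff, hC, Subgroup.mem_subgroupOf]
  have hφcard : Nat.card φ.range = q * q := by
    rw [← Subgroup.index_ker, hφker, Subgroup.index_eq_card, ← hD2, hb]
  have hφinv : ∀ x ∈ φ.range, ((permOf C σ hσC) ^ 2 ^ (n - 1)) x = x⁻¹ := by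
    rintro _ ⟨c, rfl⟩
    show ((permOf C σ hσC) ^ 2 ^ (n - 1)) ((⟨c, hQ₁Q c.2⟩ : Q) : Q ⧸ C) = ((⟨c, hQ₁Q c.2⟩ : Q) : Q ⧸ C)⁻¹
    rw [permOf_pow_mk, ← QuotientGroup.mk_inv, QuotientGroup.eq, hC, Subgroup.mem_subgroupOf]
    simp only [Subgroup.coe_mul, Subgroup.coe_inv, hσy]
    have h1 := commY_inverted hD hy2 hyQ c.2
    have e : (y * (c : G) * y⁻¹)⁻¹ * (c : G)⁻¹ = ((c : G) * (y * (c : G) * y⁻¹ * (c : G)) * (c : G)⁻¹)⁻¹ := by
      group
    rw [e]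
    exact inv_mem (hD.conj_mem (hQ₁Q c.2) h1)
  have hlow0 := card_mul_fix_le hΩcomm hΩodd ((permOf C σ hσC) ^ 2 ^ (n - 1)) φ.range hφinv
  rw [hφcard] at hlow0
  have hD' : 2 ^ n - 1 = q := by omega
  have hlow : (2 ^ n - 1) * (2 ^ n - 1) *
      Nat.card {ω : Q ⧸ C // ((permOf C σ hσC) ^ 2 ^ (n - 1)) ω = ω} ≤ Nat.card (Q ⧸ C) := by
    rw [hD']
    exact hlow0
  have hg' : ((permOf C σ hσC) ^ 2 ^ (n - 1)) ((⟨g, hg⟩ : Q) : Q ⧸ C) = ((⟨g, hg⟩ : Q) : Q ⧸ C) := by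
    rw [permOf_pow_mk, QuotientGroup.eq, hC, Subgroup.mem_subgroupOf]
    simp only [Subgroup.coe_mul, Subgroup.coe_inv, hσy]
    have e : (y * g * y⁻¹)⁻¹ * g = (y * g * y⁻¹)⁻¹ * (y * g * y⁻¹ * g⁻¹)⁻¹ * (y * g * y⁻¹)⁻¹⁻¹ := by group
    rw [e]
    exact hD.conj_mem (inv_mem (hyQ g hg)) (inv_mem hgy)
  have hres := fixed_trivial hH hY T hn hT1 hsum σ hσpow hTσ hσC hlow ⟨g, hg⟩ hg'
  rw [permOf_mk, QuotientGroup.eq, hC, Subgroup.mem_subgroupOf] at hres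
  simp only [Subgroup.coe_mul, Subgroup.coe_inv, hσ, conjAutOf_coe] at hres
  apply hcon
  have e : a * g * a⁻¹ * g⁻¹ = (a * g * a⁻¹) * ((a * g * a⁻¹)⁻¹ * g)⁻¹ * (a * g * a⁻¹)⁻¹ := by group
  rw [e]
  exact hD.conj_mem (hQa g hg) (inv_mem hres)

end main

end Cfsg.Agent.Lib.Gross.Type
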