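import Mathlib
import Cfsg.Agent.Lib.Gross.Type

/-!
# Moved weights and the rank of `ρ(a) - 1`
-/

set_option autoImplicit false
set_option linter.unusedSectionVars false
set_option linter.style.haveILetI false

namespace Cfsg.Agent.Lib.Gross.Weights

open Module Cfsg.Agent.Lib.OddOrder.HHCore Cfsg.Agent.Lib.OddOrder.HHGroup
open Cfsg.Agent.Lib.HallHigman.Core Cfsg.Agent.Lib.HallHigman.Block Cfsg.Agent.Lib.HallHigman.Level
open Cfsg.Agent.Lib.HallHigman.Commutant Cfsg.Agent.Lib.HallHigman.Reduce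
open Cfsg.Agent.Lib.HallHigman.MinGroup
open Cfsg.Agent.Lib.Ward Cfsg.Agent.Lib.Gross.Eigen Cfsg.Agent.Lib.Gross.Level Cfsg.Agent.Lib.Gross.Count
open Cfsg.Agent.Lib.Gross.Type

variable {X : Type*} [Group X] [Finite X] {K : Type*} [Field K]
variable {V : Type*} [AddCommGroup V] [Module K V]

/-- A moved weight is different from its conjugate. -/
theorem wtConj_ne {N : Subgroup X} {lam : X → K} {g : X} (hg : g ∈ Subgroup.normalizer (N : Set X))
    (hne : g ∉ wtStab N lam) : ∃ y ∈ N, wtConj g lam y ≠ lam y := by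
  by_contra hcon
  push Not at hcon
  exact hne ⟨hg, fun y hy => hcon y hy⟩

/-- A vector of two different weights is zero. -/
theorem eq_zero_of_two_wt {ρ : X →* End K V} {N : Subgroup X} {lam mu : X → K} {v : V} (h : IsWt ρ N lam v)
    (h' : IsWt ρ N mu v) (hne : ∃ y ∈ N, lam y ≠ mu y) : v = 0 := by
  by_contra hv
  obtain ⟨y, hy, hyne⟩ := hne
  exact hyne (wt_unique h h' hv hy)

theorem conj_of_norm {N : Subgroup X} {g : X} (hg : g ∈ Subgroup.normalizer (N : Set X)) :
    ∀ y ∈ N, g⁻¹ * y * g ∈ N := fun _ hy => conj_inv_mem_of_norm le_rfl hg hy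

/-- The operator `ρ(a) - 1` is injective on a moved weight space. -/
theorem finrank_le_of_moved [FiniteDimensional K V] (ρ : X →* End K V) {N : Subgroup X} {lam : X → K} {a : X}
    (ha : a ∈ Subgroup.normalizer (N : Set X)) (hne : a ∉ wtStab N lam) {U : Submodule K V}
    (hU : U ≤ wtSpace ρ N lam) : finrank K U ≤ finrank K (LinearMap.range (ρ a - 1)) := by
  let f : U →ₗ[K] LinearMap.range (ρ a - 1) :=
    ((ρ a - 1) ∘ₗ U.subtype).codRestrict _ (fun v => ⟨v, rfl⟩)
  have hf : Function.Injective f := by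
    rw [injective_iff_map_eq_zero]
    rintro ⟨v, hv⟩ h0
    have h1 : (ρ a - 1) v = 0 := congrArg Subtype.val h0
    have h2 : ρ a v = v := by
      rw [LinearMap.sub_apply, Module.End.one_apply, sub_eq_zero] at h1
      exact h1
    have hw : IsWt ρ N lam v := hU hv
    have h3 := hw.conj (conj_of_norm ha)
    rw [h2] at h3
    obtain ⟨y, hy, hyne⟩ := wtConj_ne ha hne
    have h4 := eq_zero_of_two_wt h3 hw ⟨y, hy, hyne⟩
    exact Subtype.ext h4
  exact LinearMap.finrank_le_finrank_of_injective hf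

/-- If `a ^ 2` moves a weight, `ρ(a) - 1` has rank at least three. -/
theorem three_le_rank [FiniteDimensional K V] (ρ : X →* End K V) {N : Subgroup X} {lam : X → K} {a : X}
    {n : ℕ} (ha1 : a ^ 2 ^ n = 1) (ha : a ∈ Subgroup.normalizer (N : Set X)) (hne : a ^ 2 ∉ wtStab N lam)
    {w : V} (hw : IsWt ρ N lam w) (hw0 : w ≠ 0) : 3 ≤ finrank K (LinearMap.range (ρ a - 1)) := by
  classical
  have hK : ∀ i : ℕ, ∀ y ∈ N, (a ^ i)⁻¹ * y * a ^ i ∈ N := fun i y hy =>
    conj_inv_mem_of_norm le_rfl (pow_mem ha i) hy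
  have hstab : ∀ m : ℕ, 0 < m → m < 4 → a ^ m ∉ wtStab N lam := by
    intro m hm0 hm4 hmem
    apply hne
    have h1 : a ∈ wtStab N lam ∨ a ^ 2 ∈ wtStab N lam := by
      interval_cases m
      · left; simpa using hmem
      · right; exact hmem
      · left
        have hc : Nat.Coprime 3 (2 ^ n) := Nat.Coprime.pow_right _ (by norm_num)
        exact mem_of_pow_mem ha1 hmem hc
    rcases h1 with h1 | h1
    · exact pow_mem h1 2
    · exact h1
  have hdist : ∀ i ∈ Finset.range 4, ∀ j ∈ Finset.range 4, i ≠ j →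
      ∃ y ∈ N, wtConj (a ^ i) lam y ≠ wtConj (a ^ j) lam y := by
    have key : ∀ i j : ℕ, i < j → j < 4 → ∃ y ∈ N, wtConj (a ^ i) lam y ≠ wtConj (a ^ j) lam y := by
      intro i j hij hj
      by_contra hcon
      push Not at hcon
      obtain ⟨m, rfl⟩ : ∃ m, j = i + m := ⟨j - i, by omega⟩
      apply hstab m (by omega) (by omega)
      refine ⟨pow_mem ha m, fun y hy => ?_⟩
      have hy' : a ^ i * y * (a ^ i)⁻¹ ∈ N := conj_mem_of_norm le_rfl (pow_mem ha i) hy
      have := hcon _ hy'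
      simp only [wtConj] at this
      have e1 : (a ^ i)⁻¹ * (a ^ i * y * (a ^ i)⁻¹) * a ^ i = y := by group
      have e2 : (a ^ (i + m))⁻¹ * (a ^ i * y * (a ^ i)⁻¹) * a ^ (i + m) = (a ^ m)⁻¹ * y * a ^ m := by
        rw [pow_add]; group
      rw [e1, e2] at this
      exact this.symm
    intro i hi j hj hij
    rw [Finset.mem_range] at hi hj
    rcases lt_or_gt_of_ne hij with h | h
    · exact key i j h hj
    · obtain ⟨y, hy, hne'⟩ := key j i h hi
      exact ⟨y, hy, hne'.symm⟩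
  have hvne : ∀ i : ℕ, ρ (a ^ i) w ≠ 0 := fun i h => hw0 ((rho_eq_zero_iff ρ _ w).mp h)
  -- three vectors in the range
  let u : Fin 3 → LinearMap.range (ρ a - 1) := fun i =>
    ⟨(ρ a - 1) (ρ (a ^ (i : ℕ)) w), LinearMap.mem_range_self _ _⟩
  have hu : LinearIndependent K u := by
    rw [Fintype.linearIndependent_iff]
    intro g hg
    have h1 : g 0 • (ρ (a ^ 1) w - ρ (a ^ 0) w) + g 1 • (ρ (a ^ 2) w - ρ (a ^ 1) w) +
        g 2 • (ρ (a ^ 3) w - ρ (a ^ 2) w) = 0 := by
      have h2 := congrArg Subtype.val hg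
      simp only [Fin.sum_univ_three, Submodule.coe_add, Submodule.coe_smul, u, LinearMap.sub_apply,
        Module.End.one_apply, ← rho_mul, Submodule.coe_zero] at h2
      simpa [pow_succ', pow_zero] using h2
    let c : ℕ → K := fun i => if i = 0 then -g 0 else if i = 1 then g 0 - g 1 else if i = 2 then g 1 - g 2 else g 2
    have hc : ∀ i ∈ Finset.range 4, c i • ρ (a ^ i) w = 0 := by
      have hsum : ∑ i ∈ Finset.range 4, c i • ρ (a ^ i) w = 0 := by
        have key : ∀ v0 v1 v2 v3 : V, g 0 • (v1 - v0) + g 1 • (v2 - v1) + g 2 • (v3 - v2) = 0 →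
            (-g 0) • v0 + (g 0 - g 1) • v1 + (g 1 - g 2) • v2 + g 2 • v3 = 0 := by
          intro v0 v1 v2 v3 h
          rw [← h]
          module
        have c0 : c 0 = -g 0 := by simp [c]
        have c1 : c 1 = g 0 - g 1 := by simp [c]
        have c2 : c 2 = g 1 - g 2 := by simp [c]
        have c3 : c 3 = g 2 := by simp [c]
        simp only [Finset.sum_range_succ, Finset.sum_range_zero, zero_add, c0, c1, c2, c3]
        exact key _ _ _ _ h1
      exact eq_zero_of_sum_eq_zero (ρ := ρ) (K := N) (Finset.range 4)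
        (fun i => wtConj (a ^ i) lam) hdist
        (fun i => c i • ρ (a ^ i) w)
        (fun i _ => (hw.conj (hK i)).smul _) hsum
    have h0 : g 0 = 0 := by
      have := hc 0 (by simp)
      have h4 := (smul_eq_zero.mp this).resolve_right (hvne 0)
      simpa [c] using h4
    have h3 : g 2 = 0 := by
      have := hc 3 (by simp)
      have h4 := (smul_eq_zero.mp this).resolve_right (hvne 3)
      simpa [c] using h4
    have h2 : g 1 = 0 := by
      have := hc 2 (by simp)
      have h4 := (smul_eq_zero.mp this).resolve_right (hvne 2)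
      have h5 : g 1 - g 2 = 0 := by simpa [c] using h4
      rw [h3, sub_zero] at h5
      exact h5
    intro i
    fin_cases i
    · exact h0
    · exact h2
    · exact h3
  have := hu.fintype_card_le_finrank
  simpa using this

section simple

variable {k : Type*} [Field k] {W : Type*} [AddCommGroup W] [Module k W]
variable {Y : Type*} [Group Y] [Fintype Y]

/-- A minimal invariant subspace of a Heisenberg type representation has dimension `√|Y / C|`. -/
theorem exists_simple_sub [IsAlgClosed k] [FiniteDimensional k W] [Nontrivial W]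
    {ρ : Y →* End k W} {C : Subgroup Y} (h : IsHeis ρ C) (hY : (Fintype.card Y : k) ≠ 0) :
    ∃ U : Submodule k W, U ≠ ⊥ ∧ finrank k U * finrank k U = Nat.card (Y ⧸ C) := by
  classical
  let F : Set (Submodule k W) := {U | U ≠ ⊥ ∧ ∀ y, ∀ v ∈ U, ρ y v ∈ U}
  have hFne : F.Nonempty := ⟨⊤, top_ne_bot, fun _ _ _ => trivial⟩
  obtain ⟨U, hU, hUmin⟩ := (wellFounded_lt (α := Submodule k W)).has_min F hFne
  have hU0 : U ≠ ⊥ := hU.1
  have hUinv : ∀ y, ∀ v ∈ U, ρ y v ∈ U := hU.2
  haveI : Nontrivial U := Submodule.nontrivial_iff_ne_bot.mpr hU0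
  set ρU := resRep ρ U hUinv with hρU
  have hHeis : IsHeis ρU C := by
    refine ⟨?_, h.comm, ?_⟩
    · intro c hc
      obtain ⟨t, ht⟩ := h.scal c hc
      refine ⟨t, ?_⟩
      ext v
      simp [hρU, ht]
    · intro y hy
      obtain ⟨u, hu⟩ := h.nd y hy
      refine ⟨u, ?_⟩
      obtain ⟨t, ht⟩ := h.scal _ (h.comm u y)
      intro h1
      apply hu
      obtain ⟨v, hv⟩ := exists_ne (0 : U)
      have h2 := congrArg (fun f : End k U => ((f v : U) : W)) h1
      simp only [hρU, resRep_apply, Module.End.one_apply, ht, LinearMap.smul_apply] at h2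
      have h3 : (t - 1) • (v : W) = 0 := by
        rw [sub_smul, one_smul, h2, sub_self]
      have h4 : t - 1 = 0 := by
        apply (smul_eq_zero.mp h3).resolve_right
        intro h5
        exact hv (Subtype.ext h5)
      have h5 : t = 1 := sub_eq_zero.mp h4
      rw [ht, h5, one_smul]
  have hSimple : IsSimpleRep ρU := by
    intro U₀ hinv hne
    have h1 : U₀.map U.subtype ≤ U := by
      rintro _ ⟨v, _, rfl⟩
      exact v.2
    have h2 : U₀.map U.subtype ≠ ⊥ := by
      intro h3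
      apply hne
      rw [eq_bot_iff]
      intro v hv
      have h4 : (v : W) ∈ U₀.map U.subtype := ⟨v, hv, rfl⟩
      rw [h3, Submodule.mem_bot] at h4
      rw [Submodule.mem_bot]
      exact Subtype.ext h4
    have h3 : U₀.map U.subtype = U := by
      by_contra hcon
      exact hUmin _ ⟨h2, by
        rintro y _ ⟨v, hv, rfl⟩
        exact ⟨ρU y v, hinv y v hv, rfl⟩⟩ (lt_of_le_of_ne h1 hcon)
    rw [eq_top_iff]
    intro v _
    have h4 : (v : W) ∈ U₀.map U.subtype := by
      rw [h3]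
      exact v.2
    obtain ⟨v', hv', hvv⟩ := h4
    have : v' = v := Subtype.ext hvv
    rwa [← this]
  haveI : Fintype (Y ⧸ C) := Fintype.ofFinite _
  haveI := hHeis.normal
  have hcard := finrank_mul_self hHeis hSimple hY Quotient.out (fun c => QuotientGroup.out_eq' c)
  refine ⟨U, hU0, ?_⟩
  rw [hcard, Nat.card_eq_fintype_card]

end simple

section data

/-- The weight space of a central subgroup is invariant. -/
theorem wtSpace_inv {ρ : X →* End K V} {Q C₀ : Subgroup X} (hcentral : ∀ c ∈ C₀, ∀ g ∈ Q, c * g = g * c)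
    {lam : X → K} : ∀ g ∈ Q, ∀ v ∈ wtSpace ρ C₀ lam, ρ g v ∈ wtSpace ρ C₀ lam := by
  intro g hg v hv r hr
  rw [← rho_mul, hcentral r hr g hg, rho_mul, hv r hr, map_smul]

theorem le_centerOn {ρ : X →* End K V} {Q C₀ : Subgroup X} (hC₀Q : C₀ ≤ Q)
    (hcentral : ∀ c ∈ C₀, ∀ g ∈ Q, c * g = g * c) {U : Submodule K V}
    (hUQ : ∀ g ∈ Q, ∀ v ∈ U, ρ g v ∈ U) : C₀ ≤ centerOn ρ Q U hUQ := by
  intro c hc
  refine ⟨hC₀Q hc, fun h hh v _ => ?_⟩
  rw [← rho_mul, ← rho_mul, hcentral c hc h hh]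

/-- The second weight space is invariant. -/
theorem inf_wtSpace_inv {ρ : X →* End K V} {Q : Subgroup X} {U₁ : Submodule K V}
    (hU₁Q : ∀ g ∈ Q, ∀ v ∈ U₁, ρ g v ∈ U₁) {mu : X → K} :
    ∀ g ∈ Q, ∀ v ∈ U₁ ⊓ wtSpace ρ (centerOn ρ Q U₁ hU₁Q) mu,
      ρ g v ∈ U₁ ⊓ wtSpace ρ (centerOn ρ Q U₁ hU₁Q) mu := by
  intro g hg v hv
  obtain ⟨hv1, hv2⟩ := Submodule.mem_inf.mp hv
  refine Submodule.mem_inf.mpr ⟨hU₁Q g hg v hv1, ?_⟩
  intro r hr
  rw [hr.2 g hg v hv1, hv2 r hr, map_smul]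

/-- The Heisenberg data on a pair of weights. -/
theorem data_of_weights {ρ : X →* End K V} {Q C₀ : Subgroup X} (hC₀Q : C₀ ≤ Q)
    (hcentral : ∀ c ∈ C₀, ∀ g ∈ Q, c * g = g * c) (hcomm : ∀ u ∈ Q, ∀ g ∈ Q, u * g * u⁻¹ * g⁻¹ ∈ C₀)
    {lam mu : X → K} {w : V}
    (hw : w ∈ wtSpace ρ C₀ lam ⊓ wtSpace ρ (centerOn ρ Q _ (wtSpace_inv hcentral (lam := lam))) mu)
    (hw0 : w ≠ 0) :
    Data ρ Q (centerOn ρ Q _ (wtSpace_inv hcentral (lam := lam)))
      (wtSpace ρ C₀ lam ⊓ wtSpace ρ (centerOn ρ Q _ (wtSpace_inv hcentral (lam := lam))) mu) := by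
  set U₁ := wtSpace ρ C₀ lam with hU₁
  have hU₁Q : ∀ g ∈ Q, ∀ v ∈ U₁, ρ g v ∈ U₁ := wtSpace_inv hcentral
  set R := centerOn ρ Q U₁ hU₁Q with hR
  have hle : C₀ ≤ R := le_centerOn hC₀Q hcentral hU₁Q
  refine ⟨fun r hr => hr.1, inf_wtSpace_inv hU₁Q, ?_, ?_, ?_⟩
  · intro r hr
    exact ⟨mu r, fun v hv => (Submodule.mem_inf.mp hv).2 r hr⟩
  · intro u hu g hg
    exact hle (hcomm u hu g hg)
  · intro g hg hgR
    have h1 : ¬ ∀ h ∈ Q, ∀ v ∈ U₁, ρ g (ρ h v) = ρ h (ρ g v) := fun h => hgR ⟨hg, h⟩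
    push Not at h1
    obtain ⟨h, hh, v, hv, hne⟩ := h1
    refine ⟨h, hh, w, hw, ?_⟩
    have hc := hcomm h hh g hg
    have hwU₁ : w ∈ U₁ := (Submodule.mem_inf.mp hw).1
    intro hfix
    have ht : lam (h * g * h⁻¹ * g⁻¹) = 1 := by
      have h2 := hwU₁ _ hc
      rw [hfix] at h2
      have h3 : (lam (h * g * h⁻¹ * g⁻¹) - 1) • w = 0 := by
        rw [sub_smul, one_smul, ← h2, sub_self]
      exact sub_eq_zero.mp ((smul_eq_zero.mp h3).resolve_right hw0)
    apply hne
    have h4 := (hU₁Q g hg _ (hU₁Q h hh v hv)) _ hc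
    have e : ρ (h * g * h⁻¹ * g⁻¹) (ρ g (ρ h v)) = ρ h (ρ g v) := by
      simp only [rho_mul, rho_inv_mul]
    rw [e, ht, one_smul] at h4
    exact h4.symm

/-- A nontrivial Heisenberg section on a `t`-group, `t` odd, forces dimension at least three. -/
theorem three_le_finrank_of_data [IsAlgClosed K] [FiniteDimensional K V] {ρ : X →* End K V}
    {Q R : Subgroup X} {U : Submodule K V} (h : Data ρ Q R U) {t : ℕ} [Fact t.Prime] (ht2 : t ≠ 2)
    (hQ : IsPGroup t Q) (hQK : (Nat.card Q : K) ≠ 0) (hU0 : U ≠ ⊥) {g : X} (hg : g ∈ Q) (hgR : g ∉ R) :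
    3 ≤ finrank K U := by
  classical
  letI : Fintype Q := Fintype.ofFinite _
  haveI : Nontrivial U := Submodule.nontrivial_iff_ne_bot.mpr hU0
  have hH := h.isHeis
  have hY : (Fintype.card Q : K) ≠ 0 := by
    rwa [← Nat.card_eq_fintype_card]
  obtain ⟨S, hS0, hS⟩ := exists_simple_sub hH hY
  have hle : finrank K S ≤ finrank K U := Submodule.finrank_le S
  haveI hCn : (R.subgroupOf Q).Normal := hH.normal
  have hne : R.subgroupOf Q ≠ ⊤ := by
    intro htop
    have : (⟨g, hg⟩ : Q) ∈ R.subgroupOf Q := by rw [htop]; trivial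
    exact hgR this
  have hnt : Nontrivial (Q ⧸ R.subgroupOf Q) := QuotientGroup.nontrivial_iff.mpr hne
  have hcard1 : 1 < Nat.card (Q ⧸ R.subgroupOf Q) := Finite.one_lt_card
  obtain ⟨m, hm⟩ := IsPGroup.iff_card.mp hQ
  have hdvd : finrank K S ∣ t ^ m := by
    rw [← hm]
    refine Dvd.dvd.trans ?_ (Subgroup.card_quotient_dvd_card (R.subgroupOf Q))
    rw [← hS]
    exact Dvd.intro _ rfl
  obtain ⟨i, _, hi⟩ := (Nat.dvd_prime_pow Fact.out).mp hdvd
  have hi0 : i ≠ 0 := by
    rintro rfl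
    rw [pow_zero] at hi
    rw [hi] at hS
    omega
  have ht3 : 3 ≤ t := by
    have := (Fact.out : t.Prime).two_le
    omega
  have h5 : t ≤ t ^ i := Nat.le_self_pow hi0 t
  omega

end data

end Cfsg.Agent.Lib.Gross.Weights
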