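import Mathlib
import Cfsg.Agent.Lib.Gross.Weights

/-!
# An element of small rank centralises odd subgroups it normalises

Let `a` be a `2`-element of order `2 ^ n`, `n ≥ 2`, with `rank (ρ(a) - 1) ≤ 2`, in characteristic different
from `2` and `t`.  Then the last power of `a` centralises every `t`-group normalised by `a`, except if
`t = 3` and `n = 2`.
-/

set_option autoImplicit false
set_option linter.unusedSectionVars false
set_option linter.style.haveILetI false

namespace Cfsg.Agent.Lib.Gross.TOdd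

open Module Cfsg.Agent.Lib.OddOrder.HHCore Cfsg.Agent.Lib.OddOrder.HHGroup
open Cfsg.Agent.Lib.HallHigman.Core Cfsg.Agent.Lib.HallHigman.Block Cfsg.Agent.Lib.HallHigman.Level
open Cfsg.Agent.Lib.HallHigman.Commutant Cfsg.Agent.Lib.HallHigman.Reduce
open Cfsg.Agent.Lib.HallHigman.MinGroup
open Cfsg.Agent.Lib.Ward Cfsg.Agent.Lib.Gross.Eigen Cfsg.Agent.Lib.Gross.Level Cfsg.Agent.Lib.Gross.Count
open Cfsg.Agent.Lib.Gross.Type Cfsg.Agent.Lib.Gross.Weights

variable {X : Type*} [Group X] [Finite X] {K : Type*} [Field K]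
variable {V : Type*} [AddCommGroup V] [Module K V]

/-- The numerics. -/
theorem odd_arith {d c A : ℕ} (hd : Odd d) (hd2 : 2 ≤ d) (hc1 : (d - 2) * (d - 2) ≤ c) (hc2 : d ≤ c)
    (hA : 4 ≤ A) (hb : c * A + 1 ≤ A + d * d) : d = 3 ∧ A = 4 := by
  have hd3 : 3 ≤ d := by
    obtain ⟨m, hm⟩ := hd
    omega
  by_cases hd5 : 5 ≤ d
  · exfalso
    obtain ⟨e, rfl⟩ : ∃ e, d = e + 5 := ⟨d - 5, by omega⟩
    have h1 : (e + 3) * (e + 3) ≤ c := by
      have : e + 5 - 2 = e + 3 := by omega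
      rwa [this] at hc1
    have h2 : (e + 3) * (e + 3) * A + 1 ≤ A + (e + 5) * (e + 5) :=
      le_trans (Nat.add_le_add_right (Nat.mul_le_mul_right _ h1) 1) hb
    have h3 : (e + 3) * (e + 3) * 4 + 3 * ((e + 3) * (e + 3) - 1) * 0 ≤ (e + 3) * (e + 3) * A := by
      simp only [mul_zero, add_zero]
      exact Nat.mul_le_mul_left _ hA
    obtain ⟨B, rfl⟩ : ∃ B, A = B + 4 := ⟨A - 4, by omega⟩
    nlinarith
  · have hd34 : d = 3 ∨ d = 4 := by omega
    rcases hd34 with rfl | rfl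
    · refine ⟨rfl, ?_⟩
      have h1 : 3 * A + 1 ≤ A + 9 := le_trans (Nat.add_le_add_right (Nat.mul_le_mul_right _ hc2) 1) hb
      omega
    · exfalso
      obtain ⟨m, hm⟩ := hd
      omega

/-- **The last power of `a` centralises `t`-groups.** -/
theorem centralizes_odd [IsAlgClosed K] [FiniteDimensional K V] (ρ : X →* End K V)
    (hρ : Function.Injective ρ) (h2 : (2 : K) ≠ 0) (a : X) {n : ℕ} (hn : 2 ≤ n) (ha : orderOf a = 2 ^ n)
    (hrank : finrank K (LinearMap.range (ρ a - 1)) ≤ 2) {t : ℕ} [Fact t.Prime] (ht2 : t ≠ 2)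
    (htK : (t : K) ≠ 0) (E : Subgroup X) (hE : IsPGroup t E) (hEa : ∀ g ∈ E, a * g * a⁻¹ ∈ E)
    (hex : ¬ (t = 3 ∧ n = 2)) : ∀ g ∈ E, a ^ 2 ^ (n - 1) * g * (a ^ 2 ^ (n - 1))⁻¹ = g := by
  classical
  haveI : Fact (Nat.Prime 2) := ⟨Nat.prime_two⟩
  by_contra hcon
  push Not at hcon
  obtain ⟨g₀, hg₀, hg₀ne⟩ := hcon
  set y := a ^ 2 ^ (n - 1) with hy
  obtain ⟨E', hE'E, hmin⟩ := exists_isMinFor a y E hEa ⟨g₀, hg₀, hg₀ne⟩
  have hE'p : IsPGroup t E' := hE.to_le hE'E
  have hE'K : (Nat.card E' : K) ≠ 0 := by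
    obtain ⟨m, hm⟩ := IsPGroup.iff_card.mp hE'p
    rw [hm, Nat.cast_pow]
    exact pow_ne_zero _ htK
  have hapow : a ^ 2 ^ n = 1 := by
    rw [← ha]; exact pow_orderOf_eq_one a
  have hn' : n - 1 + 1 = n := by omega
  have hy2 : y * y = 1 := by
    rw [hy, ← pow_add, ← two_mul]
    have e : 2 * 2 ^ (n - 1) = 2 ^ n := by
      rw [← pow_succ', hn']
    rw [e, hapow]
  have hyp : y ^ 2 = 1 := by rw [pow_two, hy2]
  have hyinv : y⁻¹ = y := (eq_inv_of_mul_eq_one_left hy2).symm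
  have hay : a * y = y * a := by
    rw [hy]
    exact ((Commute.refl a).pow_right _).eq
  have hyE' : ∀ g ∈ E', y * g * y⁻¹ ∈ E' := conj_pow_mem hmin.hx _
  have hcop2 : Nat.Coprime 2 t := (Nat.coprime_primes Nat.prime_two Fact.out).mpr (Ne.symm ht2)
  have hfix := fun (c : X) (hc : c ∈ E') (hcy : y * c * y⁻¹ = c) =>
    fixed_central hmin hE'p hcop2 hyp hay hyE' hc hcy
  have haE' : a ∈ Subgroup.normalizer (E' : Set X) :=
    mem_norm_of_conj (fun g hg => hmin.hx g hg) (fun g hg => conj_inv_mem hmin.hx g hg)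
  have hysq : ∀ S : Subgroup X, a ^ 2 ∈ S → y ∈ S := by
    intro S hS
    have e : y = (a ^ 2) ^ 2 ^ (n - 2) := by
      rw [hy, ← pow_mul, ← pow_succ']
      congr 2
      omega
    rw [e]
    exact pow_mem hS _
  have hcopE' : Nat.Coprime 2 (Nat.card E') := by
    obtain ⟨m, hm⟩ := IsPGroup.iff_card.mp hE'p
    rw [hm]
    exact Nat.Coprime.pow_right _ hcop2
  by_cases habel : ∀ x ∈ E', ∀ z ∈ E', x * z = z * x
  · -- the abelian case
    obtain ⟨g, hg, hgne⟩ := hmin.ne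
    have hne1 : y * g * y⁻¹ * g⁻¹ ≠ 1 := by
      intro h
      exact hgne (mul_inv_eq_one.mp h)
    have hf : ¬ ∀ w ∈ (⊤ : Submodule K V), ρ (y * g * y⁻¹ * g⁻¹) w = w := by
      intro h
      apply hne1
      apply hρ
      ext w
      simpa using h w trivial
    obtain ⟨w, _, lam, hwt, hwne⟩ := exists_wt_of_ne (ρ := ρ) (K := E') hE'K (U := ⊤)
      (fun _ _ _ _ => trivial)
      (fun y' hy' z hz v _ => by rw [← rho_mul, ← rho_mul, habel y' hy' z hz]) _ hf
    have hw0 : w ≠ 0 := by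
      rintro rfl
      simp at hwne
    have hnot : a ^ 2 ∉ wtStab E' lam := by
      intro hmem
      have hym := hysq _ hmem
      apply hwne
      have hmemg : y * g * y⁻¹ ∈ E' := hyE' g hg
      have e1 : lam (y * g * y⁻¹) = lam g := by
        have := hym.2 g hg
        have e : y⁻¹ * g * y = y * g * y⁻¹ := by
          rw [hyinv]
        rwa [e] at this
      rw [hwt _ (mul_mem hmemg (inv_mem hg)), hwt.map_mul hw0 hmemg (inv_mem hg), e1,
        ← hwt.map_mul hw0 hg (inv_mem hg), mul_inv_cancel, hwt.map_one hw0, one_smul]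
    have h3 := three_le_rank ρ hapow haE' hnot hwt hw0
    omega
  · -- the nonabelian case
    push Not at habel
    obtain ⟨x, hx, z, hz, hxz⟩ := habel
    set c₀ := x * z * x⁻¹ * z⁻¹ with hc₀
    have hc₀1 : c₀ ≠ 1 := by
      intro h
      apply hxz
      rw [hc₀] at h
      have h1 : x * z * x⁻¹ = z := mul_inv_eq_one.mp h
      calc x * z = (x * z * x⁻¹) * x := by group
        _ = z * x := by rw [h1]
    set C₀ : Subgroup X := E' ⊓ Subgroup.centralizer ({y} : Set X) with hC₀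
    have memC₀ : ∀ {c : X}, c ∈ C₀ ↔ c ∈ E' ∧ y * c * y⁻¹ = c := by
      intro c
      rw [hC₀, Subgroup.mem_inf, Subgroup.mem_centralizer_singleton_iff]
      constructor
      · rintro ⟨h1, h2⟩
        refine ⟨h1, ?_⟩
        rw [← h2]
        group
      · rintro ⟨h1, h2⟩
        refine ⟨h1, ?_⟩
        calc c * y = (y * c * y⁻¹) * y := by rw [h2]
          _ = y * c := by group
    have hC₀Q : C₀ ≤ E' := inf_le_left
    have hC₀K : (Nat.card C₀ : K) ≠ 0 := card_ne_zero_of_le hC₀Q hE'K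
    have hC₀central : ∀ c ∈ C₀, ∀ g ∈ E', c * g = g * c := fun c hc =>
      hfix c (memC₀.mp hc).1 (memC₀.mp hc).2
    have hC₀comm : ∀ u ∈ E', ∀ g ∈ E', u * g * u⁻¹ * g⁻¹ ∈ C₀ := fun u hu g hg =>
      memC₀.mpr ⟨mul_mem (mul_mem (mul_mem hu hg) (inv_mem hu)) (inv_mem hg), comm_fixed hmin hE'p hu hg⟩
    have hne0 : ¬ ∀ w ∈ (⊤ : Submodule K V), ρ c₀ w = w := by
      intro h1
      apply hc₀1
      apply hρ
      ext w
      simpa using h1 w trivial
    obtain ⟨w, _, lam, hwwt, hwne⟩ := exists_wt_of_ne (ρ := ρ) (K := C₀) hC₀K (U := ⊤)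
      (fun _ _ _ _ => trivial)
      (fun y' hy' z' hz' v _ => by
        rw [← rho_mul, ← rho_mul, hC₀central y' hy' z' (hC₀Q hz')])
      (ρ c₀) hne0
    have hw0 : w ≠ 0 := by
      rintro rfl
      simp at hwne
    set U₁ := wtSpace ρ C₀ lam with hU₁
    have hU₁Q : ∀ g ∈ E', ∀ v ∈ U₁, ρ g v ∈ U₁ := wtSpace_inv hC₀central
    set R := centerOn ρ E' U₁ hU₁Q with hR
    have hRE' : R ≤ E' := fun g hg => hg.1
    have hRK : (Nat.card R : K) ≠ 0 := card_ne_zero_of_le hRE' hE'K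
    obtain ⟨w', hw'U₁, mu, hw'wt, hw'ne⟩ := exists_wt_of_ne (ρ := ρ) (K := R) hRK (U := U₁)
      (fun g hg v hv => hU₁Q g (hRE' hg) v hv)
      (fun g hg z' hz' v hv => hg.2 z' (hRE' hz') v hv)
      (0 : End K V) (by
        intro h
        exact hw0 (h w hwwt).symm)
    have hw'0 : w' ≠ 0 := by
      intro h
      apply hw'ne
      rw [h]
      simp
    set U₂ := U₁ ⊓ wtSpace ρ R mu with hU₂
    have hw'U₂ : w' ∈ U₂ := Submodule.mem_inf.mpr ⟨hw'U₁, hw'wt⟩
    have hD : Data ρ E' R U₂ := data_of_weights hC₀Q hC₀central hC₀comm hw'U₂ hw'0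
    have hU₂0 : U₂ ≠ ⊥ := by
      intro h
      rw [h, Submodule.mem_bot] at hw'U₂
      exact hw'0 hw'U₂
    have hxR : x ∉ R := by
      intro haR
      apply hwne
      have h1 := haR.2 z hz (ρ (x⁻¹ * z⁻¹) w) (hU₁Q _ (mul_mem (inv_mem hx) (inv_mem hz)) w hwwt)
      rw [hc₀]
      simp only [rho_mul, rho_inv_mul] at h1 ⊢
      rw [h1]
      simp only [rho_mul_inv]
    have h3 := three_le_finrank_of_data hD ht2 hE'p hE'K hU₂0 hx hxR
    -- `a` normalises
    have haC₀ : a ∈ Subgroup.normalizer (C₀ : Set X) := by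
      have hyconj : ∀ g : X, y * (a * g * a⁻¹) * y⁻¹ = a * (y * g * y⁻¹) * a⁻¹ := by
        intro g
        have : y = a * y * a⁻¹ := by rw [hay]; group
        calc y * (a * g * a⁻¹) * y⁻¹ = (a * y * a⁻¹) * (a * g * a⁻¹) * (a * y * a⁻¹)⁻¹ := by
              rw [← this]
          _ = _ := by group
      refine mem_norm_of_conj ?_ ?_
      · intro g hg
        obtain ⟨h1, h2⟩ := memC₀.mp hg
        refine memC₀.mpr ⟨hmin.hx g h1, ?_⟩
        rw [hyconj, h2]
      · intro g hg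
        obtain ⟨h1, h2⟩ := memC₀.mp hg
        refine memC₀.mpr ⟨conj_inv_mem hmin.hx g h1, ?_⟩
        have h4 := hyconj (a⁻¹ * g * a)
        have e : a * (a⁻¹ * g * a) * a⁻¹ = g := by group
        rw [e, h2] at h4
        have h5 : a * (y * (a⁻¹ * g * a) * y⁻¹) * a⁻¹ = a * (a⁻¹ * g * a) * a⁻¹ := by
          rw [← h4, e]
        exact mul_left_cancel (mul_right_cancel h5)
    have hrk : ∀ (N : Subgroup X) (lam' : X → K), a ∈ Subgroup.normalizer (N : Set X) →
        U₂ ≤ wtSpace ρ N lam' → a ∈ wtStab N lam' := by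
      intro N lam' hN hle
      by_contra hcon
      have := finrank_le_of_moved ρ hN hcon hle
      omega
    have ha₁ : a ∈ wtStab C₀ lam := hrk C₀ lam haC₀ inf_le_left
    have hU₁a : ∀ v ∈ U₁, ρ a v ∈ U₁ := by
      intro v hv
      have h1 := IsWt.conj hv (conj_of_norm haC₀)
      exact h1.congr fun y' hy' => ha₁.2 y' hy'
    have haR : a ∈ Subgroup.normalizer (R : Set X) := mem_normalizer_centerOn hmin.hx hU₁a
    have ha₂ : a ∈ wtStab R mu := hrk R mu haR inf_le_right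
    have hU₂a : ∀ v ∈ U₂, ρ a v ∈ U₂ := by
      intro v hv
      obtain ⟨hv1, hv2⟩ := Submodule.mem_inf.mp hv
      refine Submodule.mem_inf.mpr ⟨hU₁a v hv1, ?_⟩
      have h1 := IsWt.conj hv2 (conj_of_norm haR)
      exact h1.congr fun y' hy' => ha₂.2 y' hy'
    -- the count
    have hH := hD.isHeis
    have hCtop : R.subgroupOf E' ≠ ⊤ := by
      intro htop
      have : (⟨x, hx⟩ : E') ∈ R.subgroupOf E' := by rw [htop]; trivial
      exact hxR this
    have hinvC : ∀ c : E', conjAutOf E' a hmin.hx c ∈ R.subgroupOf E' ↔ c ∈ R.subgroupOf E' := by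
      intro c
      rw [Subgroup.mem_subgroupOf, Subgroup.mem_subgroupOf, conjAutOf_coe]
      exact (Subgroup.mem_normalizer_iff.mp haR (c : X)).symm
    have hCy : ∀ c : E', (a ^ 2 ^ (n - 1)) * (c : X) * (a ^ 2 ^ (n - 1))⁻¹ = c → c ∈ R.subgroupOf E' := by
      intro c hc
      rw [Subgroup.mem_subgroupOf]
      refine ⟨c.2, fun h' hh' v _ => ?_⟩
      rw [← rho_mul, ← rho_mul, hfix c c.2 hc h' hh']
    obtain ⟨S, hS, hS0, hScard, hSd, hSb⟩ := level_count ρ a (by omega) ha E' hcopE' hE'K hmin.hx U₂ hU₂0 hU₂a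
      hD.hUQ (R.subgroupOf E') hH hCtop hinvC hCy
    set T : End K U₂ := (ρ a).restrict hU₂a with hT
    set TS : End K S := T.restrict hS with hTS
    have hTSpow : ∀ i (v : S), ((((TS ^ i) v : S) : U₂) : V) = ((ρ a) ^ i) ((v : U₂) : V) := by
      intro i v
      induction i with
      | zero => simp
      | succ i ih =>
        rw [pow_succ', pow_succ', Module.End.mul_apply, Module.End.mul_apply, ← ih]
        rfl
    have hTS1 : TS ^ (2 ^ n) = 1 := by
      ext v
      rw [hTSpow, ← map_pow, hapow, map_one]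
      simp
    have hM : ((2 ^ n : ℕ) : K) ≠ 0 := by
      rw [Nat.cast_pow]
      exact pow_ne_zero _ (by exact_mod_cast h2)
    have hrankS : finrank K (LinearMap.range (TS - 1)) ≤ 2 := by
      refine le_trans ?_ hrank
      let f : LinearMap.range (TS - 1) →ₗ[K] LinearMap.range (ρ a - 1) :=
        ((U₂.subtype ∘ₗ S.subtype) ∘ₗ (LinearMap.range (TS - 1)).subtype).codRestrict _ (by
          rintro ⟨_, s, rfl⟩
          refine ⟨((s : U₂) : V), ?_⟩
          simp [hTS, hT])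
      apply LinearMap.finrank_le_finrank_of_injective (f := f)
      rw [injective_iff_map_eq_zero]
      rintro ⟨v, hv⟩ h0
      have h1 : (((v : S) : U₂) : V) = 0 := congrArg Subtype.val h0
      apply Subtype.ext
      apply Subtype.ext
      apply Subtype.ext
      exact h1
    obtain ⟨hg1, hg2⟩ := good_rank TS hM hTS1 hrankS
    -- `d` is a power of `t`
    obtain ⟨m, hm⟩ := IsPGroup.iff_card.mp hE'p
    have hdvd : finrank K S ∣ t ^ m := by
      rw [← hm]
      refine Dvd.dvd.trans ?_ (Subgroup.card_quotient_dvd_card (R.subgroupOf E'))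
      rw [← hScard]
      exact Dvd.intro _ rfl
    obtain ⟨i, _, hi⟩ := (Nat.dvd_prime_pow Fact.out).mp hdvd
    have htodd : Odd t := Nat.Prime.odd_of_ne_two Fact.out ht2
    have hdodd : Odd (finrank K S) := by
      rw [hi]
      exact htodd.pow
    have hA4 : 4 ≤ 2 ^ n := by
      calc 4 = 2 ^ 2 := rfl
        _ ≤ 2 ^ n := Nat.pow_le_pow_right (by norm_num) hn
    obtain ⟨hd3, hA⟩ := odd_arith hdodd hSd hg1 hg2 hA4 hSb
    apply hex
    have hn2 : n = 2 := by
      have h4 : (2 : ℕ) ^ n = 2 ^ 2 := by rw [hA]; rfl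
      exact Nat.pow_right_injective (le_refl 2) h4
    refine ⟨?_, hn2⟩
    rw [hd3] at hi
    have h5 : t ∣ 3 := by
      rw [hi]
      refine dvd_pow_self t ?_
      rintro rfl
      simp at hi
    exact ((Nat.prime_dvd_prime_iff_eq Fact.out Nat.prime_three).mp h5)

end Cfsg.Agent.Lib.Gross.TOdd
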