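import Mathlib
import Cfsg.Agent.Lib.Gross.TOdd
import Cfsg.Agent.Lib.Basic.SylowUtil
import Cfsg.Agent.Lib.PGroup.NormalRank

/-!
# An element of small rank acts trivially modulo squares on `2`-groups it normalises

Let `a` be a `2`-element with `rank (ρ(a) - 1) ≤ 2`, trivial on the fixed points of its last power `y`.
If `E` is a `2`-group normal in a `2`-group containing `a`, then `y e y⁻¹ = e u ^ 2` with `u ∈ E`.
-/

set_option autoImplicit false
set_option linter.unusedSectionVars false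
set_option linter.style.haveILetI false

namespace Cfsg.Agent.Lib.Gross.TTwo

open Module Cfsg.Agent.Lib.HallHigman.Core Cfsg.Agent.Lib.HallHigman.Block
open Cfsg.Agent.Lib.HallHigman.Reduce Cfsg.Agent.Lib.HallHigman.MinGroup
open Cfsg.Agent.Lib.Ward Cfsg.Agent.Lib.Gross.Weights

variable {X : Type*} [Group X] [Finite X] {K : Type*} [Field K]
variable {V : Type*} [AddCommGroup V] [Module K V]

/-- The type of an element. -/
structure IsType (ρ : X →* End K V) (a : X) (n : ℕ) : Prop where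
  ord : orderOf a = 2 ^ n
  rank : finrank K (LinearMap.range (ρ a - 1)) ≤ 2
  fix : ∀ v, ρ a (v + ρ (a ^ 2 ^ (n - 1)) v) = v + ρ (a ^ 2 ^ (n - 1)) v

theorem conj_pow' (g a : X) (k : ℕ) : (g * a * g⁻¹) ^ k = g * a ^ k * g⁻¹ := conj_pow

theorem rho_conj_eq (ρ : X →* End K V) (g a : X) (v : V) : ρ (g * a * g⁻¹) v = ρ g (ρ a (ρ g⁻¹ v)) := by
  simp only [rho_mul]

theorem IsType.conj [FiniteDimensional K V] {ρ : X →* End K V} {a : X} {n : ℕ} (h : IsType ρ a n) (g : X) :
    IsType ρ (g * a * g⁻¹) n := by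
  refine ⟨?_, ?_, ?_⟩
  · have e : g * a * g⁻¹ = MulAut.conj g a := rfl
    rw [e, MulEquiv.orderOf_eq]
    exact h.ord
  · refine le_trans ?_ h.rank
    let f : LinearMap.range (ρ (g * a * g⁻¹) - 1) →ₗ[K] LinearMap.range (ρ a - 1) :=
      ((ρ g⁻¹) ∘ₗ (LinearMap.range (ρ (g * a * g⁻¹) - 1)).subtype).codRestrict _ (by
        rintro ⟨_, s, rfl⟩
        refine ⟨ρ g⁻¹ s, ?_⟩
        simp only [LinearMap.sub_apply, Module.End.one_apply, LinearMap.comp_apply,
          Submodule.subtype_apply, map_sub, rho_conj_eq, rho_inv_mul])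
    apply LinearMap.finrank_le_finrank_of_injective (f := f)
    rw [injective_iff_map_eq_zero]
    rintro ⟨v, hv⟩ h0
    have h1 : ρ g⁻¹ v = 0 := congrArg Subtype.val h0
    have h2 := rho_mul_inv ρ g v
    rw [h1, map_zero] at h2
    exact Subtype.ext h2.symm
  · intro v
    rw [conj_pow']
    have h1 := h.fix (ρ g⁻¹ v)
    have e : v + ρ (g * a ^ 2 ^ (n - 1) * g⁻¹) v = ρ g (ρ g⁻¹ v + ρ (a ^ 2 ^ (n - 1)) (ρ g⁻¹ v)) := by
      simp only [map_add, rho_conj_eq, rho_mul_inv]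
    rw [e, rho_conj_eq, rho_inv_mul, h1]

/-- Weights are the same on `A`. -/
def Same (A : Subgroup X) (lam mu : X → K) : Prop := ∀ z ∈ A, lam z = mu z

theorem Same.symm {A : Subgroup X} {lam mu : X → K} (h : Same A lam mu) : Same A mu lam :=
  fun z hz => (h z hz).symm

theorem Same.trans {A : Subgroup X} {lam mu nu : X → K} (h : Same A lam mu) (h' : Same A mu nu) :
    Same A lam nu := fun z hz => (h z hz).trans (h' z hz)

theorem Same.refl (A : Subgroup X) (lam : X → K) : Same A lam lam := fun _ _ => rfl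

theorem Same.conj {A : Subgroup X} {lam mu : X → K} {g : X} (hg : g ∈ Subgroup.normalizer (A : Set X))
    (h : Same A lam mu) : Same A (wtConj g lam) (wtConj g mu) :=
  fun z hz => h _ (conj_of_norm hg z hz)

theorem Same.of_conj {A : Subgroup X} {lam mu : X → K} {g : X} (hg : g ∈ Subgroup.normalizer (A : Set X))
    (h : Same A (wtConj g lam) (wtConj g mu)) : Same A lam mu := by
  intro z hz
  have h1 := h _ (conj_mem_of_norm le_rfl hg hz)
  simp only [wtConj] at h1
  have e : g⁻¹ * (g * z * g⁻¹) * g = z := by group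
  rwa [e] at h1

theorem same_of_wt {ρ : X →* End K V} {A : Subgroup X} {lam mu : X → K} {x : V} (h : IsWt ρ A lam x)
    (h' : IsWt ρ A mu x) (hx : x ≠ 0) : Same A lam mu := fun _ hz => wt_unique h h' hx hz

theorem stab_iff {A : Subgroup X} {lam : X → K} {g : X} (hg : g ∈ Subgroup.normalizer (A : Set X)) :
    g ∈ wtStab A lam ↔ Same A (wtConj g lam) lam :=
  ⟨fun h z hz => h.2 z hz, fun h => ⟨hg, fun z hz => h z hz⟩⟩

theorem not_same_iff {A : Subgroup X} {lam mu : X → K} : ¬ Same A lam mu ↔ ∃ y ∈ A, lam y ≠ mu y := by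
  simp only [Same]
  push Not
  rfl

theorem sum3_zero {ρ : X →* End K V} {A : Subgroup X} {l₁ l₂ l₃ : X → K} {v₁ v₂ v₃ : V}
    (h₁ : IsWt ρ A l₁ v₁) (h₂ : IsWt ρ A l₂ v₂) (h₃ : IsWt ρ A l₃ v₃)
    (h12 : ¬ Same A l₁ l₂) (h13 : ¬ Same A l₁ l₃) (h23 : ¬ Same A l₂ l₃) (hs : v₁ + v₂ + v₃ = 0) :
    v₁ = 0 ∧ v₂ = 0 ∧ v₃ = 0 := by
  have hd : ∀ i ∈ (Finset.univ : Finset (Fin 3)), ∀ j ∈ (Finset.univ : Finset (Fin 3)), i ≠ j →
      ∃ y ∈ A, (![l₁, l₂, l₃] : Fin 3 → X → K) i y ≠ (![l₁, l₂, l₃] : Fin 3 → X → K) j y := by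
    intro i _ j _ hij
    have h12' := not_same_iff.mp h12
    have h13' := not_same_iff.mp h13
    have h23' := not_same_iff.mp h23
    have h21' : ∃ y ∈ A, l₂ y ≠ l₁ y := by
      obtain ⟨y, hy, h⟩ := h12'; exact ⟨y, hy, h.symm⟩
    have h31' : ∃ y ∈ A, l₃ y ≠ l₁ y := by
      obtain ⟨y, hy, h⟩ := h13'; exact ⟨y, hy, h.symm⟩
    have h32' : ∃ y ∈ A, l₃ y ≠ l₂ y := by
      obtain ⟨y, hy, h⟩ := h23'; exact ⟨y, hy, h.symm⟩
    fin_cases i <;> fin_cases j <;> first | exact absurd rfl hij | simpa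
  have := eq_zero_of_sum_eq_zero (ρ := ρ) (K := A) Finset.univ ![l₁, l₂, l₃] hd ![v₁, v₂, v₃]
    (by
      intro i _
      fin_cases i <;> simpa)
    (by
      simp [Fin.sum_univ_three, hs])
  exact ⟨this 0 (Finset.mem_univ _), this 1 (Finset.mem_univ _), this 2 (Finset.mem_univ _)⟩

theorem sum4_zero {ρ : X →* End K V} {A : Subgroup X} {l₁ l₂ l₃ l₄ : X → K} {v₁ v₂ v₃ v₄ : V}
    (h₁ : IsWt ρ A l₁ v₁) (h₂ : IsWt ρ A l₂ v₂) (h₃ : IsWt ρ A l₃ v₃) (h₄ : IsWt ρ A l₄ v₄)
    (h12 : ¬ Same A l₁ l₂) (h13 : ¬ Same A l₁ l₃) (h14 : ¬ Same A l₁ l₄) (h23 : ¬ Same A l₂ l₃)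
    (h24 : ¬ Same A l₂ l₄) (h34 : ¬ Same A l₃ l₄) (hs : v₁ + v₂ + v₃ + v₄ = 0) :
    v₁ = 0 ∧ v₂ = 0 ∧ v₃ = 0 ∧ v₄ = 0 := by
  have hd : ∀ i ∈ (Finset.univ : Finset (Fin 4)), ∀ j ∈ (Finset.univ : Finset (Fin 4)), i ≠ j →
      ∃ y ∈ A, (![l₁, l₂, l₃, l₄] : Fin 4 → X → K) i y ≠ (![l₁, l₂, l₃, l₄] : Fin 4 → X → K) j y := by
    intro i _ j _ hij
    have sym : ∀ {l l' : X → K}, ¬ Same A l l' → ∃ y ∈ A, l' y ≠ l y := by
      intro l l' h
      obtain ⟨y, hy, h⟩ := not_same_iff.mp h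
      exact ⟨y, hy, h.symm⟩
    have h12' := not_same_iff.mp h12
    have h13' := not_same_iff.mp h13
    have h14' := not_same_iff.mp h14
    have h23' := not_same_iff.mp h23
    have h24' := not_same_iff.mp h24
    have h34' := not_same_iff.mp h34
    have h21' := sym h12
    have h31' := sym h13
    have h41' := sym h14
    have h32' := sym h23
    have h42' := sym h24
    have h43' := sym h34
    fin_cases i <;> fin_cases j <;> first | exact absurd rfl hij | simpa
  have := eq_zero_of_sum_eq_zero (ρ := ρ) (K := A) Finset.univ ![l₁, l₂, l₃, l₄] hd ![v₁, v₂, v₃, v₄]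
    (by
      intro i _
      fin_cases i <;> simpa)
    (by
      simp [Fin.sum_univ_four, hs])
  exact ⟨this 0 (Finset.mem_univ _), this 1 (Finset.mem_univ _), this 2 (Finset.mem_univ _),
    this 3 (Finset.mem_univ _)⟩

section struct

variable [FiniteDimensional K V]

/-- The structure of an element of the type moving a weight. -/
theorem struct_moved {ρ : X →* End K V} (h2 : (2 : K) ≠ 0) {a : X} {n : ℕ} (hn : 2 ≤ n)
    (h : IsType ρ a n) {A : Subgroup X} (haA : a ∈ Subgroup.normalizer (A : Set X)) {lam : X → K} {w : V}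
    (hw : IsWt ρ A lam w) (hw0 : w ≠ 0) (hmove : a ∉ wtStab A lam) :
    a ^ 2 ∈ wtStab A lam ∧ (∀ v, IsWt ρ A lam v → ρ (a ^ 2 ^ (n - 1)) v = -v) ∧
      (∀ v, IsWt ρ A (wtConj a lam) v → ρ (a ^ 2 ^ (n - 1)) v = -v) ∧
      (∀ (ψ : X → K) (x : V), IsWt ρ A ψ x → ¬ Same A ψ lam → ¬ Same A ψ (wtConj a lam) → ρ a x = x) := by
  classical
  have hapow : a ^ 2 ^ n = 1 := by
    rw [← h.ord]; exact pow_orderOf_eq_one a
  set y := a ^ 2 ^ (n - 1) with hy
  have hsq : a ^ 2 ∈ wtStab A lam := by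
    by_contra hcon
    have := three_le_rank ρ hapow haA hcon hw hw0
    have := h.rank
    omega
  have hyeq : y = (a ^ 2) ^ 2 ^ (n - 2) := by
    rw [hy, ← pow_mul, ← pow_succ']
    congr 2
    omega
  have hyS : y ∈ wtStab A lam := by
    rw [hyeq]
    exact pow_mem hsq _
  have hay : a * y = y * a := by
    rw [hy]
    exact ((Commute.refl a).pow_right _).eq
  have hsame1 : ¬ Same A (wtConj a lam) lam := fun hs => hmove ((stab_iff haA).mpr hs)
  have hsame2 : Same A (wtConj a (wtConj a lam)) lam := by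
    have h1 := (stab_iff (pow_mem haA 2)).mp hsq
    rw [pow_two, wtConj_mul] at h1
    exact h1
  -- `y = -1`
  have hy1 : ∀ v, IsWt ρ A lam v → ρ y v = -v := by
    intro v hv
    have hyv : IsWt ρ A lam (ρ y v) :=
      (hv.conj (conj_of_norm (pow_mem haA _))).congr fun z hz => hyS.2 z hz
    set z := v + ρ y v with hz
    have hzw : IsWt ρ A lam z := hv.add hyv
    have hz1 : ρ a z = z := h.fix v
    have h3 := hzw.conj (conj_of_norm haA)
    rw [hz1] at h3
    have hz0 : z = 0 := by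
      by_contra hz0
      exact hsame1 (same_of_wt h3 hzw hz0)
    exact eq_neg_of_add_eq_zero_right hz0
  have hy2 : ∀ v, IsWt ρ A (wtConj a lam) v → ρ y v = -v := by
    intro v hv
    have h3 : IsWt ρ A lam (ρ a⁻¹ v) := by
      have h4 := hv.conj (g := a⁻¹) (fun z hz => by
        have := conj_mem_of_norm le_rfl haA hz
        simpa using this)
      refine h4.congr fun z hz => ?_
      show (wtConj a⁻¹ (wtConj a lam)) z = lam z
      rw [← wtConj_mul, inv_mul_cancel, wtConj_one]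
    have h5 := hy1 _ h3
    have e : ρ y v = ρ a (ρ y (ρ a⁻¹ v)) := by
      have e0 : y = a * y * a⁻¹ := by rw [hay, mul_assoc, mul_inv_cancel, mul_one]
      conv_lhs => rw [e0]
      simp only [rho_mul]
    rw [e, h5, map_neg, rho_mul_inv]
  refine ⟨hsq, hy1, hy2, ?_⟩
  -- the three vectors
  set w₁ := ρ a w with hw₁
  set w₂ := ρ a w₁ with hw₂
  have hw₁wt : IsWt ρ A (wtConj a lam) w₁ := hw.conj (conj_of_norm haA)
  have hw₂wt : IsWt ρ A lam w₂ := by
    have := hw₁wt.conj (conj_of_norm haA)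
    exact this.congr fun z hz => hsame2 z hz
  have hw₁0 : w₁ ≠ 0 := fun h0 => hw0 ((rho_eq_zero_iff ρ a w).mp h0)
  have hw₂w : w₂ ≠ w := by
    intro heq
    have e1 : ρ (a ^ 2) w = w := by
      rw [pow_two, rho_mul]
      exact heq
    have e2 : ρ y w = w := by
      rw [hyeq]
      have : ∀ k : ℕ, ρ ((a ^ 2) ^ k) w = w := by
        intro k
        induction k with
        | zero => simp
        | succ k ih => rw [pow_succ, rho_mul, e1, ih]
      exact this _
    have e3 := hy1 w hw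
    rw [e2] at e3
    have e4 : (2 : K) • w = 0 := by
      rw [two_smul]
      nth_rewrite 1 [e3]
      simp
    exact hw0 ((smul_eq_zero.mp e4).resolve_left h2)
  -- the range of `a - 1`
  have hw₂₁ : ¬ Same A lam (wtConj a lam) := fun hs => hsame1 hs.symm
  have hind : LinearIndependent K ![w₁ - w, w₂ - w₁] := by
    rw [LinearIndependent.pair_iff]
    intro s t hst
    have e : (s - t) • w₁ = (s • w - t • w₂) := by
      have : (s - t) • w₁ - (s • w - t • w₂) = s • (w₁ - w) + t • (w₂ - w₁) := by module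
      rw [← sub_eq_zero, this, hst]
    have h1 : IsWt ρ A (wtConj a lam) ((s - t) • w₁) := hw₁wt.smul _
    have h2' : IsWt ρ A lam ((s - t) • w₁) := e ▸ (hw.smul s).sub (hw₂wt.smul t)
    have h3 : (s - t) • w₁ = 0 := eq_zero_of_two_wt h1 h2' (not_same_iff.mp hsame1)
    have hst' : s = t := by
      rcases smul_eq_zero.mp h3 with h4 | h4
      · exact sub_eq_zero.mp h4
      · exact absurd h4 hw₁0
    subst hst'
    rw [h3] at e
    have e' : s • (w₂ - w) = 0 := by
      have : s • (w₂ - w) = -(s • w - s • w₂) := by module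
      rw [this, ← e, neg_zero]
    have hne : w₂ - w ≠ 0 := sub_ne_zero.mpr hw₂w
    have hs0 : s = 0 := (smul_eq_zero.mp e').resolve_right hne
    exact ⟨hs0, hs0⟩
  have hspan : Submodule.span K {w₁ - w, w₂ - w₁} = LinearMap.range (ρ a - 1) := by
    apply Submodule.eq_of_le_of_finrank_le
    · rw [Submodule.span_le]
      rintro u (rfl | rfl)
      · exact ⟨w, by simp [hw₁]⟩
      · exact ⟨w₁, by simp [hw₂]⟩
    · have h1 := finrank_span_eq_card hind
      have h2' : Set.range ![w₁ - w, w₂ - w₁] = {w₁ - w, w₂ - w₁} := by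
        simp [Matrix.range_cons, Matrix.range_empty, Set.pair_comm]
      rw [h2'] at h1
      rw [h1]
      simpa using h.rank
  have hdec : ∀ x, ∃ p p' : V, IsWt ρ A lam p ∧ IsWt ρ A (wtConj a lam) p' ∧ ρ a x - x = p + p' := by
    intro x
    have hx : ρ a x - x ∈ Submodule.span K {w₁ - w, w₂ - w₁} := by
      rw [hspan]
      exact ⟨x, by simp⟩
    obtain ⟨α, β, hab⟩ := Submodule.mem_span_pair.mp hx
    refine ⟨β • w₂ - α • w, (α - β) • w₁, (hw₂wt.smul _).sub (hw.smul _), hw₁wt.smul _, ?_⟩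
    rw [← hab]
    module
  intro ψ x hx hψ1 hψ2
  obtain ⟨p, p', hp, hp', hdecx⟩ := hdec x
  have hax : IsWt ρ A (wtConj a ψ) (ρ a x) := hx.conj (conj_of_norm haA)
  have hs : ρ a x + (-x) + (-p) + (-p') = 0 := by
    have : ρ a x + (-x) + (-p) + (-p') = (ρ a x - x) - (p + p') := by abel
    rw [this, hdecx, sub_self]
  by_cases hsame : Same A (wtConj a ψ) ψ
  · -- `a` fixes the weight
    have h1 : IsWt ρ A ψ (ρ a x - x) := (hax.congr fun z hz => hsame z hz).sub hx
    have hs3 : (ρ a x - x) + (-p) + (-p') = 0 := by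
      rw [hdecx]; abel
    have hneg : ∀ {l : X → K} {v : V}, IsWt ρ A l v → IsWt ρ A l (-v) := by
      intro l v hv
      have := hv.smul (-1 : K)
      simpa using this
    have := sum3_zero h1 (hneg hp) (hneg hp') hψ1 hψ2 hw₂₁ hs3
    exact sub_eq_zero.mp this.1
  · -- `a` moves the weight
    have hneg : ∀ {l : X → K} {v : V}, IsWt ρ A l v → IsWt ρ A l (-v) := by
      intro l v hv
      have := hv.smul (-1 : K)
      simpa using this
    have h1 : ¬ Same A (wtConj a ψ) lam := by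
      intro hs'
      apply hψ2
      apply Same.of_conj haA
      exact hs'.trans hsame2.symm
    have h2' : ¬ Same A (wtConj a ψ) (wtConj a lam) := fun hs' => hψ1 (Same.of_conj haA hs')
    have := sum4_zero hax (hneg hx) (hneg hp) (hneg hp') hsame h1 h2' hψ1 hψ2 hw₂₁ hs
    have hx0 : x = 0 := neg_eq_zero.mp this.2.1
    have hax0 : ρ a x = 0 := this.1
    rw [hx0, map_zero]

end struct

theorem exists_selfcentralizing {S E : Subgroup X} (hS : IsPGroup 2 S) (hES : E ≤ S)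
    (hE : ∀ g ∈ S, ∀ e ∈ E, g * e * g⁻¹ ∈ E) :
    ∃ A : Subgroup X, A ≤ E ∧ (∀ g ∈ S, g ∈ Subgroup.normalizer (A : Set X)) ∧
      (∀ x ∈ A, ∀ y ∈ A, x * y = y * x) ∧ ∀ e ∈ E, (∀ x ∈ A, e * x = x * e) → e ∈ A := by
  haveI : Fact (Nat.Prime 2) := ⟨Nat.prime_two⟩
  have hN : (E.subgroupOf S).Normal := by
    refine ⟨fun e he g => ?_⟩
    rw [Subgroup.mem_subgroupOf] at he ⊢
    exact hE _ g.2 _ he
  obtain ⟨A₀, hA₀E, hA₀n, hA₀c, hA₀max⟩ :=
    Cfsg.Agent.Lib.PGroup.NormalRank.exists_max_normal_abelian hS (E.subgroupOf S)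
  refine ⟨A₀.map S.subtype, ?_, ?_, ?_, ?_⟩
  · rintro _ ⟨x, hx, rfl⟩
    exact Subgroup.mem_subgroupOf.mp (hA₀E hx)
  · intro g hg
    rw [Subgroup.mem_normalizer_iff]
    intro z
    constructor
    · rintro ⟨x, hx, rfl⟩
      exact ⟨⟨g, hg⟩ * x * ⟨g, hg⟩⁻¹, hA₀n.conj_mem x hx _, rfl⟩
    · rintro ⟨x, hx, hxz⟩
      have hz : z = g⁻¹ * (x : X) * g := by
        have : (x : X) = g * z * g⁻¹ := hxz
        rw [this]; group
      refine ⟨⟨g, hg⟩⁻¹ * x * ⟨g, hg⟩, ?_, hz.symm⟩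
      have := hA₀n.conj_mem x hx (⟨g, hg⟩⁻¹)
      simpa using this
  · rintro _ ⟨x, hx, rfl⟩ _ ⟨x', hx', rfl⟩
    have := hA₀c.is_comm.comm (⟨x, hx⟩ : A₀) ⟨x', hx'⟩
    have h3 := congrArg Subtype.val this
    have h4 := congrArg Subtype.val h3
    simpa using h4
  · intro e he hc
    have heS := hES he
    have h1 := hA₀max ⟨e, heS⟩ (Subgroup.mem_subgroupOf.mpr he) (by
      rw [Subgroup.mem_centralizer_iff]
      intro x hx
      apply Subtype.ext
      exact (hc _ ⟨x, hx, rfl⟩).symm)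
    exact ⟨_, h1, rfl⟩

section squares

variable [FiniteDimensional K V] [IsAlgClosed K]

theorem eq_of_forall_wt {ρ : X →* End K V} {A : Subgroup X} (hK : (Nat.card A : K) ≠ 0)
    (hcomm : ∀ x ∈ A, ∀ y ∈ A, x * y = y * x) (f g : End K V)
    (h : ∀ (lam : X → K) (w : V), IsWt ρ A lam w → f w = g w) : f = g := by
  by_contra hne
  have hnot : ¬ ∀ w ∈ (⊤ : Submodule K V), (f - g + 1) w = w := by
    intro h'
    apply hne
    ext v
    have := h' v trivial
    simp only [LinearMap.add_apply, LinearMap.sub_apply, Module.End.one_apply] at this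
    have h3 : f v - g v = 0 := by
      have : f v - g v + v = 0 + v := by rw [this, zero_add]
      exact add_right_cancel this
    exact sub_eq_zero.mp h3
  obtain ⟨w, -, lam, hlam, hw⟩ := exists_wt_of_ne (ρ := ρ) (K := A) hK (U := ⊤) (fun _ _ _ _ => trivial)
    (fun y hy z hz w _ => by rw [← rho_mul, ← rho_mul, hcomm y hy z hz]) (f - g + 1) hnot
  apply hw
  simp [h lam w hlam]

theorem moved_next {A : Subgroup X} {lam : X → K} {a : X} (ha : a ∈ Subgroup.normalizer (A : Set X))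
    (hm : a ∉ wtStab A lam) : a ∉ wtStab A (wtConj a lam) := by
  intro h
  apply hm
  rw [stab_iff ha] at h ⊢
  exact Same.of_conj ha h

theorem moved_congr {A : Subgroup X} {lam mu : X → K} {a : X} (ha : a ∈ Subgroup.normalizer (A : Set X))
    (hs : Same A lam mu) (hm : a ∉ wtStab A mu) : a ∉ wtStab A lam := by
  intro h
  apply hm
  rw [stab_iff ha] at h ⊢
  exact (Same.conj ha hs.symm).trans (h.trans hs)

theorem same_pow_two {ρ : X →* End K V} {A : Subgroup X} {lam : X → K} {a : X}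
    (ha : a ∈ Subgroup.normalizer (A : Set X)) (h : a ^ 2 ∈ wtStab A lam) :
    Same A (wtConj a (wtConj a lam)) lam := by
  have h1 := (stab_iff (pow_mem ha 2)).mp h
  rw [pow_two, wtConj_mul] at h1
  exact h1

/-- Both elements move a common weight: their last powers act in the same way. -/
theorem common_case {ρ : X →* End K V} (h2 : (2 : K) ≠ 0) {a b : X} {n : ℕ} (hn : 2 ≤ n)
    (ha : IsType ρ a n) (hb : IsType ρ b n) {A : Subgroup X} (hK : (Nat.card A : K) ≠ 0)
    (hcomm : ∀ x ∈ A, ∀ y ∈ A, x * y = y * x)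
    (haA : a ∈ Subgroup.normalizer (A : Set X)) (hbA : b ∈ Subgroup.normalizer (A : Set X))
    {k : ℕ} (hab : (a * b) ^ 2 ^ k = 1) {p : X → K} {w : V} (hw : IsWt ρ A p w) (hw0 : w ≠ 0)
    (hma : a ∉ wtStab A p) (hmb : b ∉ wtStab A p) :
    ρ (a ^ 2 ^ (n - 1)) = ρ (b ^ 2 ^ (n - 1)) := by
  obtain ⟨sa, a1, a2, a3⟩ := struct_moved h2 hn ha haA hw hw0 hma
  obtain ⟨sb, b1, b2, b3⟩ := struct_moved h2 hn hb hbA hw hw0 hmb
  have hap : ¬ Same A (wtConj a p) p := fun hs => hma ((stab_iff haA).mpr hs)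
  have hbp : ¬ Same A (wtConj b p) p := fun hs => hmb ((stab_iff hbA).mpr hs)
  have haa : Same A (wtConj a (wtConj a p)) p := same_pow_two (ρ := ρ) haA sa
  have hbb : Same A (wtConj b (wtConj b p)) p := same_pow_two (ρ := ρ) hbA sb
  have hxa : IsWt ρ A (wtConj a p) (ρ a w) := hw.conj (conj_of_norm haA)
  have hxb : IsWt ρ A (wtConj b p) (ρ b w) := hw.conj (conj_of_norm hbA)
  have hxa0 : ρ a w ≠ 0 := fun h0 => hw0 ((rho_eq_zero_iff ρ a w).mp h0)
  have hxb0 : ρ b w ≠ 0 := fun h0 => hw0 ((rho_eq_zero_iff ρ b w).mp h0)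
  have hrs : Same A (wtConj a p) (wtConj b p) := by
    by_contra hne
    -- `b` fixes the weight `a p`
    have hbr : Same A (wtConj b (wtConj a p)) (wtConj a p) := by
      have h1 := b3 _ _ hxa hap hne
      have h3 := hxa.conj (conj_of_norm hbA)
      rw [h1] at h3
      exact same_of_wt h3 hxa hxa0
    have has : Same A (wtConj a (wtConj b p)) (wtConj b p) := by
      have h1 := a3 _ _ hxb hbp (fun hs => hne hs.symm)
      have h3 := hxb.conj (conj_of_norm haA)
      rw [h1] at h3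
      exact same_of_wt h3 hxb hxb0
    have hgA : a * b ∈ Subgroup.normalizer (A : Set X) := mul_mem haA hbA
    have hg1 : Same A (wtConj (a * b) p) (wtConj b p) := by
      rw [wtConj_mul]
      exact has
    have hg2 : Same A (wtConj (a * b) (wtConj b p)) (wtConj a p) := by
      rw [wtConj_mul]
      exact Same.conj haA hbb
    have hg3 : Same A (wtConj (a * b) (wtConj a p)) p := by
      rw [wtConj_mul]
      exact (Same.conj haA hbr).trans haa
    have h3 : (a * b) ^ 3 ∈ wtStab A p := by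
      rw [stab_iff (pow_mem hgA 3)]
      have e : (a * b) ^ 3 = (a * b) * (a * b) * (a * b) := by
        rw [pow_succ, pow_two]
      rw [e, wtConj_mul, wtConj_mul]
      exact (Same.conj hgA (Same.conj hgA hg1)).trans ((Same.conj hgA hg2).trans hg3)
    have h4 : a * b ∈ wtStab A p :=
      Cfsg.Agent.Lib.Ward.mem_of_pow_mem hab h3 (Nat.Coprime.pow_right _ (by norm_num))
    have h5 := (stab_iff hgA).mp h4
    exact hbp (hg1.symm.trans h5)
  apply eq_of_forall_wt (ρ := ρ) hK hcomm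
  intro ψ x hx
  by_cases hp : Same A ψ p
  · have hx' : IsWt ρ A p x := hx.congr fun z hz => hp z hz
    rw [a1 x hx', b1 x hx']
  by_cases hr : Same A ψ (wtConj a p)
  · have hx' : IsWt ρ A (wtConj a p) x := hx.congr fun z hz => hr z hz
    have hx'' : IsWt ρ A (wtConj b p) x := hx'.congr fun z hz => hrs z hz
    rw [a2 x hx', b2 x hx'']
  have hs : ¬ Same A ψ (wtConj b p) := fun hs => hr (hs.trans hrs.symm)
  have h3 := a3 ψ x hx hp hr
  have h4 := b3 ψ x hx hp hs
  have fixpow : ∀ {c : X} (_ : ρ c x = x) (m : ℕ), ρ (c ^ m) x = x := by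
    intro c hc m
    induction m with
    | zero => simp
    | succ m ih => rw [pow_succ, rho_mul, hc, ih]
  rw [fixpow h3, fixpow h4]

/-- Both elements move disjoint pairs of weights: they commute. -/
theorem disjoint_case {ρ : X →* End K V} (h2 : (2 : K) ≠ 0) {a b : X} {n : ℕ} (hn : 2 ≤ n)
    (ha : IsType ρ a n) (hb : IsType ρ b n) {A : Subgroup X} (hK : (Nat.card A : K) ≠ 0)
    (hcomm : ∀ x ∈ A, ∀ y ∈ A, x * y = y * x)
    (haA : a ∈ Subgroup.normalizer (A : Set X)) (hbA : b ∈ Subgroup.normalizer (A : Set X))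
    {lam mu : X → K} {w w' : V} (hw : IsWt ρ A lam w) (hw0 : w ≠ 0) (hw' : IsWt ρ A mu w') (hw'0 : w' ≠ 0)
    (hma : a ∉ wtStab A lam) (hmb : b ∉ wtStab A mu)
    (h11 : ¬ Same A lam mu) (h12 : ¬ Same A lam (wtConj b mu))
    (h21 : ¬ Same A (wtConj a lam) mu) (h22 : ¬ Same A (wtConj a lam) (wtConj b mu)) :
    ρ a * ρ b = ρ b * ρ a := by
  obtain ⟨sa, a1, a2, a3⟩ := struct_moved h2 hn ha haA hw hw0 hma
  obtain ⟨sb, b1, b2, b3⟩ := struct_moved h2 hn hb hbA hw' hw'0 hmb
  have haa : Same A (wtConj a (wtConj a lam)) lam := same_pow_two (ρ := ρ) haA sa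
  have hbb : Same A (wtConj b (wtConj b mu)) mu := same_pow_two (ρ := ρ) hbA sb
  apply eq_of_forall_wt (ρ := ρ) hK hcomm
  intro ψ x hx
  simp only [Module.End.mul_apply]
  have hax : IsWt ρ A (wtConj a ψ) (ρ a x) := hx.conj (conj_of_norm haA)
  have hbx : IsWt ρ A (wtConj b ψ) (ρ b x) := hx.conj (conj_of_norm hbA)
  by_cases h1 : Same A ψ lam
  · have e1 : ρ b x = x := b3 ψ x hx (fun hs => h11 (h1.symm.trans hs)) (fun hs => h12 (h1.symm.trans hs))
    have hs' : Same A (wtConj a ψ) (wtConj a lam) := Same.conj haA h1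
    have e2 : ρ b (ρ a x) = ρ a x :=
      b3 _ _ hax (fun hs => h21 (hs'.symm.trans hs)) (fun hs => h22 (hs'.symm.trans hs))
    rw [e1, e2]
  by_cases h1' : Same A ψ (wtConj a lam)
  · have e1 : ρ b x = x :=
      b3 ψ x hx (fun hs => h21 (h1'.symm.trans hs)) (fun hs => h22 (h1'.symm.trans hs))
    have hs' : Same A (wtConj a ψ) lam := (Same.conj haA h1').trans haa
    have e2 : ρ b (ρ a x) = ρ a x :=
      b3 _ _ hax (fun hs => h11 (hs'.symm.trans hs)) (fun hs => h12 (hs'.symm.trans hs))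
    rw [e1, e2]
  have e1 : ρ a x = x := a3 ψ x hx h1 h1'
  by_cases h3 : Same A ψ mu
  · have hs' : Same A (wtConj b ψ) (wtConj b mu) := Same.conj hbA h3
    have e2 : ρ a (ρ b x) = ρ b x :=
      a3 _ _ hbx (fun hs => h12 (hs.symm.trans hs')) (fun hs => h22 (hs.symm.trans hs'))
    rw [e1, e2]
  by_cases h3' : Same A ψ (wtConj b mu)
  · have hs' : Same A (wtConj b ψ) mu := (Same.conj hbA h3').trans hbb
    have e2 : ρ a (ρ b x) = ρ b x :=
      a3 _ _ hbx (fun hs => h11 (hs.symm.trans hs')) (fun hs => h21 (hs.symm.trans hs'))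
    rw [e1, e2]
  have e2 : ρ b x = x := b3 ψ x hx h3 h3'
  rw [e1, e2, e1]

/-- **An element of this type acts trivially modulo squares on a normal `2`-subgroup.** -/
theorem squares_two {ρ : X →* End K V} (hρ : Function.Injective ρ) (h2 : (2 : K) ≠ 0) {a : X} {n : ℕ}
    (hn : 2 ≤ n) (ha : IsType ρ a n) {S E : Subgroup X} (hS : IsPGroup 2 S) (haS : a ∈ S) (hES : E ≤ S)
    (hE : ∀ g ∈ S, ∀ e ∈ E, g * e * g⁻¹ ∈ E) :
    ∀ e ∈ E, ∃ u ∈ E, a ^ 2 ^ (n - 1) * e * (a ^ 2 ^ (n - 1))⁻¹ = e * u ^ 2 := by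
  classical
  intro e he
  obtain ⟨A, hAE, hAS, hcomm, hmax⟩ := exists_selfcentralizing hS hES hE
  have hK : (Nat.card A : K) ≠ 0 := by
    have hp : IsPGroup 2 A := by
      intro x
      obtain ⟨k, hk⟩ := hS ⟨x, hES (hAE x.2)⟩
      refine ⟨k, Subtype.ext ?_⟩
      have := congrArg Subtype.val hk
      simpa using this
    obtain ⟨m, hm⟩ := IsPGroup.iff_card.mp hp
    rw [hm, Nat.cast_pow]
    exact pow_ne_zero _ (by exact_mod_cast h2)
  have haA : a ∈ Subgroup.normalizer (A : Set X) := hAS a haS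
  have heS : e ∈ S := hES he
  have hn1 : 2 ^ (n - 1) = 2 ^ (n - 2) * 2 := by
    rw [← pow_succ]
    congr 1
    omega
  by_cases hfix : ∀ (lam : X → K) (w : V), IsWt ρ A lam w → w ≠ 0 → a ∈ wtStab A lam
  · -- `a` centralises `A`
    have hcent : ∀ z ∈ A, a⁻¹ * z * a = z := by
      intro z hz
      apply hρ
      apply eq_of_forall_wt (ρ := ρ) hK hcomm
      intro lam w hw
      by_cases hw0 : w = 0
      · subst hw0
        simp
      · have h1 := (hfix lam w hw hw0).2 z hz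
        rw [hw _ (conj_of_norm haA z hz), hw z hz, h1]
    have hcent' : ∀ z ∈ A, a * z = z * a := by
      intro z hz
      have h1 := hcent z hz
      calc a * z = a * (a⁻¹ * z * a) := by rw [h1]
        _ = z * a := by group
    set h' := (a * e * a⁻¹) * e⁻¹ with hh'
    have hh'E : h' ∈ E := mul_mem (hE a haS e he) (inv_mem he)
    have hh'c : ∀ x ∈ A, h' * x = x * h' := by
      intro x hx
      have hx1 : e⁻¹ * x * e ∈ A := conj_inv_mem_of_norm le_rfl (hAS e heS) hx
      have h3 := hcent' _ hx1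
      have h4 := hcent' x hx
      -- `a e a⁻¹` acts as `e`
      have e1 : (a * e * a⁻¹) * (e⁻¹ * x * e) = x * (a * e * a⁻¹) := by
        have h5 : a⁻¹ * (e⁻¹ * x * e) = (e⁻¹ * x * e) * a⁻¹ := by
          calc a⁻¹ * (e⁻¹ * x * e) = a⁻¹ * ((e⁻¹ * x * e) * a) * a⁻¹ := by group
            _ = a⁻¹ * (a * (e⁻¹ * x * e)) * a⁻¹ := by rw [h3]
            _ = (e⁻¹ * x * e) * a⁻¹ := by group
        calc (a * e * a⁻¹) * (e⁻¹ * x * e) = a * e * (a⁻¹ * (e⁻¹ * x * e)) := by group
          _ = a * e * ((e⁻¹ * x * e) * a⁻¹) := by rw [h5]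
          _ = (a * x) * e * a⁻¹ := by group
          _ = (x * a) * e * a⁻¹ := by rw [h4]
          _ = x * (a * e * a⁻¹) := by group
      calc h' * x = (a * e * a⁻¹) * (e⁻¹ * x * e) * e⁻¹ := by rw [hh']; group
        _ = x * (a * e * a⁻¹) * e⁻¹ := by rw [e1]
        _ = x * h' := by rw [hh']; group
    have hh'A : h' ∈ A := hmax h' hh'E hh'c
    have hpow : ∀ k : ℕ, a ^ k * e * (a ^ k)⁻¹ = h' ^ k * e := by
      intro k
      induction k with
      | zero => simp
      | succ k ih =>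
        have hc : a * h' ^ k = h' ^ k * a := by
          have := hcent' _ (pow_mem hh'A k)
          exact this
        have hc1 : a * h' = h' * a := hcent' _ hh'A
        have e0 : a * e * a⁻¹ = h' * e := by rw [hh']; group
        calc a ^ (k + 1) * e * (a ^ (k + 1))⁻¹ = a * (a ^ k * e * (a ^ k)⁻¹) * a⁻¹ := by
              rw [pow_succ', mul_inv_rev]; group
          _ = a * (h' ^ k * e) * a⁻¹ := by rw [ih]
          _ = (a * h' ^ k) * e * a⁻¹ := by group
          _ = (h' ^ k * a) * e * a⁻¹ := by rw [hc]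
          _ = h' ^ k * (a * e * a⁻¹) := by group
          _ = h' ^ k * (h' * e) := by rw [e0]
          _ = h' ^ (k + 1) * e := by rw [pow_succ]; group
    refine ⟨e⁻¹ * h' ^ 2 ^ (n - 2) * e, ?_, ?_⟩
    · exact mul_mem (mul_mem (inv_mem he) (pow_mem hh'E _)) he
    · rw [hpow, hn1, pow_mul]
      have e1 : (e⁻¹ * h' ^ 2 ^ (n - 2) * e) ^ 2 = e⁻¹ * (h' ^ 2 ^ (n - 2)) ^ 2 * e := by
        have := conj_pow (a := e⁻¹) (b := h' ^ 2 ^ (n - 2)) (i := 2)
        simpa using this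
      rw [e1]
      group
  · -- `a` moves a weight
    push Not at hfix
    obtain ⟨lam, w, hw, hw0, hm⟩ := hfix
    set g := e⁻¹ with hg
    have hgS : g ∈ S := inv_mem heS
    set b := g * a * g⁻¹ with hb
    have hbS : b ∈ S := mul_mem (mul_mem hgS haS) (inv_mem hgS)
    have hbA : b ∈ Subgroup.normalizer (A : Set X) := hAS b hbS
    have hbT : IsType ρ b n := ha.conj g
    have hgA : g ∈ Subgroup.normalizer (A : Set X) := hAS g hgS
    have hyb : b ^ 2 ^ (n - 1) = g * a ^ 2 ^ (n - 1) * g⁻¹ := conj_pow' g a _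
    have hgoal : a ^ 2 ^ (n - 1) * e * (a ^ 2 ^ (n - 1))⁻¹ = e * (b ^ 2 ^ (n - 1) * (a ^ 2 ^ (n - 1))⁻¹) := by
      rw [hyb, hg]
      group
    have habk : ∃ k : ℕ, (a * b) ^ 2 ^ k = 1 := by
      obtain ⟨k, hk⟩ := hS ⟨a * b, mul_mem haS hbS⟩
      exact ⟨k, congrArg Subtype.val hk⟩
    obtain ⟨k, habk⟩ := habk
    -- the weight moved by `b`
    set mu := wtConj g lam with hmu
    have hw' : IsWt ρ A mu (ρ g w) := hw.conj (conj_of_norm hgA)
    have hw'0 : ρ g w ≠ 0 := fun h0 => hw0 ((rho_eq_zero_iff ρ g w).mp h0)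
    have hmb : b ∉ wtStab A mu := by
      intro hin
      apply hm
      rw [stab_iff haA]
      have h1 := (stab_iff hbA).mp hin
      have e1 : wtConj b mu = wtConj g (wtConj a lam) := by
        rw [hb, hmu, ← wtConj_mul, ← wtConj_mul]
        congr 1
        group
      rw [e1] at h1
      exact Same.of_conj hgA h1
    have hcommon : ∀ (p : X → K) (x : V), IsWt ρ A p x → x ≠ 0 → a ∉ wtStab A p → b ∉ wtStab A p →
        ∃ u ∈ E, a ^ 2 ^ (n - 1) * e * (a ^ 2 ^ (n - 1))⁻¹ = e * u ^ 2 := by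
      intro p x hx hx0 hpa hpb
      have h3 := common_case h2 hn ha hbT hK hcomm haA hbA habk hx hx0 hpa hpb
      refine ⟨1, one_mem _, ?_⟩
      rw [hgoal, ← hρ h3]
      simp
    have hx₁ : IsWt ρ A (wtConj a lam) (ρ a w) := hw.conj (conj_of_norm haA)
    have hx₁0 : ρ a w ≠ 0 := fun h0 => hw0 ((rho_eq_zero_iff ρ a w).mp h0)
    have hma' := moved_next haA hm
    have hmb' := moved_next hbA hmb
    by_cases h11 : Same A lam mu
    · exact hcommon lam w hw hw0 hm (moved_congr hbA h11 hmb)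
    by_cases h12 : Same A lam (wtConj b mu)
    · exact hcommon lam w hw hw0 hm (moved_congr hbA h12 hmb')
    by_cases h21 : Same A (wtConj a lam) mu
    · exact hcommon _ _ hx₁ hx₁0 hma' (moved_congr hbA h21 hmb)
    by_cases h22 : Same A (wtConj a lam) (wtConj b mu)
    · exact hcommon _ _ hx₁ hx₁0 hma' (moved_congr hbA h22 hmb')
    have hab := disjoint_case h2 hn ha hbT hK hcomm haA hbA hw hw0 hw' hw'0 hm hmb h11 h12 h21 h22
    have hab' : b * a = a * b := by
      apply hρ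
      rw [map_mul ρ b a, map_mul ρ a b, hab]
    have hca : Commute b a⁻¹ := (Commute.inv_right hab')
    refine ⟨(b * a⁻¹) ^ 2 ^ (n - 2), ?_, ?_⟩
    · apply pow_mem
      -- `b a⁻¹ = e⁻¹ (a e a⁻¹)`
      have e1 : b * a⁻¹ = e⁻¹ * (a * e * a⁻¹) := by
        rw [hb, hg]
        group
      rw [e1]
      exact mul_mem (inv_mem he) (hE a haS e he)
    · rw [hgoal, ← pow_mul, ← hn1, hca.mul_pow, inv_pow]

end squares

end Cfsg.Agent.Lib.Gross.TTwo
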