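import Mathlib
import Cfsg.Agent.Lib.Gross.TTwo
import Cfsg.Agent.Lib.Gross.CoreAct
import Cfsg.Agent.Lib.Coprime.InvSylow
import Cfsg.Agent.Lib.Basic.SylowUtil

/-!
# The last power of an element of small rank in the defining characteristic

Let `X` be a solvable linear group in characteristic `q`, and `a` of order `2 ^ n = q + 1`, `n ≥ 2`, with
`rank (ρ(a) - 1) ≤ 2`, and trivial on the fixed points of its last power `y`. Then `y` lies
in `O_2` modulo `O_q(X)`.
-/

set_option autoImplicit false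
set_option linter.unusedSectionVars false
set_option linter.style.haveILetI false

namespace Cfsg.Agent.Lib.Gross.LemmaZ

open Module Cfsg Cfsg.Agent.Lib.Basic.PCore Cfsg.Agent.Lib.Gross.TTwo Cfsg.Agent.Lib.Gross.CoreAct
open Cfsg.Agent.Lib.Coprime.InvSylow

variable {X : Type*} [Group X] [Finite X] {K : Type*} [Field K]
variable {V : Type*} [AddCommGroup V] [Module K V]

theorem cast_ne_zero_of_ne {q t : ℕ} (hq : q.Prime) (ht : t.Prime) (hne : t ≠ q) (hqK : (q : K) = 0) :
    (t : K) ≠ 0 := by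
  intro htK
  have hc : Nat.Coprime q t := (Nat.coprime_primes hq ht).mpr (Ne.symm hne)
  obtain ⟨u, v, huv⟩ := Nat.isCoprime_iff_coprime.mpr hc
  have := congrArg (Int.cast : ℤ → K) huv
  push_cast at this
  rw [hqK, htK] at this
  simp at this

/-- The image of a Sylow subgroup under a surjection onto a `p`-group is everything. -/
theorem exists_mem_sylow_of_surj {G H : Type*} [Group G] [Group H] [Finite G] [Finite H] {p : ℕ} [Fact p.Prime]
    (f : G →* H) (hf : Function.Surjective f) (hH : IsPGroup p H) (P : Sylow p G) (h : H) :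
    ∃ x ∈ (P : Subgroup G), f x = h := by
  let Q : Sylow p H := P.mapSurjective hf
  have hQ : (Q : Subgroup H) = (P : Subgroup G).map f := Sylow.coe_mapSurjective hf P
  have hQtop : (Q : Subgroup H) = ⊤ := Q.3 (hH.to_subgroup ⊤) le_top |>.symm
  have hh : h ∈ (P : Subgroup G).map f := by
    rw [← hQ, hQtop]
    trivial
  obtain ⟨x, hx, rfl⟩ := hh
  exact ⟨x, hx, rfl⟩

/-- **The last power lies in `O_{q,2}`.** -/
theorem lemma_z [IsAlgClosed K] [FiniteDimensional K V] (hsol : Group.IsSolvable X) {q : ℕ} [Fact q.Prime]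
    (hq2 : q ≠ 2) (hqK : (q : K) = 0) (ρ : X →* End K V) (hρ : Function.Injective ρ) {a : X} {n : ℕ}
    (hn : 2 ≤ n) (ha : IsType ρ a n) (hq : 2 ^ n = q + 1) :
    (QuotientGroup.mk (a ^ 2 ^ (n - 1)) : X ⧸ pCore q X) ∈ pCore 2 (X ⧸ pCore q X) := by
  classical
  haveI : Fact (Nat.Prime 2) := ⟨Nat.prime_two⟩
  have hq' : q.Prime := Fact.out
  have h2K : (2 : K) ≠ 0 := by
    have := cast_ne_zero_of_ne (K := K) hq' Nat.prime_two (Ne.symm hq2) hqK
    exact_mod_cast this
  set O := pCore q X with hO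
  let φ : X →* X ⧸ O := QuotientGroup.mk' O
  have hφ : Function.Surjective φ := QuotientGroup.mk'_surjective O
  set y := a ^ 2 ^ (n - 1) with hy
  have hO2 : IsPGroup q O := pCore_isPGroup q
  have hapow : a ^ 2 ^ n = 1 := by
    rw [← ha.ord]; exact pow_orderOf_eq_one a
  have hy2 : (φ y) ^ 2 ^ 1 = 1 := by
    rw [← map_pow, hy, ← pow_mul, ← pow_add]
    have e : n - 1 + 1 = n := by omega
    rw [e, hapow, map_one]
  have hsolY : Group.IsSolvable (X ⧸ O) := inferInstance
  refine mem_pCore_two_of_squares hsolY hy2 ?_ ?_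
  · -- the odd primes
    intro t ht ht2 h hh
    by_cases htq : t = q
    · subst htq
      have hb : pCore t (X ⧸ O) = ⊥ := pCore_quotient_eq_bot
      rw [hb, Subgroup.mem_bot] at hh
      rw [hh]
      simp
    haveI : Fact t.Prime := ⟨ht⟩
    have htK : (t : K) ≠ 0 := cast_ne_zero_of_ne hq' ht htq hqK
    set L : Subgroup X := (pCore t (X ⧸ O)).comap φ with hL
    haveI hLn : L.Normal := (pCore_normal t (X ⧸ O)).comap φ
    have hAL : Subgroup.zpowers a ≤ Subgroup.normalizer (L : Set X) := by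
      rw [Subgroup.normalizer_eq_top_iff.mpr hLn]
      exact le_top
    have hodd : Odd (Nat.card L) := by
      by_contra hcon
      have h2dvd : 2 ∣ Nat.card L := by
        rw [Nat.not_odd_iff_even] at hcon
        exact hcon.two_dvd
      obtain ⟨x, hx⟩ := exists_prime_orderOf_dvd_card' (G := L) 2 h2dvd
      -- the image of `x` is trivial
      have hx1 : φ (x : X) = 1 := by
        have hm : φ (x : X) ∈ pCore t (X ⧸ O) := x.2
        obtain ⟨k, hk⟩ := Cfsg.Agent.Lib.Basic.SylowUtil.orderOf_eq_pow_of_isPGroup (pCore_isPGroup t) hm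
        have hdvd : orderOf (φ (x : X)) ∣ 2 := by
          have h3 : orderOf (x : X) = 2 := by
            rw [Subgroup.orderOf_coe]; exact hx
          rw [← h3]
          exact orderOf_map_dvd φ _
        rw [hk] at hdvd
        have h4 : k = 0 := by
          by_contra hk0
          have h5 : t ∣ 2 := (dvd_pow_self t hk0).trans hdvd
          exact ht2 ((Nat.prime_dvd_prime_iff_eq ht Nat.prime_two).mp h5)
        rw [h4, pow_zero] at hk
        exact orderOf_eq_one_iff.mp hk
      have hxO : (x : X) ∈ O := (QuotientGroup.eq_one_iff _).mp hx1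
      obtain ⟨k, hk⟩ := Cfsg.Agent.Lib.Basic.SylowUtil.orderOf_eq_pow_of_isPGroup hO2 hxO
      have h3 : orderOf (x : X) = 2 := by
        rw [Subgroup.orderOf_coe]; exact hx
      rw [h3] at hk
      have h4 : q ∣ 2 := by
        rw [hk]
        apply dvd_pow_self
        rintro rfl
        simp at hk
      exact hq2 ((Nat.prime_dvd_prime_iff_eq hq' Nat.prime_two).mp h4)
    have hcop : (Nat.card (Subgroup.zpowers a)).Coprime (Nat.card L) := by
      rw [Nat.card_zpowers, ha.ord]
      exact Nat.Coprime.pow_left _ (Nat.coprime_two_left.mpr hodd)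
    obtain ⟨P, hP⟩ := exists_invariant_sylow hAL hcop (Or.inl inferInstance) t
    set E : Subgroup X := (P : Subgroup L).map L.subtype with hE
    have hEp : IsPGroup t E := P.2.map _
    have hEa : ∀ g ∈ E, a * g * a⁻¹ ∈ E := by
      intro g hg
      exact (Subgroup.mem_normalizer_iff.mp (hP (Subgroup.mem_zpowers a)) g).mp hg
    have hex : ¬ (t = 3 ∧ n = 2) := by
      rintro ⟨rfl, rfl⟩
      apply htq
      omega
    have hc := Cfsg.Agent.Lib.Gross.TOdd.centralizes_odd ρ hρ h2K a hn ha.ord ha.rank ht2 htK E hEp hEa hex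
    -- the restriction of `φ`
    let f : L →* pCore t (X ⧸ O) := (φ.comp L.subtype).codRestrict _ (fun x => x.2)
    have hf : Function.Surjective f := by
      rintro ⟨h', hh'⟩
      obtain ⟨x, hx⟩ := hφ h'
      have hxL : x ∈ L := by
        show φ x ∈ pCore t (X ⧸ O)
        rw [hx]
        exact hh'
      exact ⟨⟨x, hxL⟩, Subtype.ext hx⟩
    obtain ⟨x, hxP, hxe⟩ := exists_mem_sylow_of_surj f hf (pCore_isPGroup t) P ⟨h, hh⟩
    have hxe' : φ (x : X) = h := congrArg Subtype.val hxe
    have hxE : (x : X) ∈ E := ⟨x, hxP, rfl⟩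
    have h5 := hc _ hxE
    rw [← hy] at h5
    rw [← hxe']
    change φ y * φ (x : X) * (φ y)⁻¹ = φ (x : X)
    rw [← map_inv, ← map_mul, ← map_mul, h5]
  · -- the prime two
    intro p hp
    obtain ⟨S, hS⟩ := Cfsg.Agent.Lib.Basic.SylowUtil.exists_sylow_of_orderOf (p := 2) ha.ord
    set L : Subgroup X := (pCore 2 (X ⧸ O)).comap φ with hL
    haveI hLn : L.Normal := (pCore_normal 2 (X ⧸ O)).comap φ
    set E : Subgroup X := (S : Subgroup X) ⊓ L with hE
    have hES : E ≤ S := inf_le_left
    have hEn : ∀ g ∈ (S : Subgroup X), ∀ e ∈ E, g * e * g⁻¹ ∈ E := by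
      intro g hg e he
      have he' := Subgroup.mem_inf.mp he
      exact Subgroup.mem_inf.mpr ⟨mul_mem (mul_mem hg he'.1) (inv_mem hg), hLn.conj_mem e he'.2 g⟩
    have hsq := squares_two hρ h2K hn ha S.2 hS hES hEn
    -- lift `p` to `S`
    let T : Sylow 2 (X ⧸ O) := S.mapSurjective hφ
    have hT : (T : Subgroup (X ⧸ O)) = (S : Subgroup X).map φ := Sylow.coe_mapSurjective hφ S
    have hp' : p ∈ (S : Subgroup X).map φ := by
      rw [← hT]
      exact pCore_le_sylow T hp
    obtain ⟨s, hsS, rfl⟩ := hp'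
    have hsE : s ∈ E := Subgroup.mem_inf.mpr ⟨hsS, hp⟩
    obtain ⟨u, hu, e⟩ := hsq s hsE
    refine ⟨φ u, (Subgroup.mem_inf.mp hu).2, ?_⟩
    change φ y * φ s * (φ y)⁻¹ = φ s * φ u ^ 2
    have e' : y * s * y⁻¹ = s * u ^ 2 := e
    rw [← map_inv, ← map_mul, ← map_mul, e']
    simp only [map_mul, map_pow]

end Cfsg.Agent.Lib.Gross.LemmaZ
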