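import Mathlib
import Cfsg.Agent.Lib.Gross.LemmaZ
import Cfsg.Agent.Lib.PGroup.FrattiniBasis
import Cfsg.Agent.Lib.Basic.SylowUtil

/-!
# From a section `Q / R` to a linear group in the defining characteristic

The group `Γ` acts on the abelian `q`-group `Q / R`; we form the vector space `Z = (Q / R) / q (Q / R)` over
`ZMod q`, and pass to the algebraic closure of `ZMod q` to apply `lemma_z`.
-/

set_option autoImplicit false
set_option linter.unusedSectionVars false
set_option linter.style.haveILetI false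

namespace Cfsg.Agent.Lib.Gross.Section

open Module Cfsg Cfsg.Agent.Lib.Basic.PCore Cfsg.Agent.Lib.Gross.TTwo Cfsg.Agent.Lib.Gross.LemmaZ
open Cfsg.Agent.Lib.Gross.Type

universe u

/-- **Burnside's lemma** for a commutative `q`-group: an endomorphism of order prime to `q`
acting trivially modulo `q`-th powers is trivial. -/
theorem burnside_comm' {W : Type*} [CommGroup W] [Finite W] {q : ℕ} [Fact q.Prime]
    (hW : IsPGroup q W) (c : W →* W) {k : ℕ} (hk : ∀ x, c^[k] x = x) (hcop : k.Coprime q)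
    (h : ∀ x, ∃ u, c x = x * u ^ q) (x : W) : c x = x := by
  classical
  obtain ⟨mW, hmW⟩ := IsPGroup.iff_card.mp hW
  -- iterates
  have hiter : ∀ (i : ℕ) (x : W), ∃ v, c^[i] x = x * v ^ q := by
    intro i x
    induction i with
    | zero => exact ⟨1, by simp⟩
    | succ i ih =>
      obtain ⟨v, hv⟩ := ih
      obtain ⟨u, hu⟩ := h x
      refine ⟨u * c v, ?_⟩
      rw [Function.iterate_succ_apply', hv, map_mul, map_pow, hu, mul_pow, mul_assoc]
  -- the norm
  have hnorm : ∀ (j : ℕ) (x : W), ∃ v, ∏ i ∈ Finset.range j, c^[i] x = x ^ j * v ^ q := by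
    intro j x
    induction j with
    | zero => exact ⟨1, by simp⟩
    | succ j ih =>
      obtain ⟨v, hv⟩ := ih
      obtain ⟨u, hu⟩ := hiter j x
      refine ⟨v * u, ?_⟩
      rw [Finset.prod_range_succ, hv, hu, pow_succ, mul_pow]
      simp only [mul_assoc, mul_comm, mul_left_comm]
  have hfix : ∀ x : W, c (∏ i ∈ Finset.range k, c^[i] x) = ∏ i ∈ Finset.range k, c^[i] x := by
    intro x
    rw [map_prod]
    have e1 := Finset.prod_range_succ (fun i => c^[i] x) k
    have e2 := Finset.prod_range_succ' (fun i => c^[i] x) k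
    rw [e1] at e2
    simp only [Function.iterate_zero, id_eq, hk x] at e2
    have e3 : ∏ i ∈ Finset.range k, c (c^[i] x) = ∏ i ∈ Finset.range k, c^[i + 1] x := by
      refine Finset.prod_congr rfl fun i _ => ?_
      rw [Function.iterate_succ_apply']
    rw [e3]
    exact (mul_right_cancel e2).symm
  -- decomposition modulo `q`-th powers
  have hcopc : k.Coprime (Nat.card W) := by
    rw [hmW]
    exact Nat.Coprime.pow_right _ hcop
  have hdec : ∀ x : W, ∃ x₀ u : W, c x₀ = x₀ ∧ x = x₀ * u ^ q := by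
    intro x
    obtain ⟨v, hv⟩ := hnorm k x
    set s := ∏ i ∈ Finset.range k, c^[i] x with hs
    have h1 : ((k.gcd (Nat.card W) : ℕ) : ℤ) = k * k.gcdA (Nat.card W) + Nat.card W * k.gcdB (Nat.card W) :=
      Nat.gcd_eq_gcd_ab k (Nat.card W)
    rw [hcopc.gcd_eq_one, Nat.cast_one] at h1
    have h2 : x = (x ^ k) ^ (k.gcdA (Nat.card W)) := by
      have e1 : x = x ^ ((1 : ℤ)) := by simp
      rw [h1, zpow_add, zpow_mul, zpow_mul] at e1
      have e2 : x ^ ((Nat.card W : ℕ) : ℤ) = 1 := by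
        rw [zpow_natCast, pow_card_eq_one']
      rw [e2, one_zpow, mul_one, zpow_natCast] at e1
      exact e1
    have h3 : x ^ k = s * (v⁻¹) ^ q := by
      rw [hv, inv_pow, mul_inv_cancel_right]
    refine ⟨s ^ (k.gcdA (Nat.card W)), ((v⁻¹) ^ (k.gcdA (Nat.card W))), ?_, ?_⟩
    · rw [map_zpow, hfix x]
    · conv_lhs => rw [h2, h3]
      rw [mul_zpow, ← zpow_natCast (v⁻¹) q, ← zpow_natCast ((v⁻¹) ^ (k.gcdA (Nat.card W))) q, ← zpow_mul,
        ← zpow_mul, mul_comm (q : ℤ)]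
  have hdecm : ∀ (m : ℕ) (x : W), ∃ x₀ u : W, c x₀ = x₀ ∧ x = x₀ * u ^ q ^ m := by
    intro m
    induction m with
    | zero =>
      intro x
      exact ⟨1, x, map_one c, by simp⟩
    | succ m ih =>
      intro x
      obtain ⟨x₀, u, hx₀, hx⟩ := ih x
      obtain ⟨u₀, w, hu₀, hu⟩ := hdec u
      refine ⟨x₀ * u₀ ^ q ^ m, w, ?_, ?_⟩
      · rw [map_mul, map_pow, hx₀, hu₀]
      · rw [hx, hu, mul_pow, ← pow_mul, ← pow_succ', mul_assoc]
  obtain ⟨x₀, u, hx₀, hx⟩ := hdecm mW x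
  have h1 : u ^ q ^ mW = 1 := by
    rw [← hmW]
    exact pow_card_eq_one'
  rw [h1, mul_one] at hx
  rw [hx, hx₀]

/-- **Burnside's lemma** in the form we use. -/
theorem burnside_comm {W : Type*} [Group W] [Finite W] {q : ℕ} [Fact q.Prime] (hcommW : ∀ a b : W, a * b = b * a)
    (hW : IsPGroup q W) (c : W →* W) {k : ℕ} (hk : ∀ x, c^[k] x = x) (hcop : k.Coprime q)
    (h : ∀ x, ∃ u, c x = x * u ^ q) (x : W) : c x = x := by
  letI : CommGroup W := { (inferInstance : Group W) with mul_comm := hcommW }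
  exact burnside_comm' hW c hk hcop h x

/-- A quotient which is commutative of exponent `q` is a vector space. -/
theorem exists_module {P : Type u} [Group P] {q : ℕ} [Fact q.Prime] (M : Subgroup P) [M.Normal]
    (hcomm : ∀ x y : P, x * y * x⁻¹ * y⁻¹ ∈ M) (hpow : ∀ x : P, x ^ q ∈ M) :
    ∃ (Z : Type u) (_ : AddCommGroup Z) (_ : Module (ZMod q) Z) (ψ : P →* Multiplicative Z),
      Function.Surjective ψ ∧ ψ.ker = M := by
  have hcm : ∀ a b : P ⧸ M, a * b = b * a := by
    intro a b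
    obtain ⟨x, rfl⟩ := QuotientGroup.mk_surjective a
    obtain ⟨y, rfl⟩ := QuotientGroup.mk_surjective b
    rw [← QuotientGroup.mk_mul, ← QuotientGroup.mk_mul, QuotientGroup.eq]
    have h := hcomm y⁻¹ x⁻¹
    simpa [mul_assoc] using h
  letI : CommGroup (P ⧸ M) := { (inferInstance : Group (P ⧸ M)) with mul_comm := hcm }
  have hp : ∀ x : Additive (P ⧸ M), q • x = 0 := by
    intro x
    obtain ⟨y, hy⟩ := QuotientGroup.mk_surjective (Additive.toMul x)
    have h1 : ((y ^ q : P) : P ⧸ M) = 1 := (QuotientGroup.eq_one_iff _).2 (hpow y)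
    have h2 : x = Additive.ofMul (y : P ⧸ M) := by rw [hy]; rfl
    rw [h2, ← ofMul_pow]
    rw [QuotientGroup.mk_pow] at h1
    rw [h1]
    rfl
  letI : Module (ZMod q) (Additive (P ⧸ M)) := AddCommGroup.zmodModule hp
  refine ⟨Additive (P ⧸ M), inferInstance, inferInstance,
    MonoidHom.mk' (fun g => Multiplicative.ofAdd (Additive.ofMul (g : P ⧸ M)))
      (fun _ _ => rfl), ?_, ?_⟩
  · intro v
    obtain ⟨y, hy⟩ := QuotientGroup.mk_surjective (Additive.toMul (Multiplicative.toAdd v))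
    refine ⟨y, ?_⟩
    change Multiplicative.ofAdd (Additive.ofMul (y : P ⧸ M)) = v
    rw [hy]
    rfl
  · ext x
    rw [MonoidHom.mem_ker]
    change Multiplicative.ofAdd (Additive.ofMul (x : P ⧸ M)) = 1 ↔ _
    exact (QuotientGroup.eq_one_iff x)

/-- The action of a group on a vector space section. -/
theorem exists_rep {P Γ : Type*} [Group P] [Group Γ] {q : ℕ} [Fact q.Prime]
    {Z : Type*} [AddCommGroup Z] [Module (ZMod q) Z] (ψ : P →* Multiplicative Z)
    (hψ : Function.Surjective ψ) (c : Γ → (P →* P)) (hc1 : ∀ a, c 1 a = a)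
    (hcm : ∀ s t a, c (s * t) a = c s (c t a)) (hc : ∀ s a, a ∈ ψ.ker → c s a ∈ ψ.ker) :
    ∃ π : Γ →* End (ZMod q) Z, ∀ s a, Multiplicative.toAdd (ψ (c s a)) = π s (Multiplicative.toAdd (ψ a)) := by
  classical
  let σ : Z → P := fun v => Function.surjInv hψ (Multiplicative.ofAdd v)
  have hσ : ∀ v, ψ (σ v) = Multiplicative.ofAdd v := fun v => Function.surjInv_eq hψ _
  have hsurj : ∀ v : Z, ∃ u : P, Multiplicative.toAdd (ψ u) = v := fun v => ⟨σ v, by rw [hσ]; rfl⟩
  let T : Γ → Z → Z := fun s v => Multiplicative.toAdd (ψ (c s (σ v)))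
  have hT : ∀ (s : Γ) (u : P), T s (Multiplicative.toAdd (ψ u)) = Multiplicative.toAdd (ψ (c s u)) := by
    intro s u
    have h1 : (σ (Multiplicative.toAdd (ψ u)))⁻¹ * u ∈ ψ.ker := by
      rw [MonoidHom.mem_ker, map_mul, map_inv, hσ]
      simp
    have h2 := hc s _ h1
    rw [MonoidHom.mem_ker, map_mul, map_mul, map_inv, map_inv] at h2
    have h3 : ψ (c s (σ (Multiplicative.toAdd (ψ u)))) = ψ (c s u) := by
      rw [inv_mul_eq_one] at h2
      exact h2
    simp only [T, h3]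
  have hTadd : ∀ (s : Γ) (v w : Z), T s (v + w) = T s v + T s w := by
    intro s v w
    obtain ⟨a, rfl⟩ := hsurj v
    obtain ⟨b, rfl⟩ := hsurj w
    have h1 : Multiplicative.toAdd (ψ a) + Multiplicative.toAdd (ψ b)
        = Multiplicative.toAdd (ψ (a * b)) := by
      rw [map_mul]; rfl
    rw [h1, hT, hT, hT, map_mul, map_mul]
    rfl
  let π : Γ →* End (ZMod q) Z :=
    { toFun := fun s => AddMonoidHom.toZModLinearMap q (AddMonoidHom.mk' (T s) (hTadd s))
      map_one' := by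
        ext v
        obtain ⟨a, rfl⟩ := hsurj v
        show T 1 _ = _
        rw [hT, hc1]
        rfl
      map_mul' := by
        intro s t
        ext v
        obtain ⟨a, rfl⟩ := hsurj v
        show T (s * t) _ = T s (T t _)
        have e1 := hT t a
        rw [e1, hT s, hT (s * t), hcm] }
  exact ⟨π, fun s a => (hT s a).symm⟩

/-- The elementary abelian section of `Q / R`, with the action of `Γ`. -/
theorem exists_section {X : Type u} [Group X] [Finite X] {q : ℕ} [Fact q.Prime] (Q R Γ : Subgroup X)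
    (hQ : IsPGroup q Q) (hcomm : ∀ u ∈ Q, ∀ g ∈ Q, u * g * u⁻¹ * g⁻¹ ∈ R) (hRQ : R ≤ Q)
    (hΓQ : ∀ s ∈ Γ, ∀ g ∈ Q, s * g * s⁻¹ ∈ Q) (hΓR : ∀ s ∈ Γ, ∀ g ∈ R, s * g * s⁻¹ ∈ R) :
    ∃ (Z : Type u) (_ : AddCommGroup Z) (_ : Module (ZMod q) Z) (_ : Finite Z) (ψ : Q →* Multiplicative Z)
      (π : Γ →* End (ZMod q) Z),
      Function.Surjective ψ ∧ (∀ g : Q, (g : X) ∈ R → ψ g = 1) ∧
      (∀ (s : Γ) (g : Q) (h : (s : X) * g * (s : X)⁻¹ ∈ Q),
        Multiplicative.toAdd (ψ ⟨_, h⟩) = π s (Multiplicative.toAdd (ψ g))) ∧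
      (∀ s : Γ, (orderOf s).Coprime q → π s = 1 → ∀ g ∈ Q, (s : X) * g * (s : X)⁻¹ * g⁻¹ ∈ R) := by
  classical
  -- `R` is normal in `Q`
  set R' : Subgroup Q := R.subgroupOf Q with hR'
  have hmemR' : ∀ g : Q, g ∈ R' ↔ (g : X) ∈ R := fun g => Subgroup.mem_subgroupOf
  haveI hR'n : R'.Normal := by
    refine ⟨fun r hr g => ?_⟩
    rw [hmemR'] at hr ⊢
    have h1 := hcomm g g.2 r (hRQ hr)
    have e : ((g * r * g⁻¹ : Q) : X) = ((g : X) * r * (g : X)⁻¹ * (r : X)⁻¹) * r := by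
      simp
    rw [e]
    exact mul_mem h1 hr
  have hcmW : ∀ a b : Q ⧸ R', a * b = b * a := by
    intro a b
    obtain ⟨x, rfl⟩ := QuotientGroup.mk_surjective a
    obtain ⟨y, rfl⟩ := QuotientGroup.mk_surjective b
    rw [← QuotientGroup.mk_mul, ← QuotientGroup.mk_mul, QuotientGroup.eq, hmemR']
    have h := hcomm (y : X)⁻¹ (inv_mem y.2) (x : X)⁻¹ (inv_mem x.2)
    simpa [mul_assoc] using h
  letI instW : CommGroup (Q ⧸ R') := { (inferInstance : Group (Q ⧸ R')) with mul_comm := hcmW }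
  let pw : (Q ⧸ R') →* (Q ⧸ R') := powMonoidHom q
  let M : Subgroup Q := pw.range.comap (QuotientGroup.mk' R')
  have hmemM : ∀ g : Q, g ∈ M ↔ ∃ u : Q ⧸ R', u ^ q = (g : Q ⧸ R') := fun g => Iff.rfl
  haveI hMn : M.Normal := Subgroup.Normal.comap inferInstance _
  have hcommM : ∀ x y : Q, x * y * x⁻¹ * y⁻¹ ∈ M := by
    intro x y
    rw [hmemM]
    refine ⟨1, ?_⟩
    rw [one_pow]
    symm
    rw [QuotientGroup.eq_one_iff, hmemR']
    exact hcomm x x.2 y y.2
  have hpowM : ∀ x : Q, x ^ q ∈ M := by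
    intro x
    rw [hmemM]
    exact ⟨(x : Q ⧸ R'), by rw [QuotientGroup.mk_pow]⟩
  obtain ⟨Z, iZ, mZ, ψ, hψ, hker⟩ := exists_module M hcommM hpowM
  have hfinZ : Finite Z := Cfsg.Agent.Lib.PGroup.FrattiniBasis.finite_of_surj hψ
  -- the conjugation action on `Q`
  let c : Γ → (Q →* Q) := fun s =>
    { toFun := fun g => ⟨(s : X) * g * (s : X)⁻¹, hΓQ s s.2 g g.2⟩
      map_one' := by
        apply Subtype.ext
        simp
      map_mul' := by
        intro g g'
        apply Subtype.ext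
        simp }
  have hcval : ∀ (s : Γ) (g : Q), ((c s g : Q) : X) = (s : X) * g * (s : X)⁻¹ := fun _ _ => rfl
  have hc1 : ∀ a, c 1 a = a := by
    intro a
    apply Subtype.ext
    simp [hcval]
  have hcm : ∀ s t a, c (s * t) a = c s (c t a) := by
    intro s t a
    apply Subtype.ext
    simp only [hcval, Subgroup.coe_mul]
    group
  -- the action on `Q / R`
  have hcR : ∀ (s : Γ), R' ≤ R'.comap (c s) := by
    intro s r hr
    rw [Subgroup.mem_comap, hmemR', hcval]
    exact hΓR s s.2 _ ((hmemR' r).mp hr)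
  let cW : Γ → ((Q ⧸ R') →* (Q ⧸ R')) := fun s => QuotientGroup.map R' R' (c s) (hcR s)
  have hcW : ∀ (s : Γ) (g : Q), cW s (g : Q ⧸ R') = ((c s g : Q) : Q ⧸ R') := fun _ _ => rfl
  have hcker : ∀ s a, a ∈ ψ.ker → c s a ∈ ψ.ker := by
    intro s a ha
    rw [hker] at ha ⊢
    rw [hmemM] at ha ⊢
    obtain ⟨u, hu⟩ := ha
    refine ⟨cW s u, ?_⟩
    rw [← map_pow, hu, hcW]
  obtain ⟨π, hπ⟩ := exists_rep (q := q) ψ hψ c hc1 hcm hcker
  refine ⟨Z, iZ, mZ, hfinZ, ψ, π, hψ, ?_, ?_, ?_⟩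
  · intro g hg
    have : g ∈ ψ.ker := by
      rw [hker, hmemM]
      refine ⟨1, ?_⟩
      rw [one_pow]
      symm
      rw [QuotientGroup.eq_one_iff, hmemR']
      exact hg
    exact this
  · intro s g h
    exact hπ s g
  · intro s hcop hs g hg
    -- Burnside on `Q / R`
    have hWp : IsPGroup q (Q ⧸ R') := IsPGroup.to_quotient hQ R'
    have hiter : ∀ (i : ℕ) (x : Q), ((cW s)^[i]) (x : Q ⧸ R') = ((c (s ^ i) x : Q) : Q ⧸ R') := by
      intro i x
      induction i with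
      | zero => simp [hc1]
      | succ i ih =>
        rw [Function.iterate_succ_apply', ih, hcW, pow_succ', hcm]
    have hk : ∀ x : Q ⧸ R', ((cW s)^[orderOf s]) x = x := by
      intro x
      obtain ⟨x, rfl⟩ := QuotientGroup.mk_surjective x
      rw [hiter, pow_orderOf_eq_one, hc1]
    have hsq : ∀ x : Q ⧸ R', ∃ u, cW s x = x * u ^ q := by
      intro x
      obtain ⟨x, rfl⟩ := QuotientGroup.mk_surjective x
      have h1 := hπ s x
      rw [hs, Module.End.one_apply] at h1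
      have h2 : ψ (c s x) = ψ x := h1
      have h3 : c s x * x⁻¹ ∈ ψ.ker := by
        rw [MonoidHom.mem_ker, map_mul, map_inv, h2, mul_inv_cancel]
      rw [hker, hmemM] at h3
      obtain ⟨u, hu⟩ := h3
      refine ⟨u, ?_⟩
      rw [hu, hcW, QuotientGroup.mk_mul, QuotientGroup.mk_inv]
      rw [mul_comm ((c s x : Q) : Q ⧸ R'), mul_inv_cancel_left]
    have hfin := burnside_comm hcmW hWp (cW s) hk hcop hsq ((⟨g, hg⟩ : Q) : Q ⧸ R')
    rw [hcW] at hfin
    have h5 : ((c s ⟨g, hg⟩ * (⟨g, hg⟩ : Q)⁻¹ : Q) : Q ⧸ R') = 1 := by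
      rw [QuotientGroup.mk_mul, QuotientGroup.mk_inv, hfin, mul_inv_cancel]
    rw [QuotientGroup.eq_one_iff, hmemR'] at h5
    exact h5

theorem finrank_range_baseChange_le {F K Z : Type*} [Field F] [Field K] [Algebra F K] [AddCommGroup Z] [Module F Z]
    [FiniteDimensional F Z] (f : End F Z) :
    finrank K (LinearMap.range (Module.End.baseChangeHom F K Z f)) ≤ finrank F (LinearMap.range f) := by
  let ι := (LinearMap.range f).subtype
  have e : f = ι ∘ₗ f.rangeRestrict := by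
    ext v
    rfl
  have h1 : LinearMap.range (Module.End.baseChangeHom F K Z f) ≤ LinearMap.range (ι.baseChange K) := by
    have e2 : Module.End.baseChangeHom F K Z f = f.baseChange K := rfl
    rw [e2]
    conv_lhs => rw [e, LinearMap.baseChange_comp]
    exact LinearMap.range_comp_le_range _ _
  calc finrank K (LinearMap.range (Module.End.baseChangeHom F K Z f))
      ≤ finrank K (LinearMap.range (ι.baseChange K)) := Submodule.finrank_mono h1
    _ ≤ finrank K (TensorProduct F K (LinearMap.range f)) := LinearMap.finrank_range_le _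
    _ = finrank F (LinearMap.range f) := Module.finrank_baseChange

section core

variable {Γ : Type*} [Group Γ] [Finite Γ] {q : ℕ} [Fact q.Prime]
variable {Z : Type*} [AddCommGroup Z] [Module (ZMod q) Z]

/-- The preimage of `O_q` of the linear group. -/
def Bo (π : Γ →* End (ZMod q) Z) : Subgroup Γ :=
  (pCore q (Γ ⧸ π.ker)).comap (QuotientGroup.mk' π.ker)

/-- The preimage of `O_{q,2}` of the linear group. -/
def Bq (π : Γ →* End (ZMod q) Z) : Subgroup Γ :=
  ((pCore 2 ((Γ ⧸ π.ker) ⧸ pCore q (Γ ⧸ π.ker))).comap (QuotientGroup.mk' (pCore q (Γ ⧸ π.ker)))).comap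
    (QuotientGroup.mk' π.ker)

theorem ker_le_Bq (π : Γ →* End (ZMod q) Z) {g : Γ} (hg : π g = 1) : g ∈ Bq π := by
  have h1 : QuotientGroup.mk' π.ker g = 1 := (QuotientGroup.eq_one_iff g).mpr hg
  show _ ∈ _
  simp only [Bq, Subgroup.mem_comap, h1, map_one]
  exact one_mem _

/-- An element of odd order of `O_{q,2}` is in `O_q`. -/
theorem mem_Bo_of_odd (π : Γ →* End (ZMod q) Z) {g : Γ} (hg : g ∈ Bq π) (hodd : Odd (orderOf g)) : g ∈ Bo π := by
  haveI : Fact (Nat.Prime 2) := ⟨Nat.prime_two⟩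
  set f : Γ →* ((Γ ⧸ π.ker) ⧸ pCore q (Γ ⧸ π.ker)) :=
    (QuotientGroup.mk' (pCore q (Γ ⧸ π.ker))).comp (QuotientGroup.mk' π.ker) with hf
  have h1 : f g ∈ pCore 2 ((Γ ⧸ π.ker) ⧸ pCore q (Γ ⧸ π.ker)) := hg
  obtain ⟨k, hk⟩ := Cfsg.Agent.Lib.Basic.SylowUtil.orderOf_eq_pow_of_isPGroup (pCore_isPGroup 2) h1
  have hdvd : orderOf (f g) ∣ orderOf g := orderOf_map_dvd f g
  have h2 : f g = 1 := by
    rw [hk] at hdvd
    have h3 : k = 0 := by
      by_contra hk0
      have h4 : 2 ∣ orderOf g := (dvd_pow_self 2 hk0).trans hdvd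
      exact (Nat.not_even_iff_odd.mpr hodd) (even_iff_two_dvd.mpr h4)
    rw [h3, pow_zero] at hk
    exact orderOf_eq_one_iff.mp hk
  have h5 : QuotientGroup.mk' π.ker g ∈ pCore q (Γ ⧸ π.ker) := (QuotientGroup.eq_one_iff _).mp h2
  exact h5

/-- A `q'`-element of `O_q` is trivial. -/
theorem eq_one_of_mem_Bo (π : Γ →* End (ZMod q) Z) {g : Γ} (hg : g ∈ Bo π) (hcop : (orderOf g).Coprime q) :
    π g = 1 := by
  have h1 : QuotientGroup.mk' π.ker g ∈ pCore q (Γ ⧸ π.ker) := hg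
  obtain ⟨k, hk⟩ := Cfsg.Agent.Lib.Basic.SylowUtil.orderOf_eq_pow_of_isPGroup (pCore_isPGroup q) h1
  have hdvd : orderOf (QuotientGroup.mk' π.ker g) ∣ orderOf g := orderOf_map_dvd _ g
  have h2 : QuotientGroup.mk' π.ker g = 1 := by
    apply orderOf_eq_one_iff.mp
    rw [hk] at hdvd ⊢
    have h3 : Nat.Coprime (q ^ k) (orderOf g) := Nat.Coprime.pow_left k hcop.symm
    exact Nat.Coprime.eq_one_of_dvd h3 hdvd
  exact (QuotientGroup.eq_one_iff g).mp h2

/-- **The core of the section argument.** -/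
theorem section_core [Finite Z] (hsol : Group.IsSolvable Γ) (hq2 : q ≠ 2) (π : Γ →* End (ZMod q) Z) {a : Γ}
    {n : ℕ} (hn : 2 ≤ n) (hq : 2 ^ n = q + 1) (hapow : a ^ 2 ^ n = 1) (hy : π (a ^ 2 ^ (n - 1)) ≠ 1)
    (hrank : finrank (ZMod q) (LinearMap.range (π a - 1)) ≤ 2)
    (hfix : π a * (1 + π (a ^ 2 ^ (n - 1))) = 1 + π (a ^ 2 ^ (n - 1))) : a ^ 2 ^ (n - 1) ∈ Bq π := by
  classical
  haveI : Fact (Nat.Prime 2) := ⟨Nat.prime_two⟩
  haveI : CharP (AlgebraicClosure (ZMod q)) q := inferInstance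
  haveI : Module.Finite (ZMod q) Z := Module.Finite.of_finite
  let K := AlgebraicClosure (ZMod q)
  let W := TensorProduct (ZMod q) K Z
  let πT : (Γ ⧸ π.ker) →* End (ZMod q) Z := QuotientGroup.lift π.ker π (fun x hx => hx)
  have hπT : ∀ g : Γ, πT (g : Γ ⧸ π.ker) = π g := fun g => rfl
  have hπTinj : Function.Injective πT := by
    intro x x' h
    obtain ⟨g, rfl⟩ := QuotientGroup.mk_surjective x
    obtain ⟨g', rfl⟩ := QuotientGroup.mk_surjective x'
    rw [hπT, hπT] at h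
    rw [QuotientGroup.eq]
    show π (g⁻¹ * g') = 1
    rw [map_mul π, ← h, ← map_mul π, inv_mul_cancel, map_one]
  let ρ : (Γ ⧸ π.ker) →* End K W := ((Module.End.baseChangeHom (ZMod q) K Z).toMonoidHom).comp πT
  have hρ : Function.Injective ρ := by
    intro x x' hxx
    apply hπTinj
    exact LinearMap.baseChangeHom_injective (ZMod q) Z K hxx
  have hρval : ∀ g : Γ, ρ (g : Γ ⧸ π.ker) = Module.End.baseChangeHom (ZMod q) K Z (π g) := fun g => rfl
  have hqK : (q : K) = 0 := CharP.cast_eq_zero K q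
  set â : Γ ⧸ π.ker := (a : Γ ⧸ π.ker) with hâ
  have hn1 : n - 1 + 1 = n := by omega
  have hty : IsType ρ â n := by
    refine ⟨?_, ?_, ?_⟩
    · have e := orderOf_eq_prime_pow (p := 2) (n := n - 1) (x := â) ?_ ?_
      · rw [e, hn1]
      · intro h1
        apply hy
        rw [hâ, ← QuotientGroup.mk_pow, QuotientGroup.eq_one_iff] at h1
        exact h1
      · rw [hn1, hâ, ← QuotientGroup.mk_pow, hapow]
        rfl
    · have e : ρ â - 1 = Module.End.baseChangeHom (ZMod q) K Z (π a - 1) := by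
        rw [map_sub, map_one]
        rfl
      rw [e]
      exact (finrank_range_baseChange_le (K := K) (π a - 1)).trans hrank
    · intro v
      have h1 := congrArg (Module.End.baseChangeHom (ZMod q) K Z) hfix
      rw [map_mul, map_add, map_one] at h1
      have h2 := LinearMap.congr_fun h1 v
      simp only [Module.End.mul_apply, LinearMap.add_apply, Module.End.one_apply] at h2
      have e1 : â ^ 2 ^ (n - 1) = ((a ^ 2 ^ (n - 1) : Γ) : Γ ⧸ π.ker) := by
        rw [hâ, QuotientGroup.mk_pow]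
      rw [e1]
      exact h2
  have h := lemma_z (K := K) (V := W) (inferInstance) hq2 hqK ρ hρ hn hty hq
  show _ ∈ _
  have e1 : â ^ 2 ^ (n - 1) = ((a ^ 2 ^ (n - 1) : Γ) : Γ ⧸ π.ker) := by
    rw [hâ, QuotientGroup.mk_pow]
  rw [e1] at h
  exact h

end core

section bridge

variable {X : Type*} [Group X] [Finite X] {q : ℕ} [Fact q.Prime]
variable {Z : Type*} [AddCommGroup Z] [Module (ZMod q) Z] [Finite Z]

/-- **From the type theorem to `O_{q,2}`.** -/
theorem section_y (Q R Γ : Subgroup X) (hq2 : q ≠ 2) (hcomm : ∀ u ∈ Q, ∀ g ∈ Q, u * g * u⁻¹ * g⁻¹ ∈ R)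
    (hΓQ : ∀ s ∈ Γ, ∀ g ∈ Q, s * g * s⁻¹ ∈ Q)
    (ψ : Q →* Multiplicative Z) (π : Γ →* End (ZMod q) Z) (hψ : Function.Surjective ψ)
    (hψR : ∀ g : Q, (g : X) ∈ R → ψ g = 1)
    (hπ : ∀ (s : Γ) (g : Q) (h : (s : X) * g * (s : X)⁻¹ ∈ Q),
      Multiplicative.toAdd (ψ ⟨_, h⟩) = π s (Multiplicative.toAdd (ψ g)))
    (hsol : Group.IsSolvable Γ) {a : Γ} {n : ℕ} (hn : 2 ≤ n) (hq : 2 ^ n = q + 1) (hapow : a ^ 2 ^ n = 1)
    (hcard : Nat.card (↥(commY Q ((a : X) ^ 2 ^ (n - 1))) ⧸ R.subgroupOf (commY Q ((a : X) ^ 2 ^ (n - 1)))) = q * q)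
    (hfix : ∀ g ∈ Q, (a : X) ^ 2 ^ (n - 1) * g * ((a : X) ^ 2 ^ (n - 1))⁻¹ * g⁻¹ ∈ R →
      (a : X) * g * (a : X)⁻¹ * g⁻¹ ∈ R) : a ^ 2 ^ (n - 1) ∈ Bq π := by
  classical
  by_cases hy1 : π (a ^ 2 ^ (n - 1)) = 1
  · exact ker_le_Bq π hy1
  haveI : Fact (Nat.Prime 2) := ⟨Nat.prime_two⟩
  have hq' : q.Prime := Fact.out
  haveI : Module.Finite (ZMod q) Z := Module.Finite.of_finite
  set y : Γ := a ^ 2 ^ (n - 1) with hy
  have hyc : (y : X) = (a : X) ^ 2 ^ (n - 1) := by
    rw [hy]; simp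
  rw [← hyc] at hcard hfix
  have hyQ : ∀ g ∈ Q, (y : X) * g * (y : X)⁻¹ ∈ Q := fun g hg => hΓQ y y.2 g hg
  have hle : commY Q (y : X) ≤ Q := commY_le hyQ
  have hsurj : ∀ v : Z, ∃ g : Q, Multiplicative.toAdd (ψ g) = v := by
    intro v
    obtain ⟨g, hg⟩ := hψ (Multiplicative.ofAdd v)
    exact ⟨g, by rw [hg]; rfl⟩
  have hadd : ∀ g g' : Q, Multiplicative.toAdd (ψ (g * g')) =
      Multiplicative.toAdd (ψ g) + Multiplicative.toAdd (ψ g') := by
    intro g g'
    rw [map_mul]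
    rfl
  have hneg : ∀ g : Q, Multiplicative.toAdd (ψ g⁻¹) = - Multiplicative.toAdd (ψ g) := by
    intro g
    rw [map_inv]
    rfl
  have hact : ∀ (s : Γ) (g : Q), π s (Multiplicative.toAdd (ψ g)) =
      Multiplicative.toAdd (ψ ⟨(s : X) * g * (s : X)⁻¹, hΓQ s s.2 g g.2⟩) :=
    fun s g => (hπ s g _).symm
  -- the rank of `y - 1`
  have hrky : finrank (ZMod q) (LinearMap.range (π y - 1)) ≤ 2 := by
    have hex : ∀ u : LinearMap.range (π y - 1), ∃ c : commY Q (y : X),
        Multiplicative.toAdd (ψ ⟨c, hle c.2⟩) = (u : Z) := by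
      rintro ⟨_, v, rfl⟩
      obtain ⟨g, rfl⟩ := hsurj v
      refine ⟨⟨(g : X)⁻¹ * ((y : X) * ((g : X)⁻¹)⁻¹ * (y : X)⁻¹), mem_commY (inv_mem g.2)⟩, ?_⟩
      have e : (⟨(g : X)⁻¹ * ((y : X) * ((g : X)⁻¹)⁻¹ * (y : X)⁻¹), hle (mem_commY (inv_mem g.2))⟩ : Q) =
          g⁻¹ * ⟨(y : X) * g * (y : X)⁻¹, hyQ g g.2⟩ := by
        apply Subtype.ext
        simp
      simp only [e, hadd, hneg, LinearMap.sub_apply, Module.End.one_apply, hact]
      abel
    choose cc hcc using hex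
    let f : LinearMap.range (π y - 1) → (↥(commY Q (y : X)) ⧸ R.subgroupOf (commY Q (y : X))) :=
      fun u => (cc u : ↥(commY Q (y : X)) ⧸ R.subgroupOf (commY Q (y : X)))
    have hf : Function.Injective f := by
      intro u u' huu
      have h1 : (cc u)⁻¹ * cc u' ∈ R.subgroupOf (commY Q (y : X)) := QuotientGroup.eq.mp huu
      rw [Subgroup.mem_subgroupOf] at h1
      have h2 := hψR ⟨((cc u)⁻¹ * cc u' : commY Q (y : X)), hle ((cc u)⁻¹ * cc u').2⟩ h1
      have e : (⟨((cc u)⁻¹ * cc u' : commY Q (y : X)), hle ((cc u)⁻¹ * cc u').2⟩ : Q) =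
          (⟨cc u, hle (cc u).2⟩ : Q)⁻¹ * ⟨cc u', hle (cc u').2⟩ := by
        apply Subtype.ext
        simp
      rw [e, map_mul, map_inv, inv_mul_eq_one] at h2
      apply Subtype.ext
      rw [← hcc u, ← hcc u', h2]
    have hcardU : Nat.card (LinearMap.range (π y - 1)) ≤ q * q := by
      rw [← hcard]
      exact Nat.card_le_card_of_injective f hf
    rw [Module.natCard_eq_pow_finrank (K := ZMod q), Nat.card_zmod, ← pow_two] at hcardU
    exact (Nat.pow_le_pow_iff_right hq'.one_lt).mp hcardU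
  -- the fixed points
  have hfix' : π a * (1 + π y) = 1 + π y := by
    ext v
    obtain ⟨g, rfl⟩ := hsurj v
    simp only [Module.End.mul_apply, LinearMap.add_apply, Module.End.one_apply, hact]
    set h : Q := ⟨(y : X) * g * (y : X)⁻¹, hyQ g g.2⟩ with hh
    rw [← hadd, hact, hadd g h]
    have hy2 : (y : X) * y = 1 := by
      rw [hyc, ← pow_add, ← two_mul]
      have e : 2 * 2 ^ (n - 1) = 2 ^ n := by
        rw [← pow_succ']
        congr 1
        omega
      rw [e]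
      have := congrArg Subtype.val hapow
      simpa using this
    have hyinv : (y : X)⁻¹ = y := (eq_inv_of_mul_eq_one_left hy2).symm
    have hg' : (g * h : Q).1 ∈ Q := (g * h).2
    have h1 : (a : X) * (g * h : Q).1 * (a : X)⁻¹ * (g * h : Q).1⁻¹ ∈ R := by
      apply hfix _ hg'
      have e3 : (y : X) * (h : X) * (y : X)⁻¹ = g := by
        calc (y : X) * (h : X) * (y : X)⁻¹ = ((y : X) * y) * g * ((y : X) * y)⁻¹ := by
              rw [hh]; group
          _ = g := by rw [hy2]; simp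
      have e4 : (y : X) * ((g : X) * h) * (y : X)⁻¹ = h * g := by
        calc (y : X) * ((g : X) * h) * (y : X)⁻¹ = ((y : X) * g * (y : X)⁻¹) * ((y : X) * h * (y : X)⁻¹) := by group
          _ = h * g := by rw [e3]
      have e : (y : X) * (g * h : Q).1 * (y : X)⁻¹ * (g * h : Q).1⁻¹ =
          (h : X) * g * (h : X)⁻¹ * (g : X)⁻¹ := by
        simp only [Subgroup.coe_mul]
        rw [e4]
        group
      rw [e]
      exact hcomm _ h.2 _ g.2
    have h2 : ψ ⟨(a : X) * (g * h : Q).1 * (a : X)⁻¹, hΓQ a a.2 _ hg'⟩ = ψ (g * h) := by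
      have h3 := hψR (⟨(a : X) * (g * h : Q).1 * (a : X)⁻¹, hΓQ a a.2 _ hg'⟩ * (g * h)⁻¹) h1
      rw [map_mul, map_inv, mul_inv_eq_one] at h3
      exact h3
    rw [← hadd]
    exact congrArg Multiplicative.toAdd h2
  -- the rank of `a - 1`
  have h2K : (2 : ZMod q) ≠ 0 := by
    intro h0
    have h1 : ((2 : ℕ) : ZMod q) = 0 := by exact_mod_cast h0
    rw [ZMod.natCast_eq_zero_iff] at h1
    exact hq2 ((Nat.prime_dvd_prime_iff_eq hq' Nat.prime_two).mp h1)
  have hcommay : π a * π y = π y * π a := by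
    rw [← map_mul π, ← map_mul π, hy]
    congr 1
    exact ((Commute.refl a).pow_right _).eq
  have hrka : finrank (ZMod q) (LinearMap.range (π a - 1)) ≤ 2 := by
    refine le_trans (Submodule.finrank_mono ?_) hrky
    rintro _ ⟨v, rfl⟩
    refine ⟨-(2 : ZMod q)⁻¹ • ((π a - 1) v), ?_⟩
    have h1 := LinearMap.congr_fun hfix' v
    simp only [Module.End.mul_apply, LinearMap.add_apply, Module.End.one_apply, map_add] at h1
    have h3 : π y (π a v) = π a (π y v) := by
      have := LinearMap.congr_fun hcommay v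
      simp only [Module.End.mul_apply] at this
      exact this.symm
    set A := (π a - 1) v with hA
    have hAval : A = π a v - v := by
      rw [hA]; simp
    have hyA : π y A = -A := by
      rw [hAval, map_sub, h3]
      have h4 : π a (π y v) = v + π y v - π a v := by
        rw [← h1]
        abel
      rw [h4]
      abel
    have h2inv : (2 : ZMod q)⁻¹ + (2 : ZMod q)⁻¹ = 1 := by
      rw [← two_mul, mul_inv_cancel₀ h2K]
    simp only [LinearMap.sub_apply, Module.End.one_apply, map_smul, hyA]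
    have : -(2 : ZMod q)⁻¹ • (-A - A) = ((2 : ZMod q)⁻¹ + (2 : ZMod q)⁻¹) • A := by
      rw [add_smul, neg_smul, smul_sub, smul_neg]
      abel
    rw [this, h2inv, one_smul]
  exact section_core hsol hq2 π hn hq hapow hy1 hrka hfix'

end bridge

end Cfsg.Agent.Lib.Gross.Section
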