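import Mathlib
import Cfsg.Agent.Lib.Gross.Section
import Cfsg.Agent.Lib.Gross.Weights
import Cfsg.Agent.Lib.Components.Fitting

/-!
# Involutions in linear groups without fixed points for their `2`-elements

Let `X` be a solvable linear group and `𝒜` a normal set of `2`-elements `a` with
`∑_{i < |a|} ρ(a)^i = 0`. Let `D` be generated by the involutions in the cyclic groups `⟨a⟩`. For an odd
prime `q` different from the characteristic, all `q'`-elements of the subgroup generated by the elements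
of odd order of `D` centralise `O_q(X)`.
-/

set_option autoImplicit false
set_option linter.unusedSectionVars false
set_option linter.style.haveILetI false

namespace Cfsg.Agent.Lib.Gross.TheoremU

open Module Cfsg Cfsg.Agent.Lib.Basic.PCore
open Cfsg.Agent.Lib.HallHigman.Reduce Cfsg.Agent.Lib.HallHigman.Block
open Cfsg.Agent.Lib.Ward Cfsg.Agent.Lib.Gross.Level Cfsg.Agent.Lib.Gross.Type Cfsg.Agent.Lib.Gross.Weights
open Cfsg.Agent.Lib.Gross.TTwo Cfsg.Agent.Lib.Gross.Section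
open scoped commutatorElement

universe u

variable {X : Type u} [Group X] [Finite X] {K : Type*} [Field K]
variable {V : Type*} [AddCommGroup V] [Module K V]

/-- The involutions in the cyclic groups generated by the elements of `𝒜`. -/
def lastSet (𝒜 : Set X) : Set X :=
  {y | ∃ a ∈ 𝒜, ∃ m : ℕ, 1 ≤ m ∧ orderOf a = 2 ^ m ∧ y = a ^ 2 ^ (m - 1)}

/-- The group generated by these involutions. -/
def lastD (𝒜 : Set X) : Subgroup X := Subgroup.closure (lastSet 𝒜)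

/-- The group generated by the elements of odd order of `D`. -/
def oddD (𝒜 : Set X) : Subgroup X := Subgroup.closure {g | g ∈ lastD 𝒜 ∧ Odd (orderOf g)}

theorem conj_mem_closure {s : Set X} (hs : ∀ g, ∀ x ∈ s, g * x * g⁻¹ ∈ s) (g : X) {x : X}
    (hx : x ∈ Subgroup.closure s) : g * x * g⁻¹ ∈ Subgroup.closure s := by
  induction hx using Subgroup.closure_induction with
  | mem x hx => exact Subgroup.subset_closure (hs g x hx)
  | one => simp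
  | mul x y _ _ hx hy =>
    have e : g * (x * y) * g⁻¹ = (g * x * g⁻¹) * (g * y * g⁻¹) := by group
    rw [e]
    exact mul_mem hx hy
  | inv x _ hx =>
    have e : g * x⁻¹ * g⁻¹ = (g * x * g⁻¹)⁻¹ := by group
    rw [e]
    exact inv_mem hx

theorem lastSet_conj {𝒜 : Set X} (h : ∀ g, ∀ a ∈ 𝒜, g * a * g⁻¹ ∈ 𝒜) (g : X) : ∀ y ∈ lastSet 𝒜, g * y * g⁻¹ ∈ lastSet 𝒜 := by
  rintro y ⟨a, ha, m, hm, hord, rfl⟩
  refine ⟨g * a * g⁻¹, h g a ha, m, hm, ?_, ?_⟩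
  · have e : g * a * g⁻¹ = MulAut.conj g a := rfl
    rw [e, MulEquiv.orderOf_eq, hord]
  · exact conj_pow.symm

theorem lastD_conj {𝒜 : Set X} (h : ∀ g, ∀ a ∈ 𝒜, g * a * g⁻¹ ∈ 𝒜) (g : X) {y : X} (hy : y ∈ lastD 𝒜) :
    g * y * g⁻¹ ∈ lastD 𝒜 := conj_mem_closure (lastSet_conj h) g hy

theorem oddD_conj {𝒜 : Set X} (h : ∀ g, ∀ a ∈ 𝒜, g * a * g⁻¹ ∈ 𝒜) (g : X) {y : X} (hy : y ∈ oddD 𝒜) :
    g * y * g⁻¹ ∈ oddD 𝒜 := by
  refine conj_mem_closure ?_ g hy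
  rintro g x ⟨h1, h2⟩
  refine ⟨lastD_conj h g h1, ?_⟩
  have e : g * x * g⁻¹ = MulAut.conj g x := rfl
  rw [e, MulEquiv.orderOf_eq]
  exact h2

theorem oddD_le_lastD (𝒜 : Set X) : oddD 𝒜 ≤ lastD 𝒜 := by
  rw [oddD, Subgroup.closure_le]
  exact fun g hg => hg.1

theorem card_ne_zero_of_pgroup {q : ℕ} [Fact q.Prime] (hqK : (q : K) ≠ 0) {Q : Subgroup X} (hQ : IsPGroup q Q) :
    (Nat.card Q : K) ≠ 0 := by
  obtain ⟨m, hm⟩ := IsPGroup.iff_card.mp hQ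
  rw [hm, Nat.cast_pow]
  exact pow_ne_zero _ hqK

/-- The weight step, with the conclusion that the power is not the whole. -/
theorem exists_level (ρ : X →* End K V) {a : X} {m : ℕ} (ha : a ^ 2 ^ m = 1) {U : Submodule K V}
    (hUa : ∀ v ∈ U, ρ a v ∈ U) (hs : ∀ v ∈ U, ∑ i ∈ Finset.range (2 ^ m), ρ (a ^ i) v = 0) (N : Subgroup X)
    (hN : a ∈ Subgroup.normalizer (N : Set X)) (lam : X → K) (hne : ∃ v ∈ U ⊓ wtSpace ρ N lam, v ≠ 0) :
    ∃ c, c < m ∧ a ^ 2 ^ c ∈ wtStab N lam ∧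
      ∀ v ∈ U ⊓ wtSpace ρ N lam, ∑ j ∈ Finset.range (2 ^ (m - c)), ρ ((a ^ 2 ^ c) ^ j) v = 0 := by
  haveI : Fact (Nat.Prime 2) := ⟨Nat.prime_two⟩
  obtain ⟨c, hc, h1, -, h3⟩ := weight_step_sum (p := 2) ρ a ha N hN lam U hUa hs
  obtain ⟨v, hv, hv0⟩ := hne
  refine ⟨c, lt_of_le_of_ne hc ?_, h1, h3⟩
  rintro rfl
  apply hv0
  have := h3 v hv
  simpa using this

theorem stab_inv {ρ : X →* End K V} {N : Subgroup X} {lam : X → K} {g : X} (hg : g ∈ wtStab N lam) :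
    ∀ v ∈ wtSpace ρ N lam, ρ g v ∈ wtSpace ρ N lam := by
  intro v hv
  have h1 := IsWt.conj hv (conj_of_norm hg.1)
  exact h1.congr fun z hz => hg.2 z hz

section key

variable [IsAlgClosed K] [FiniteDimensional K V]

/-- **The key step**: the elements act trivially on `Q / R`. -/
theorem key_step (hsol : Group.IsSolvable X) (ρ : X →* End K V) {q : ℕ} [Fact q.Prime] (hq2 : q ≠ 2)
    (hqK : (q : K) ≠ 0) (𝒜 : Set X)
    (h𝒜 : ∀ a ∈ 𝒜, ∀ m : ℕ, 1 ≤ m → orderOf a = 2 ^ m → ∀ v, ∑ i ∈ Finset.range (2 ^ m), ρ (a ^ i) v = 0)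
    (Q C₀ : Subgroup X) (hQn : Q.Normal) (hC₀n : C₀.Normal) (hQ : IsPGroup q Q) (hC₀Q : C₀ ≤ Q)
    (hcentral : ∀ c ∈ C₀, ∀ g ∈ Q, c * g = g * c) (hcomm : ∀ u ∈ Q, ∀ g ∈ Q, u * g * u⁻¹ * g⁻¹ ∈ C₀)
    (lam : X → K) (w₀ : V) (hw₀ : w₀ ∈ wtSpace ρ C₀ lam) (hw₀0 : w₀ ≠ 0) :
    ∀ z ∈ oddD 𝒜, (orderOf z).Coprime q → ∀ x ∈ Q,
      z * x * z⁻¹ * x⁻¹ ∈ centerOn ρ Q (wtSpace ρ C₀ lam) (wtSpace_inv hcentral) := by
  classical
  haveI : Fact (Nat.Prime 2) := ⟨Nat.prime_two⟩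
  set U₁ := wtSpace ρ C₀ lam with hU₁
  have hU₁Q : ∀ g ∈ Q, ∀ v ∈ U₁, ρ g v ∈ U₁ := wtSpace_inv hcentral
  set R := centerOn ρ Q U₁ hU₁Q with hR
  have hRQ : R ≤ Q := fun r hr => hr.1
  have hC₀R : C₀ ≤ R := le_centerOn hC₀Q hcentral hU₁Q
  have hcommR : ∀ u ∈ Q, ∀ g ∈ Q, u * g * u⁻¹ * g⁻¹ ∈ R := fun u hu g hg => hC₀R (hcomm u hu g hg)
  have hQK : (Nat.card Q : K) ≠ 0 := card_ne_zero_of_pgroup hqK hQ
  have hRK : (Nat.card R : K) ≠ 0 := card_ne_zero_of_pgroup hqK (hQ.to_le hRQ)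
  -- a weight of `R`
  have hRst : ∀ y ∈ R, ∀ w ∈ U₁, ρ y w ∈ U₁ := fun y hy => hU₁Q y hy.1
  have hRcm : ∀ y ∈ R, ∀ z ∈ R, ∀ w ∈ U₁, ρ y (ρ z w) = ρ z (ρ y w) :=
    fun y hy z hz w hw => hy.2 z hz.1 w hw
  have hnot0 : ¬ ∀ w ∈ U₁, (0 : End K V) w = w := by
    intro h
    apply hw₀0
    exact (h w₀ hw₀).symm
  obtain ⟨w₁, hw₁U, mu, hw₁mu, hw₁ne⟩ :=
    exists_wt_of_ne (ρ := ρ) (K := R) hRK (U := U₁) hRst hRcm (0 : End K V) hnot0
  have hw₁0 : w₁ ≠ 0 := fun h => hw₁ne (by simp [h])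
  set U₂ := U₁ ⊓ wtSpace ρ R mu with hU₂
  have hw₁U₂ : w₁ ∈ U₂ := Submodule.mem_inf.mpr ⟨hw₁U, hw₁mu⟩
  have hData : Data ρ Q R U₂ := data_of_weights hC₀Q hcentral hcomm hw₁U₂ hw₁0
  have hU₂0 : U₂ ≠ ⊥ := by
    intro h
    rw [h] at hw₁U₂
    exact hw₁0 (by simpa using hw₁U₂)
  -- the stabiliser
  set Γ : Subgroup X := wtStab C₀ lam ⊓ wtStab R mu with hΓ
  have hsolΓ : Group.IsSolvable Γ := inferInstance
  have hΓQ : ∀ s ∈ Γ, ∀ g ∈ Q, s * g * s⁻¹ ∈ Q := fun s _ g hg => hQn.conj_mem g hg s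
  have hΓR : ∀ s ∈ Γ, ∀ g ∈ R, s * g * s⁻¹ ∈ R := fun s hs g hg =>
    (Subgroup.mem_normalizer_iff.mp (Subgroup.mem_inf.mp hs).2.1 g).mp hg
  obtain ⟨Z, iZ, mZ, fZ, ψ, π, hψ, hψR, hπ, hburn⟩ := exists_section Q R Γ hQ hcommR hRQ hΓQ hΓR
  -- the involutions
  have hlast : ∀ y ∈ lastSet 𝒜, ∃ hy : y ∈ Γ, (⟨y, hy⟩ : Γ) ∈ Bq π := by
    rintro y ⟨a, ha, m, hm, hord, rfl⟩
    have hs := h𝒜 a ha m hm hord
    have hapow : a ^ 2 ^ m = 1 := by
      rw [← hord]; exact pow_orderOf_eq_one a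
    -- step 1
    obtain ⟨c₁, hc₁, hx₁, hs₁⟩ := exists_level ρ hapow (U := ⊤) (fun _ _ => trivial) (fun v _ => hs v) C₀
      (by rw [Subgroup.normalizer_eq_top_iff.mpr hC₀n]; trivial) lam ⟨w₀, ⟨trivial, hw₀⟩, hw₀0⟩
    set x₁ := a ^ 2 ^ c₁ with hx₁def
    have hx₁U : ∀ v ∈ U₁, ρ x₁ v ∈ U₁ := stab_inv hx₁
    have hordx₁ : orderOf x₁ = 2 ^ (m - c₁) := orderOf_pow_pow hord hc₁.le
    have hx₁pow : x₁ ^ 2 ^ (m - c₁) = 1 := by
      rw [← hordx₁]; exact pow_orderOf_eq_one _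
    have hx₁R : x₁ ∈ Subgroup.normalizer (R : Set X) :=
      mem_normalizer_centerOn (fun g hg => hQn.conj_mem g hg x₁) hx₁U
    -- step 2
    obtain ⟨c₂, hc₂, hx₂, hs₂⟩ := exists_level ρ hx₁pow (U := U₁) hx₁U
      (fun v hv => hs₁ v (Submodule.mem_inf.mpr ⟨trivial, hv⟩)) R hx₁R mu ⟨w₁, hw₁U₂, hw₁0⟩
    set x₂ := x₁ ^ 2 ^ c₂ with hx₂def
    have hx₂C : x₂ ∈ wtStab C₀ lam := pow_mem hx₁ _
    have hx₂Γ : x₂ ∈ Γ := Subgroup.mem_inf.mpr ⟨hx₂C, hx₂⟩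
    set n := m - c₁ - c₂ with hn
    have hn1 : 1 ≤ n := by omega
    have hordx₂ : orderOf x₂ = 2 ^ n := orderOf_pow_pow hordx₁ hc₂.le
    have hyeq : a ^ 2 ^ (m - 1) = x₂ ^ 2 ^ (n - 1) := by
      rw [hx₂def, hx₁def, ← pow_mul, ← pow_mul, ← pow_add, ← pow_add]
      congr 2
      omega
    have hyΓ : a ^ 2 ^ (m - 1) ∈ Γ := by
      rw [hyeq]
      exact pow_mem hx₂Γ _
    refine ⟨hyΓ, ?_⟩
    by_cases hne : ∃ g ∈ Q, a ^ 2 ^ (m - 1) * g * (a ^ 2 ^ (m - 1))⁻¹ * g⁻¹ ∉ R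
    · have hUa : ∀ v ∈ U₂, ρ x₂ v ∈ U₂ := by
        intro v hv
        obtain ⟨hv1, hv2⟩ := Submodule.mem_inf.mp hv
        exact Submodule.mem_inf.mpr ⟨stab_inv hx₂C v hv1, stab_inv hx₂ v hv2⟩
      have hRa : ∀ g ∈ Q, x₂ * g * x₂⁻¹ ∈ R ↔ g ∈ R := fun g _ =>
        (Subgroup.mem_normalizer_iff.mp hx₂.1 g).symm
      obtain ⟨hn2, hq, hcard, hfix⟩ := type_theorem ρ x₂ hn1 hordx₂ hq2 hQ hQK
        (fun g hg => hQn.conj_mem g hg x₂) hU₂0 hUa hData hRa hs₂ hyeq hne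
      let a₂ : Γ := ⟨x₂, hx₂Γ⟩
      have hapow₂ : a₂ ^ 2 ^ n = 1 := by
        apply Subtype.ext
        show x₂ ^ 2 ^ n = 1
        rw [← hordx₂]
        exact pow_orderOf_eq_one _
      have hres := section_y Q R Γ hq2 hcommR hΓQ ψ π hψ hψR hπ hsolΓ (a := a₂) hn2 hq hapow₂
        (by
          show Nat.card (↥(commY Q (x₂ ^ 2 ^ (n - 1))) ⧸ R.subgroupOf (commY Q (x₂ ^ 2 ^ (n - 1)))) = q * q
          rw [← hyeq]
          exact hcard)
        (by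
          intro g hg h'
          apply hfix g hg
          rw [hyeq]
          exact h')
      have e : (⟨a ^ 2 ^ (m - 1), hyΓ⟩ : Γ) = a₂ ^ 2 ^ (n - 1) := by
        apply Subtype.ext
        show a ^ 2 ^ (m - 1) = x₂ ^ 2 ^ (n - 1)
        exact hyeq
      rw [e]
      exact hres
    · push Not at hne
      apply ker_le_Bq
      ext v
      obtain ⟨g, hg⟩ := hψ (Multiplicative.ofAdd v)
      have hv : v = Multiplicative.toAdd (ψ g) := by rw [hg]; rfl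
      rw [hv, ← hπ _ g (hQn.conj_mem g g.2 _), Module.End.one_apply]
      have h1 := hψR (⟨a ^ 2 ^ (m - 1) * g * (a ^ 2 ^ (m - 1))⁻¹, hQn.conj_mem g g.2 _⟩ * g⁻¹) (hne g g.2)
      rw [map_mul, map_inv, mul_inv_eq_one] at h1
      exact congrArg Multiplicative.toAdd h1
  have hD : lastD 𝒜 ≤ (Bq π).map Γ.subtype := by
    rw [lastD, Subgroup.closure_le]
    intro y hy
    obtain ⟨hyΓ, hyB⟩ := hlast y hy
    exact ⟨⟨y, hyΓ⟩, hyB, rfl⟩
  have hOdd : oddD 𝒜 ≤ (Bo π).map Γ.subtype := by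
    rw [oddD, Subgroup.closure_le]
    rintro g ⟨hg, hodd⟩
    obtain ⟨s, hs, rfl⟩ := hD hg
    refine ⟨s, mem_Bo_of_odd π hs ?_, rfl⟩
    rw [← Subgroup.orderOf_coe]
    exact hodd
  intro z hz hzc x hx
  obtain ⟨s, hsBo, rfl⟩ := hOdd hz
  have hs1 : orderOf s = orderOf (Γ.subtype s) := (Subgroup.orderOf_coe s).symm
  have hπs : π s = 1 := eq_one_of_mem_Bo π hsBo (by rw [hs1]; exact hzc)
  exact hburn s (by rw [hs1]; exact hzc) hπs x hx

/-- **The main theorem.** -/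
theorem theorem_u (hsol : Group.IsSolvable X) (ρ : X →* End K V) (hρ : Function.Injective ρ) {q : ℕ}
    [Fact q.Prime] (hq2 : q ≠ 2) (hqK : (q : K) ≠ 0) (𝒜 : Set X) (hconj : ∀ g, ∀ a ∈ 𝒜, g * a * g⁻¹ ∈ 𝒜)
    (h𝒜 : ∀ a ∈ 𝒜, ∀ m : ℕ, 1 ≤ m → orderOf a = 2 ^ m → ∀ v, ∑ i ∈ Finset.range (2 ^ m), ρ (a ^ i) v = 0) :
    ∀ z ∈ oddD 𝒜, (orderOf z).Coprime q → ∀ x ∈ pCore q X, z * x * z⁻¹ = x := by
  classical
  haveI : Fact (Nat.Prime 2) := ⟨Nat.prime_two⟩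
  by_contra hcon
  push Not at hcon
  obtain ⟨z₀, hz₀, hz₀c, x₀, hx₀, hne₀⟩ := hcon
  let F : Set (Subgroup X) := {Q | Q.Normal ∧ Q ≤ pCore q X ∧
    ∃ z ∈ oddD 𝒜, (orderOf z).Coprime q ∧ ∃ x ∈ Q, z * x * z⁻¹ ≠ x}
  have hF : pCore q X ∈ F := ⟨pCore_normal q X, le_rfl, z₀, hz₀, hz₀c, x₀, hx₀, hne₀⟩
  obtain ⟨Q, ⟨hQn, hQle, z₁, hz₁, hz₁c, x₁, hx₁, hne₁⟩, hmin⟩ := F.toFinite.exists_minimal ⟨_, hF⟩
  have hQ : IsPGroup q Q := (pCore_isPGroup q).to_le hQle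
  -- `[Q, 𝒵] = Q`
  set Q₁ : Subgroup X := Subgroup.closure
    {c | ∃ z ∈ oddD 𝒜, (orderOf z).Coprime q ∧ ∃ x ∈ Q, c = z * x * z⁻¹ * x⁻¹} with hQ₁
  have hQ₁le : Q₁ ≤ Q := by
    rw [hQ₁, Subgroup.closure_le]
    rintro _ ⟨z, _, _, x, hx, rfl⟩
    exact mul_mem (hQn.conj_mem x hx z) (inv_mem hx)
  have hQ₁n : Q₁.Normal := by
    refine ⟨fun c hc g => conj_mem_closure ?_ g hc⟩
    rintro g _ ⟨z, hz, hzc, x, hx, rfl⟩
    refine ⟨g * z * g⁻¹, oddD_conj hconj g hz, ?_, g * x * g⁻¹, hQn.conj_mem x hx g, by group⟩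
    have e : g * z * g⁻¹ = MulAut.conj g z := rfl
    rw [e, MulEquiv.orderOf_eq]
    exact hzc
  have hQ₁F : Q₁ ∈ F := by
    refine ⟨hQ₁n, hQ₁le.trans hQle, ?_⟩
    by_contra hcon
    push Not at hcon
    set c := z₁ * x₁ * z₁⁻¹ * x₁⁻¹ with hc
    have hcQ₁ : c ∈ Q₁ := Subgroup.subset_closure ⟨z₁, hz₁, hz₁c, x₁, hx₁, rfl⟩
    have hfix := hcon z₁ hz₁ hz₁c c hcQ₁
    have hzx : z₁ * x₁ * z₁⁻¹ = c * x₁ := by rw [hc]; group
    have hpow : ∀ i : ℕ, z₁ ^ i * x₁ * (z₁ ^ i)⁻¹ = c ^ i * x₁ := by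
      intro i
      induction i with
      | zero => simp
      | succ i ih =>
        have hci : z₁ * c ^ i * z₁⁻¹ = c ^ i := by
          rw [← conj_pow, hfix]
        calc z₁ ^ (i + 1) * x₁ * (z₁ ^ (i + 1))⁻¹ = z₁ * (z₁ ^ i * x₁ * (z₁ ^ i)⁻¹) * z₁⁻¹ := by
              rw [pow_succ', mul_inv_rev]; group
          _ = (z₁ * c ^ i * z₁⁻¹) * (z₁ * x₁ * z₁⁻¹) := by rw [ih]; group
          _ = c ^ i * (c * x₁) := by rw [hci, hzx]
          _ = c ^ (i + 1) * x₁ := by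
              rw [pow_succ]
              exact (mul_assoc _ _ _).symm
    have h1 := hpow (orderOf z₁)
    rw [pow_orderOf_eq_one, one_mul, inv_one, mul_one] at h1
    have hck : c ^ orderOf z₁ = 1 := by
      have : c ^ orderOf z₁ * x₁ = 1 * x₁ := by rw [← h1, one_mul]
      exact mul_right_cancel this
    obtain ⟨e, he⟩ := Cfsg.Agent.Lib.Basic.SylowUtil.orderOf_eq_pow_of_isPGroup hQ (hQ₁le hcQ₁)
    have hdvd := orderOf_dvd_of_pow_eq_one hck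
    rw [he] at hdvd
    have h5 : Nat.Coprime (q ^ e) (orderOf z₁) := Nat.Coprime.pow_left e hz₁c.symm
    have h6 : q ^ e = 1 := Nat.Coprime.eq_one_of_dvd h5 hdvd
    have h7 : c = 1 := orderOf_eq_one_iff.mp (he.trans h6)
    apply hne₁
    rw [hzx, h7, one_mul]
  have hQQ₁ : Q ≤ Q₁ := hmin hQ₁F hQ₁le
  -- the commutator subgroup
  have hQbot : Q ≠ ⊥ := by
    intro h
    rw [h, Subgroup.mem_bot] at hx₁
    apply hne₁
    rw [hx₁]
    simp
  have hsolQ : Group.IsSolvable Q := inferInstance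
  have hlt := Cfsg.Agent.Lib.Components.Fitting.commutator_lt_of_solvable hQbot hsolQ
  haveI := hQn
  have hQ'n : (⁅Q, Q⁆ : Subgroup X).Normal := inferInstance
  have hQ'fix : ∀ z ∈ oddD 𝒜, (orderOf z).Coprime q → ∀ w ∈ (⁅Q, Q⁆ : Subgroup X), z * w * z⁻¹ = w := by
    by_contra hcon
    push Not at hcon
    obtain ⟨z, hz, hzc, w, hw, hwne⟩ := hcon
    have : (⁅Q, Q⁆ : Subgroup X) ∈ F := ⟨hQ'n, hlt.le.trans hQle, z, hz, hzc, w, hw, hwne⟩
    exact absurd (hmin this hlt.le) (not_le_of_gt hlt)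
  have hcen : Q ≤ Subgroup.centralizer ((⁅Q, Q⁆ : Subgroup X) : Set X) := by
    refine hQQ₁.trans ?_
    rw [hQ₁, Subgroup.closure_le]
    rintro _ ⟨z, hz, hzc, x, hx, rfl⟩
    show _ ∈ Subgroup.centralizer _
    rw [Subgroup.mem_centralizer_iff]
    intro w hw
    have hw₁ : x⁻¹ * w * x ∈ (⁅Q, Q⁆ : Subgroup X) := by
      have := hQ'n.conj_mem w hw x⁻¹
      simpa using this
    set w₁ := x⁻¹ * w * x with hw₁def
    have h1 : x⁻¹ * w = w₁ * x⁻¹ := by rw [hw₁def]; group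
    have h2 : z⁻¹ * w₁ = w₁ * z⁻¹ := by
      have := hQ'fix z hz hzc w₁ hw₁
      calc z⁻¹ * w₁ = z⁻¹ * (z * w₁ * z⁻¹) := by rw [this]
        _ = w₁ * z⁻¹ := by group
    have h3 : x * w₁ = w * x := by rw [hw₁def]; group
    have h4 : z * w = w * z := by
      have := hQ'fix z hz hzc w hw
      calc z * w = (z * w * z⁻¹) * z := by group
        _ = w * z := by rw [this]
    calc w * (z * x * z⁻¹ * x⁻¹) = (w * z) * x * z⁻¹ * x⁻¹ := by group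
      _ = z * (w * x) * z⁻¹ * x⁻¹ := by rw [← h4]; group
      _ = z * x * (w₁ * z⁻¹) * x⁻¹ := by rw [← h3]; group
      _ = z * x * z⁻¹ * (w₁ * x⁻¹) := by rw [← h2]; group
      _ = z * x * z⁻¹ * x⁻¹ * w := by rw [← h1]; group
  have hQK : (Nat.card Q : K) ≠ 0 := card_ne_zero_of_pgroup hqK hQ
  by_cases hab : ∀ u ∈ Q, ∀ g ∈ Q, u * g = g * u
  · -- abelian case
    have hlastc : lastD 𝒜 ≤ Subgroup.centralizer (Q : Set X) := by
      rw [lastD, Subgroup.closure_le]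
      rintro y ⟨a, ha, m, hm, hord, rfl⟩
      show _ ∈ Subgroup.centralizer _
      rw [Subgroup.mem_centralizer_iff]
      intro x hx
      have hapow : a ^ 2 ^ m = 1 := by
        rw [← hord]; exact pow_orderOf_eq_one a
      have hs := h𝒜 a ha m hm hord
      set y := a ^ 2 ^ (m - 1) with hy
      have hconjx : y⁻¹ * x * y = x := by
        apply hρ
        apply eq_of_forall_wt (ρ := ρ) hQK hab
        intro lam w hw
        by_cases hw0 : w = 0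
        · subst hw0
          simp
        have hmem : w ∈ (⊤ : Submodule K V) ⊓ wtSpace ρ Q lam := Submodule.mem_inf.mpr ⟨trivial, hw⟩
        obtain ⟨c, hc, hst, -⟩ := exists_level ρ hapow (U := ⊤) (fun _ _ => trivial) (fun v _ => hs v) Q
          (by rw [Subgroup.normalizer_eq_top_iff.mpr hQn]; trivial) lam ⟨w, hmem, hw0⟩
        have hyst : y ∈ wtStab Q lam := by
          have e : y = (a ^ 2 ^ c) ^ 2 ^ (m - 1 - c) := by
            rw [hy, ← pow_mul, ← pow_add]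
            congr 2
            omega
          rw [e]
          exact pow_mem hst _
        rw [hw _ (conj_of_norm hyst.1 x hx), hw x hx, hyst.2 x hx]
      calc x * y = y * (y⁻¹ * x * y) := by group
        _ = y * x := by rw [hconjx]
    have hzc := hlastc (oddD_le_lastD 𝒜 hz₁)
    rw [Subgroup.mem_centralizer_iff] at hzc
    apply hne₁
    rw [← hzc x₁ hx₁]
    group
  · -- non-abelian case
    apply hab
    set C₀ : Subgroup X := Q ⊓ Subgroup.centralizer (Q : Set X) with hC₀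
    have hC₀n : C₀.Normal := inferInstance
    have hC₀Q : C₀ ≤ Q := inf_le_left
    have hcentral : ∀ c ∈ C₀, ∀ g ∈ Q, c * g = g * c := by
      intro c hc g hg
      have h1 := (Subgroup.mem_inf.mp hc).2
      rw [Subgroup.mem_centralizer_iff] at h1
      exact (h1 g hg).symm
    have hcomm : ∀ u ∈ Q, ∀ g ∈ Q, u * g * u⁻¹ * g⁻¹ ∈ C₀ := by
      intro u hu g hg
      have h1 : u * g * u⁻¹ * g⁻¹ ∈ (⁅Q, Q⁆ : Subgroup X) := by
        have := Subgroup.commutator_mem_commutator hu hg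
        rwa [commutatorElement_def] at this
      refine Subgroup.mem_inf.mpr ⟨hlt.le h1, ?_⟩
      rw [Subgroup.mem_centralizer_iff]
      intro h hh
      have h2 := hcen hh
      rw [Subgroup.mem_centralizer_iff] at h2
      exact (h2 _ h1).symm
    have hC₀K : (Nat.card C₀ : K) ≠ 0 := card_ne_zero_of_pgroup hqK (hQ.to_le hC₀Q)
    have hC₀c : ∀ x ∈ C₀, ∀ y ∈ C₀, x * y = y * x := fun x hx y hy => hcentral x hx y (hC₀Q hy)
    intro u hu g hg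
    set c := u * g * u⁻¹ * g⁻¹ with hc
    have hcC : c ∈ C₀ := hcomm u hu g hg
    have hc1 : c = 1 := by
      apply hρ
      rw [map_one]
      apply eq_of_forall_wt (ρ := ρ) hC₀K hC₀c
      intro lam w hw
      rw [Module.End.one_apply]
      by_cases hw0 : w = 0
      · subst hw0
        simp
      have hkey := key_step hsol ρ hq2 hqK 𝒜 h𝒜 Q C₀ hQn hC₀n hQ hC₀Q hcentral hcomm lam w hw hw0
      have hle : Q ≤ centerOn ρ Q (wtSpace ρ C₀ lam) (wtSpace_inv hcentral) := by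
        refine hQQ₁.trans ?_
        rw [hQ₁, Subgroup.closure_le]
        rintro _ ⟨z, hz, hzc, x, hx, rfl⟩
        exact hkey z hz hzc x hx
      have hgc := (hle hg).2 u hu w hw
      -- the vector `w' = ρ (g u) w`
      set w' := ρ (g * u) w with hw'
      have hw'0 : w' ≠ 0 := fun h0 => hw0 ((rho_eq_zero_iff ρ (g * u) w).mp h0)
      have hw'U : w' ∈ wtSpace ρ C₀ lam := by
        have h1 : ρ u w ∈ wtSpace ρ C₀ lam := wtSpace_inv hcentral u hu w hw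
        have h2 := wtSpace_inv hcentral g hg _ h1
        rw [hw', rho_mul]
        exact h2
      have hcw' : ρ c w' = w' := by
        have e : c * (g * u) = u * g := by rw [hc]; group
        rw [hw', ← rho_mul, e, rho_mul, rho_mul]
        exact hgc.symm
      have hlam : lam c = 1 := by
        have h2 := hw'U c hcC
        rw [hcw'] at h2
        have h3 : (lam c - 1) • w' = 0 := by
          rw [sub_smul, one_smul, ← h2, sub_self]
        exact sub_eq_zero.mp ((smul_eq_zero.mp h3).resolve_right hw'0)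
      rw [hw c hcC, hlam, one_smul]
    calc u * g = (u * g * u⁻¹ * g⁻¹) * (g * u) := by group
      _ = g * u := by rw [← hc, hc1, one_mul]

end key

end Cfsg.Agent.Lib.Gross.TheoremU
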