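import Mathlib
import Cfsg.Agent.Lib.Gross.TheoremU

/-!
# An active weight for the last power of an element without a full Jordan block

Let `a` be a `2`-element of a solvable linear group with `∑_{i < |a|} ρ(a)^i = 0`, let `t` be the involution
of `⟨a⟩`, and suppose that `t` does not centralise `O_q(X)`. Then `t` acts non-trivially on a weight space
with a non-trivial weight of an abelian normal `q`-subgroup.
-/

set_option autoImplicit false
set_option linter.unusedSectionVars false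
set_option linter.style.haveILetI false

namespace Cfsg.Agent.Lib.Gross.Active

open Module Cfsg Cfsg.Agent.Lib.Basic.PCore
open Cfsg.Agent.Lib.HallHigman.Reduce Cfsg.Agent.Lib.HallHigman.Block
open Cfsg.Agent.Lib.Ward Cfsg.Agent.Lib.Gross.Level Cfsg.Agent.Lib.Gross.Type Cfsg.Agent.Lib.Gross.Weights
open Cfsg.Agent.Lib.Gross.TTwo Cfsg.Agent.Lib.Gross.Section Cfsg.Agent.Lib.Gross.TheoremU
open scoped commutatorElement

universe u

variable {X : Type u} [Group X] [Finite X] {K : Type*} [Field K]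
variable {V : Type*} [AddCommGroup V] [Module K V]

section main

variable [IsAlgClosed K] [FiniteDimensional K V]

/-- The involution of `⟨a⟩` stabilises each weight of a normal subgroup. -/
theorem last_mem_wtStab (ρ : X →* End K V) {a : X} {m : ℕ} (hm : 1 ≤ m) (hord : orderOf a = 2 ^ m)
    (hs : ∀ v, ∑ i ∈ Finset.range (2 ^ m), ρ (a ^ i) v = 0) {N : Subgroup X} (hN : N.Normal) {lam : X → K} {w : V}
    (hw : IsWt ρ N lam w) (hw0 : w ≠ 0) : a ^ 2 ^ (m - 1) ∈ wtStab N lam := by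
  have hapow : a ^ 2 ^ m = 1 := by
    rw [← hord]; exact pow_orderOf_eq_one a
  have hmem : w ∈ (⊤ : Submodule K V) ⊓ wtSpace ρ N lam := Submodule.mem_inf.mpr ⟨trivial, hw⟩
  obtain ⟨c, hc, hst, -⟩ := exists_level ρ hapow (U := ⊤) (fun _ _ => trivial) (fun v _ => hs v) N
    (by rw [Subgroup.normalizer_eq_top_iff.mpr hN]; trivial) lam ⟨w, hmem, hw0⟩
  have e : a ^ 2 ^ (m - 1) = (a ^ 2 ^ c) ^ 2 ^ (m - 1 - c) := by
    rw [← pow_mul, ← pow_add]
    congr 2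
    omega
  rw [e]
  exact pow_mem hst _

/-- The involution of `⟨a⟩` centralises abelian normal subgroups. -/
theorem last_centralizes_abelian (ρ : X →* End K V) (hρ : Function.Injective ρ) {a : X} {m : ℕ} (hm : 1 ≤ m)
    (hord : orderOf a = 2 ^ m) (hs : ∀ v, ∑ i ∈ Finset.range (2 ^ m), ρ (a ^ i) v = 0) {Q : Subgroup X}
    (hQn : Q.Normal) (hQK : (Nat.card Q : K) ≠ 0) (hab : ∀ u ∈ Q, ∀ g ∈ Q, u * g = g * u) :
    ∀ x ∈ Q, a ^ 2 ^ (m - 1) * x = x * a ^ 2 ^ (m - 1) := by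
  intro x hx
  set y := a ^ 2 ^ (m - 1) with hy
  have hconjx : y⁻¹ * x * y = x := by
    apply hρ
    apply eq_of_forall_wt (ρ := ρ) hQK hab
    intro lam w hw
    by_cases hw0 : w = 0
    · subst hw0
      simp
    have hyst : y ∈ wtStab Q lam := last_mem_wtStab ρ hm hord hs hQn hw hw0
    rw [hw _ (conj_of_norm hyst.1 x hx), hw x hx, hyst.2 x hx]
  calc y * x = y * (y⁻¹ * x * y) * y⁻¹ * y := by rw [hconjx]; group
    _ = x * y := by group

/-- **The active weight.** -/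
theorem exists_active (hsol : Group.IsSolvable X) (ρ : X →* End K V) (hρ : Function.Injective ρ) {q : ℕ}
    [Fact q.Prime] (hq2 : q ≠ 2) (hqK : (q : K) ≠ 0) {a : X} {m : ℕ} (hm : 1 ≤ m) (hord : orderOf a = 2 ^ m)
    (hs : ∀ v, ∑ i ∈ Finset.range (2 ^ m), ρ (a ^ i) v = 0)
    (hne : ∃ x ∈ pCore q X, a ^ 2 ^ (m - 1) * x * (a ^ 2 ^ (m - 1))⁻¹ ≠ x) :
    ∃ C : Subgroup X, C.Normal ∧ IsPGroup q C ∧ (∀ c ∈ C, ∀ d ∈ C, c * d = d * c) ∧
      ∃ (lam : X → K) (w : V), IsWt ρ C lam w ∧ ρ (a ^ 2 ^ (m - 1)) w ≠ w ∧ ∃ c ∈ C, lam c ≠ 1 := by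
  classical
  haveI : Fact (Nat.Prime 2) := ⟨Nat.prime_two⟩
  have hapow : a ^ 2 ^ m = 1 := by
    rw [← hord]; exact pow_orderOf_eq_one a
  set t := a ^ 2 ^ (m - 1) with ht
  have ht2 : t * t = 1 := by
    rw [ht, ← pow_add, ← two_mul]
    have e : 2 * 2 ^ (m - 1) = 2 ^ m := by
      rw [← pow_succ']
      congr 1
      omega
    rw [e, hapow]
  have htinv : t⁻¹ = t := (eq_inv_of_mul_eq_one_left ht2).symm
  let F : Set (Subgroup X) := {Q | Q.Normal ∧ Q ≤ pCore q X ∧ ∃ x ∈ Q, t * x * t⁻¹ ≠ x}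
  obtain ⟨x₀, hx₀, hne₀⟩ := hne
  have hF : pCore q X ∈ F := ⟨pCore_normal q X, le_rfl, x₀, hx₀, hne₀⟩
  obtain ⟨Q, ⟨hQn, hQle, x₁, hx₁, hne₁⟩, hmin⟩ := F.toFinite.exists_minimal ⟨_, hF⟩
  have hQ : IsPGroup q Q := (pCore_isPGroup q).to_le hQle
  have hqodd : Odd q := Nat.Prime.odd_of_ne_two Fact.out hq2
  -- `[Q, t^X] = Q`
  set Q₁ : Subgroup X := Subgroup.closure
    {c | ∃ g : X, ∃ x ∈ Q, c = (g * t * g⁻¹) * x * (g * t * g⁻¹)⁻¹ * x⁻¹} with hQ₁
  have hQ₁le : Q₁ ≤ Q := by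
    rw [hQ₁, Subgroup.closure_le]
    rintro _ ⟨g, x, hx, rfl⟩
    exact mul_mem (hQn.conj_mem x hx _) (inv_mem hx)
  have hQ₁n : Q₁.Normal := by
    refine ⟨fun c hc g => conj_mem_closure ?_ g hc⟩
    rintro g _ ⟨h, x, hx, rfl⟩
    refine ⟨g * h, g * x * g⁻¹, hQn.conj_mem x hx g, by group⟩
  have hQ₁F : Q₁ ∈ F := by
    refine ⟨hQ₁n, hQ₁le.trans hQle, ?_⟩
    by_contra hcon
    push Not at hcon
    set c := t * x₁ * t⁻¹ * x₁⁻¹ with hc
    have hcQ₁ : c ∈ Q₁ := Subgroup.subset_closure ⟨1, x₁, hx₁, by rw [hc]; simp⟩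
    have hfix := hcon c hcQ₁
    have hzx : t * x₁ * t⁻¹ = c * x₁ := by rw [hc]; group
    have h1 : x₁ = c * c * x₁ := by
      have h2 : t * (t * x₁ * t⁻¹) * t⁻¹ = x₁ := by
        calc t * (t * x₁ * t⁻¹) * t⁻¹ = (t * t) * x₁ * (t * t)⁻¹ := by group
          _ = x₁ := by rw [ht2]; simp
      rw [hzx] at h2
      have h3 : t * (c * x₁) * t⁻¹ = (t * c * t⁻¹) * (t * x₁ * t⁻¹) := by group
      rw [h3, hfix, hzx] at h2
      rw [← mul_assoc] at h2
      exact h2.symm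
    have hcc : c * c = 1 := by
      have : c * c * x₁ = 1 * x₁ := by rw [← h1, one_mul]
      exact mul_right_cancel this
    obtain ⟨e, he⟩ := Cfsg.Agent.Lib.Basic.SylowUtil.orderOf_eq_pow_of_isPGroup hQ (hQ₁le hcQ₁)
    have hdvd : orderOf c ∣ 2 := orderOf_dvd_of_pow_eq_one (by rw [pow_two]; exact hcc)
    rw [he] at hdvd
    have h5 : Nat.Coprime (q ^ e) 2 := Nat.Coprime.pow_left e (Nat.coprime_two_right.mpr hqodd)
    have h6 : q ^ e = 1 := Nat.Coprime.eq_one_of_dvd h5 hdvd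
    have h7 : c = 1 := orderOf_eq_one_iff.mp (he.trans h6)
    apply hne₁
    rw [hzx, h7, one_mul]
  have hQQ₁ : Q ≤ Q₁ := hmin hQ₁F hQ₁le
  have hQbot : Q ≠ ⊥ := by
    intro h
    rw [h, Subgroup.mem_bot] at hx₁
    apply hne₁
    rw [hx₁]
    simp
  have hsolQ : Group.IsSolvable Q := inferInstance
  have hlt := Cfsg.Agent.Lib.Components.Fitting.commutator_lt_of_solvable hQbot hsolQ
  haveI := hQn
  have hQ'n : (⁅Q, Q⁆ : Subgroup X).Normal := inferInstance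
  have hQ'fix : ∀ w ∈ (⁅Q, Q⁆ : Subgroup X), t * w * t⁻¹ = w := by
    by_contra hcon
    push Not at hcon
    obtain ⟨w, hw, hwne⟩ := hcon
    have : (⁅Q, Q⁆ : Subgroup X) ∈ F := ⟨hQ'n, hlt.le.trans hQle, w, hw, hwne⟩
    exact absurd (hmin this hlt.le) (not_le_of_gt hlt)
  have hQ'fixg : ∀ g : X, ∀ w ∈ (⁅Q, Q⁆ : Subgroup X), (g * t * g⁻¹) * w * (g * t * g⁻¹)⁻¹ = w := by
    intro g w hw
    have h1 := hQ'fix (g⁻¹ * w * g) (by
      have := hQ'n.conj_mem w hw g⁻¹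
      simpa using this)
    calc (g * t * g⁻¹) * w * (g * t * g⁻¹)⁻¹ = g * (t * (g⁻¹ * w * g) * t⁻¹) * g⁻¹ := by group
      _ = w := by rw [h1]; group
  have hcen : Q ≤ Subgroup.centralizer ((⁅Q, Q⁆ : Subgroup X) : Set X) := by
    refine hQQ₁.trans ?_
    rw [hQ₁, Subgroup.closure_le]
    rintro _ ⟨g, x, hx, rfl⟩
    show _ ∈ Subgroup.centralizer _
    rw [Subgroup.mem_centralizer_iff]
    intro w hw
    set z := g * t * g⁻¹ with hz
    have hw₁ : x⁻¹ * w * x ∈ (⁅Q, Q⁆ : Subgroup X) := by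
      have := hQ'n.conj_mem w hw x⁻¹
      simpa using this
    set w₁ := x⁻¹ * w * x with hw₁def
    have h1 : x⁻¹ * w = w₁ * x⁻¹ := by rw [hw₁def]; group
    have h2 : z⁻¹ * w₁ = w₁ * z⁻¹ := by
      have := hQ'fixg g w₁ hw₁
      rw [← hz] at this
      calc z⁻¹ * w₁ = z⁻¹ * (z * w₁ * z⁻¹) := by rw [this]
        _ = w₁ * z⁻¹ := by group
    have h3 : x * w₁ = w * x := by rw [hw₁def]; group
    have h4 : z * w = w * z := by
      have := hQ'fixg g w hw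
      rw [← hz] at this
      calc z * w = (z * w * z⁻¹) * z := by group
        _ = w * z := by rw [this]
    calc w * (z * x * z⁻¹ * x⁻¹) = (w * z) * x * z⁻¹ * x⁻¹ := by group
      _ = z * (w * x) * z⁻¹ * x⁻¹ := by rw [← h4]; group
      _ = z * x * (w₁ * z⁻¹) * x⁻¹ := by rw [← h3]; group
      _ = z * x * z⁻¹ * (w₁ * x⁻¹) := by rw [← h2]; group
      _ = z * x * z⁻¹ * x⁻¹ * w := by rw [← h1]; group
  have hQK : (Nat.card Q : K) ≠ 0 := card_ne_zero_of_pgroup hqK hQ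
  have hab : ¬ ∀ u ∈ Q, ∀ g ∈ Q, u * g = g * u := by
    intro hab
    apply hne₁
    have := last_centralizes_abelian ρ hρ hm hord hs hQn hQK hab x₁ hx₁
    rw [← ht] at this
    rw [this]
    group
  set C₀ : Subgroup X := Q ⊓ Subgroup.centralizer (Q : Set X) with hC₀
  have hC₀n : C₀.Normal := inferInstance
  have hC₀Q : C₀ ≤ Q := inf_le_left
  have hcentral : ∀ c ∈ C₀, ∀ g ∈ Q, c * g = g * c := by
    intro c hc g hg
    have h1 := (Subgroup.mem_inf.mp hc).2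
    rw [Subgroup.mem_centralizer_iff] at h1
    exact (h1 g hg).symm
  have hcomm : ∀ u ∈ Q, ∀ g ∈ Q, u * g * u⁻¹ * g⁻¹ ∈ C₀ := by
    intro u hu g hg
    have h1 : u * g * u⁻¹ * g⁻¹ ∈ (⁅Q, Q⁆ : Subgroup X) := by
      have := Subgroup.commutator_mem_commutator hu hg
      rwa [commutatorElement_def] at this
    refine Subgroup.mem_inf.mpr ⟨hlt.le h1, ?_⟩
    rw [Subgroup.mem_centralizer_iff]
    intro h hh
    have h2 := hcen hh
    rw [Subgroup.mem_centralizer_iff] at h2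
    exact (h2 _ h1).symm
  have hC₀K : (Nat.card C₀ : K) ≠ 0 := card_ne_zero_of_pgroup hqK (hQ.to_le hC₀Q)
  have hC₀c : ∀ x ∈ C₀, ∀ y ∈ C₀, x * y = y * x := fun x hx y hy => hcentral x hx y (hC₀Q hy)
  have htQ : t * x₁ * t⁻¹ ∈ Q := hQn.conj_mem x₁ hx₁ t
  -- a weight where `t x t⁻¹` and `x` differ
  have hne₂ : ρ (t * x₁ * t⁻¹) ≠ ρ x₁ := fun h => hne₁ (hρ h)
  obtain ⟨lam, w, hw, hwne⟩ : ∃ (lam : X → K) (w : V), IsWt ρ C₀ lam w ∧ ρ (t * x₁ * t⁻¹) w ≠ ρ x₁ w := by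
    by_contra hcon
    push Not at hcon
    exact hne₂ (eq_of_forall_wt (ρ := ρ) hC₀K hC₀c _ _ fun lam w hw => hcon lam w hw)
  refine ⟨C₀, hC₀n, hQ.to_le hC₀Q, hC₀c, lam, ?_⟩
  have hinv : ∀ g ∈ Q, ∀ v ∈ wtSpace ρ C₀ lam, ρ g v ∈ wtSpace ρ C₀ lam := wtSpace_inv hcentral
  -- `t` is non-trivial on the weight space
  have hact : ∃ v, IsWt ρ C₀ lam v ∧ ρ t v ≠ v := by
    by_contra hcon
    push Not at hcon
    apply hwne
    have h1 : ρ t⁻¹ w = w := by rw [htinv]; exact hcon w hw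
    have h2 : ρ x₁ w ∈ wtSpace ρ C₀ lam := hinv x₁ hx₁ w hw
    rw [rho_mul, rho_mul, h1]
    exact hcon _ h2
  -- the weight is not trivial
  have hnontriv : ∃ c ∈ C₀, lam c ≠ 1 := by
    by_contra hcon
    push Not at hcon
    have hst : ∀ y ∈ Q, ∀ v ∈ wtSpace ρ C₀ lam, ρ y v ∈ wtSpace ρ C₀ lam := hinv
    have hcm : ∀ y ∈ Q, ∀ z ∈ Q, ∀ v ∈ wtSpace ρ C₀ lam, ρ y (ρ z v) = ρ z (ρ y v) := by
      intro y hy z hz v hv
      have h1 : ρ z (ρ y v) ∈ wtSpace ρ C₀ lam := hinv z hz _ (hinv y hy v hv)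
      have h2 := h1 (y * z * y⁻¹ * z⁻¹) (hcomm y hy z hz)
      rw [hcon _ (hcomm y hy z hz), one_smul] at h2
      rw [← h2, ← rho_mul, ← rho_mul, ← rho_mul]
      congr 2
      group
    have hf : ¬ ∀ v ∈ wtSpace ρ C₀ lam, ρ (x₁⁻¹ * (t * x₁ * t⁻¹)) v = v := by
      intro h
      apply hwne
      have := h w hw
      rw [rho_mul] at this
      have h3 : ρ x₁ (ρ x₁⁻¹ (ρ (t * x₁ * t⁻¹) w)) = ρ x₁ w := by rw [this]
      rw [← rho_mul, mul_inv_cancel] at h3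
      simpa using h3
    obtain ⟨w₂, hw₂U, mu, hmu, hw₂ne⟩ := exists_wt_of_ne (ρ := ρ) (K := Q) hQK hst hcm _ hf
    have hw₂0 : w₂ ≠ 0 := fun h => hw₂ne (by simp [h])
    have hyst : t ∈ wtStab Q mu := last_mem_wtStab ρ hm hord hs hQn hmu hw₂0
    apply hw₂ne
    have h5 : mu (t⁻¹ * (t * x₁ * t⁻¹) * t) = mu (t * x₁ * t⁻¹) := hyst.2 _ htQ
    have e5 : t⁻¹ * (t * x₁ * t⁻¹) * t = x₁ := by group
    rw [e5] at h5
    have h6 : ρ x₁⁻¹ (ρ x₁ w₂) = w₂ := by
      rw [← rho_mul, inv_mul_cancel]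
      simp
    rw [hmu x₁ hx₁, map_smul] at h6
    rw [rho_mul, hmu _ htQ, ← h5, map_smul]
    exact h6
  obtain ⟨v, hv, hvne⟩ := hact
  exact ⟨v, hv, hvne, hnontriv⟩

end main

/-- A non-trivial `2`-element of a solvable group without normal `2`-subgroups does not centralise some
`O_q(X)`, `q` odd. -/
theorem exists_core_moved (hsol : Group.IsSolvable X) (hO2 : pCore 2 X = ⊥) {z : X} (hz2 : orderOf z = 2) :
    ∃ q : ℕ, q.Prime ∧ q ≠ 2 ∧ ∃ x ∈ pCore q X, z * x * z⁻¹ ≠ x := by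
  classical
  haveI : Fact (Nat.Prime 2) := ⟨Nat.prime_two⟩
  by_contra hcon
  push Not at hcon
  have hFc : ∀ x ∈ fittingSubgroup X, z * x = x * z := by
    intro x hx
    have hle : fittingSubgroup X ≤ Subgroup.centralizer ({z} : Set X) := by
      rw [fittingSubgroup_eq_iSup_pCore]
      refine iSup_le ?_
      rintro ⟨t, ht⟩ u hu
      rw [Subgroup.mem_centralizer_iff]
      intro w hw
      rw [Set.mem_singleton_iff.mp hw]
      have htp := Nat.prime_of_mem_primeFactors ht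
      by_cases ht2 : t = 2
      · subst ht2
        rw [hO2, Subgroup.mem_bot] at hu
        rw [hu]
        simp
      · have h1 := hcon t htp ht2 u hu
        calc z * u = (z * u * z⁻¹) * z := by group
          _ = u * z := by rw [h1]
    exact Subgroup.mem_centralizer_iff.mp (hle hx) z rfl
  have hzF : z ∈ fittingSubgroup X := by
    set C := Subgroup.centralizer (fittingSubgroup X : Set X) with hC
    haveI : C.Normal := inferInstance
    have hsolC : Group.IsSolvable C := inferInstance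
    have h1 : C ≤ fittingSubgroup X :=
      Cfsg.Agent.Lib.Components.Fitting.le_fitting_of_solvable_of_le_centralizer C le_rfl
        (by
          rw [Subgroup.normalizer_eq_top_iff.mpr ‹C.Normal›]
          exact le_top) hsolC
    apply h1
    rw [Subgroup.mem_centralizer_iff]
    intro x hx
    exact (hFc x hx).symm
  have hz1 := mem_pCore_of_normal_nilpotent (fittingSubgroup_normal X) fittingSubgroup_isNilpotent hzF
    Nat.prime_two (k := 1) (by rw [hz2, pow_one])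
  rw [hO2, Subgroup.mem_bot] at hz1
  rw [hz1, orderOf_one] at hz2
  omega

end Cfsg.Agent.Lib.Gross.Active
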